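import Groth.Agent.ShStab.K94.Main2

/-!
# No semistable extension of a twisted point ideal when the self-intersection is at least five
-/

set_option autoImplicit false
set_option linter.unusedSectionVars false
set_option linter.overlappingInstances false
universe u
open CategoryTheory CategoryTheory.Limits AlgebraicGeometry Opposite TopologicalSpace Module

namespace K94.Main3

open Groth.Agent Groth.Agent.Fga.PicMon Groth.Agent.Grpsch.PicGrp Groth.Agent.Fdesc.LocGen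
open K433.Hq K848.Rank K848.Stab K848.Hull K848.HB K848.Poly StabCat ShStab K849.Cst K849.CstDeg K849.CstTor
open K94.Emb K94.Tw K94.Ext K94.Sym K94.Est K94.Deg K94.Deg2 K94.Deg4 K94.Van K94.DegP K94.Low K94.Cur K94.Cur2
open K94.Main1 K94.Main2 K94.Point

variable (k : Type u) [Field k] {X : Scheme.{u}} [X.Over (Spec (CommRingCat.of k))] [IsIntegral X]
  [IsProper (X ↘ Spec (CommRingCat.of k))] [IsNoetherian X]
  {H : X.Modules} (hH : CohB1.IsAmple H) (hdim : topologicalKrullDim X = (2 : ℕ))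
  {A : Lt X (Polynomial X.functionField)} {Λ : Lt X X.functionField} {x : X} (hΛ : PicF.IsInvertible Λ.M)

theorem ch_pw (n j : ℕ) : ((ch k (rep (bcl hΛ hH n)) (Pw Λ hΛ j).M : ℤ) : ℚ) =
    (hp k Λ.M (rep (mk H hH.1)⁻¹)).eval ((j : ℚ) - n) := by
  have h := eval_zpow k hΛ (mk H hH.1)⁻¹ ((j : ℤ) - n)
  push_cast at h
  rw [← h]
  unfold ch
  have hc : Coh.IsCoh (CohB1.tensorMod (Pw Λ hΛ j).M (rep (bcl hΛ hH n))) :=
    K848.Rank.isCoh_of_isInvertible (isInvertible_tensorMod (isInvertible_Pw Λ hΛ j) (rep_inv _))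
  have e : Nonempty (CohB1.tensorMod (Pw Λ hΛ j).M (rep (bcl hΛ hH n)) ≅
      rep (mk Λ.M hΛ ^ ((j : ℤ) - n) * (mk H hH.1)⁻¹)) := by
    rw [← mc_eq_iff]
    have h1 : mk Λ.M hΛ ^ ((j : ℤ) - n) * (mk H hH.1)⁻¹ = mk Λ.M hΛ ^ (j : ℤ) * bcl hΛ hH n := by
      unfold bcl
      rw [zpow_sub, zpow_neg, mul_assoc]
    rw [h1, mc_tensor, mc_rep_mul, zpow_natCast, mc_rep_pow, mc_rep hΛ rfl, Pw_M, mc_tensorPow]
  obtain ⟨e⟩ := e
  rw [K848.HB.euler_iso k e hc]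

include hdim in
theorem sum_ch (n : ℕ) : ((∑ j ∈ Finset.range (2 * n + 1), ch k (rep (bcl hΛ hH n)) (Pw Λ hΛ j).M : ℤ) : ℚ) =
    alpha 2 (hp k Λ.M (Coh.structureModule X)) * (n * (n + 1) * (2 * n + 1) / 6) +
      (2 * n + 1) * (hp k Λ.M (rep (mk H hH.1)⁻¹)).coeff 0 := by
  push_cast
  rw [Finset.sum_congr rfl fun j _ => ch_pw k hH hΛ n j]
  rw [K94.Num.sum_eval (natDegree_le k hΛ hdim (K848.Rank.isCoh_of_isInvertible (rep_inv _)))]
  rw [← alpha_rep k hdim hΛ (mk H hH.1)⁻¹]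
  unfold alpha
  norm_num

variable [RegOne X] [CharZero X.functionField] [IsAlgClosed k]
  (hE : ph k H A.M = ph k H (Coh.structureModule X) + ph k H Λ.M) (D : Dat x A Λ) (hx : x ≠ genericPoint X)
  (hxc : IsClosed ({x} : Set X)) (hx1 : ∀ y : C1 X, y.1 ≠ x)
  (hreg : IsRegularLocalRing (X.presheaf.stalk x)) (hdx : ringKrullDim (X.presheaf.stalk x) = (2 : ℕ))
  (hss : StabCat.IsMuSS Coh.IsCoh (IsHilbPoly k X H) 2 A.M)
  (f : Coh.structureModule X ⟶ A.M) (hf : Mono f)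
  {W : X.Modules} (hW : PicF.IsInvertible W)
  (hdual : ∀ F : X.Modules, Coh.IsQCoh F → (∀ φ : F ⟶ W, φ = 0) → Subsingleton (Coh.HH X F 2))

include hH hdim hE hss hf D hx hΛ hx1 hW hdual in
theorem exists_bound : ∃ C : ℕ, ∀ n : ℕ,
    Curv2.euler k X (CohB1.tensorMod (S A (2 * n)).M (rep (bcl hΛ hH n))) ≤ (C * (n + 2) * (2 * n + 1) : ℕ) := by
  obtain ⟨α, β, Hl⟩ := exists_loc D hx1
  have : X.IsSeparated := Fga.HypSec.isSeparated k X
  obtain ⟨a₀, hsec⟩ := K94.Cur4.exists_section hH x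
  have hpos := dP_H_pos k hH hdim
  obtain ⟨a₁, ha₁⟩ := exists_nat_gt (dg k H W / dP k H (mk H hH.1) + 1)
  obtain ⟨N, hN, σ, hmc, hσ⟩ := hsec (max a₀ a₁) (le_max_left _ _)
  have ha : dg k H W < (((max a₀ a₁ : ℕ) : ℚ) - 1) * dP k H (mk H hH.1) := by
    have h1 : (a₁ : ℚ) ≤ ((max a₀ a₁ : ℕ) : ℚ) := by exact_mod_cast le_max_right _ _
    have h2 : dg k H W / dP k H (mk H hH.1) < ((max a₀ a₁ : ℕ) : ℚ) - 1 := by linarith
    rwa [div_lt_iff₀ hpos] at h2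
  obtain ⟨C, hC⟩ := psi_bound k hH hdim hΛ D hN hσ
  refine ⟨C, fun n => ?_⟩
  have h0 := h0_eq k hH hdim Hl hΛ hE D hx hss f hf n
  have h2 := h2_big k hH hdim Hl hΛ hE D hx hss f hf n hW hdual hN _ hmc ha
  have h3 := h2_le k hN hσ (isCoh_tw (S A (2 * n)).coh (rep_inv (bcl hΛ hH n)))
    (isTorsionFree_tw (S A (2 * n)).tf (rep_inv (bcl hΛ hH n))) h2
  have h4 := hC n
  unfold psi at h4
  have h5 := euler_le k hdim (CohB1.tensorMod (S A (2 * n)).M (rep (bcl hΛ hH n)))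
  rw [h0] at h5
  have h6 := h3.trans h4
  have h7 : ((hh k (CohB1.tensorMod (S A (2 * n)).M (rep (bcl hΛ hH n))) 2 : ℕ) : ℤ) ≤
    ((C * (n + 2) * (2 * n + 1) : ℕ) : ℤ) := by exact_mod_cast h6
  push_cast at h5 h7 ⊢
  linarith

include hH hdim hE hss hf D hx hΛ hx1 hW hdual hxc hreg hdx in
theorem main (h5 : 5 ≤ alpha 2 (hp k Λ.M (Coh.structureModule X))) : False := by
  obtain ⟨C, hC⟩ := exists_bound k hH hdim hΛ hE D hx hx1 hss f hf hW hdual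
  refine K94.Num.false_of_le h5 (q₀ := (hp k Λ.M (rep (mk H hH.1)⁻¹)).coeff 0) (C := C) fun n => ?_
  have h1 := chi_le D hΛ (isAdd_ch k (rep_inv (bcl hΛ hH n))) (ch_nonneg hxc (rep_inv (bcl hΛ hH n)))
    (ch_le hxc (rep_inv (bcl hΛ hH n))) (length_quotient hreg hdx) (2 * n)
  have h2 := hC n
  have h3 : ∑ j ∈ Finset.range (2 * n + 1), ch k (rep (bcl hΛ hH n)) (Pw Λ hΛ j).M - ((2 * n + 2).choose 3 : ℕ) ≤
    ((C * (n + 2) * (2 * n + 1) : ℕ) : ℤ) := h1.trans h2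
  have h4 : ((∑ j ∈ Finset.range (2 * n + 1), ch k (rep (bcl hΛ hH n)) (Pw Λ hΛ j).M -
    ((2 * n + 2).choose 3 : ℕ) : ℤ) : ℚ) ≤ (((C * (n + 2) * (2 * n + 1) : ℕ) : ℤ) : ℚ) := by exact_mod_cast h3
  rw [Int.cast_sub, sum_ch k hH hdim hΛ, Int.cast_natCast, K94.Num.choose_three] at h4
  push_cast at h4
  exact h4

end K94.Main3
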