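import Groth.Agent.ShStab.K94.Est
import Groth.Agent.Dcoh.StalkMod
import Groth.Agent.CycB.ModStalk
import Groth.Agent.Fdesc.LocGen

/-!
# Multiplication by a section of an invertible module
-/

set_option autoImplicit false
set_option linter.unusedSectionVars false
universe u
open CategoryTheory CategoryTheory.Limits AlgebraicGeometry Opposite TopologicalSpace Module

namespace K94.Cur

open Groth.Agent Groth.Agent.CycB.StalkExact Groth.Agent.VarietyB.ExactLoc Groth.Agent.Dcoh.StalkMod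
open K848.TF K849.Cst K848.Rank K94.Tens K94.Tw K94.Est
open Groth.Agent.CohqB.SerTw (tw mulSec mulSec_naturality shortExact_tw isCoh_cokernel)
open Groth.Agent.Dcoh.FreeSec (stalkUnit stalkUnit_apply stalkOne one)

variable {X : Scheme.{u}} {N : X.Modules} (σ : Γ(N, ⊤))

/-- The section generates at the point. -/
def Un (y : X) : Prop := ∃ ε : N.presheaf.stalk y ≃ₗ[X.presheaf.stalk y] X.presheaf.stalk y,
  IsUnit (ε (N.presheaf.germ ⊤ y trivial σ))

variable {σ}

theorem bijective_mulSec {y : X} (h : Un σ y) (F : X.Modules) : Function.Bijective (stalkLin (mulSec σ F) y) := by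
  obtain ⟨ε, hu⟩ := h
  have h1 : ∀ m, twEquiv F ε (stalkLin (mulSec σ F) y m) = ε (N.presheaf.germ ⊤ y trivial σ) • m := fun m => by
    rw [stalkLin_mulSec, twEquiv_tst]
  constructor
  · intro a b hab
    have h2 := congrArg (twEquiv F ε) hab
    rw [h1, h1] at h2
    exact hu.smul_left_cancel.1 h2
  · intro z
    obtain ⟨u, hu'⟩ := hu
    refine ⟨(↑u⁻¹ : X.presheaf.stalk y) • twEquiv F ε z, (twEquiv F ε).injective ?_⟩
    rw [h1, ← hu', smul_smul, Units.mul_inv, one_smul]

theorem un_of_surjective {y : X} (ε : N.presheaf.stalk y ≃ₗ[X.presheaf.stalk y] X.presheaf.stalk y)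
    (h : Function.Surjective (stalkLin (mulSec σ (Coh.structureModule X)) y)) : Un σ y := by
  refine ⟨ε, ?_⟩
  obtain ⟨m, hm⟩ := h ((twEquiv (Coh.structureModule X) ε).symm (stalkUnit y 1))
  have h1 := congrArg (twEquiv (Coh.structureModule X) ε) hm
  rw [stalkLin_mulSec, twEquiv_tst, LinearEquiv.apply_symm_apply] at h1
  have h2 := congrArg (stalkUnit y).symm h1
  rw [map_smul, LinearEquiv.symm_apply_apply, smul_eq_mul] at h2
  exact IsUnit.of_mul_eq_one _ h2

theorem un_of_isGen {V : X.Opens} {y : X} (hy : y ∈ V)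
    (h : Fdesc.LocGen.IsGen (Fdesc.LocGen.res N (le_top : V ≤ ⊤) σ)) : Un σ y := by
  have h1 : CycB.ModStalk.IsGenOn N V (Fdesc.LocGen.res N (le_top : V ≤ ⊤) σ) := h
  have h2 := h1.isGen y hy
  have h3 : N.presheaf.germ V y hy (Fdesc.LocGen.res N (le_top : V ≤ ⊤) σ) = N.presheaf.germ ⊤ y trivial σ :=
    TopCat.Presheaf.germ_res_apply N.presheaf (homOfLE (le_top : V ≤ ⊤)) y hy σ
  rw [h3] at h2
  let ε := (LinearEquiv.ofBijective (LinearMap.toSpanSingleton (X.presheaf.stalk y) (N.presheaf.stalk y)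
    (N.presheaf.germ ⊤ y trivial σ)) h2).symm
  have h4 : ε (N.presheaf.germ ⊤ y trivial σ) = 1 := by
    rw [LinearEquiv.symm_apply_eq, LinearEquiv.ofBijective_apply, LinearMap.toSpanSingleton_apply, one_smul]
  exact ⟨ε, by rw [h4]; exact isUnit_one⟩

variable (σ)

/-- The cokernel of the multiplication. -/
noncomputable def R (F : X.Modules) : X.Modules := cokernel (mulSec σ F)

/-- The projection. -/
noncomputable def pr (F : X.Modules) : CohB1.tensorMod F N ⟶ R σ F := cokernel.π (mulSec σ F)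

instance (F : X.Modules) : Epi (pr σ F) := inferInstanceAs (Epi (cokernel.π (mulSec σ F)))

theorem mulSec_pr (F : X.Modules) : mulSec σ F ≫ pr σ F = 0 := cokernel.condition _

theorem exact_pr (F : X.Modules) : (ShortComplex.mk (mulSec σ F) (pr σ F) (mulSec_pr σ F)).Exact :=
  ShortComplex.exact_of_g_is_cokernel _ (cokernelIsCokernel _)

theorem mulSec_nat {F G : X.Modules} (φ : F ⟶ G) : φ ≫ mulSec σ G = mulSec σ F ≫ mt φ N := mulSec_naturality σ φ

/-- The induced map. -/
noncomputable def Rm {F G : X.Modules} (φ : F ⟶ G) : R σ F ⟶ R σ G :=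
  cokernel.map _ _ φ (mt φ N) (mulSec_naturality σ φ).symm

theorem pr_Rm {F G : X.Modules} (φ : F ⟶ G) : pr σ F ≫ Rm σ φ = mt φ N ≫ pr σ G := cokernel.π_desc _ _ _

theorem Rm_comp_zero {F G H : X.Modules} (φ : F ⟶ G) (ψ : G ⟶ H) (h : φ ≫ ψ = 0) : Rm σ φ ≫ Rm σ ψ = 0 := by
  rw [← cancel_epi (pr σ F), ← Category.assoc, pr_Rm, Category.assoc, pr_Rm, ← Category.assoc, comp_zero]
  have h1 : mt φ N ≫ mt ψ N = 0 := by
    have h2 : (tw N).map φ ≫ (tw N).map ψ = 0 := by
      rw [← Functor.map_comp, h, Functor.map_zero]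
    exact h2
  rw [h1, zero_comp]

theorem epi_Rm (hN : PicF.IsInvertible N) {S : ShortComplex X.Modules} (hS : S.ShortExact) :
    Epi (Rm σ S.g) := by
  have h1 : Epi (mt S.g N) := (shortExact_tw hN hS).epi_g
  have h2 : Epi (pr σ S.X₂ ≫ Rm σ S.g) := by
    rw [pr_Rm]
    infer_instance
  exact epi_of_epi (pr σ S.X₂) _

theorem exact_Rm (hN : PicF.IsInvertible N) {S : ShortComplex X.Modules} (hS : S.ShortExact) :
    (ShortComplex.mk (Rm σ S.f) (Rm σ S.g) (Rm_comp_zero σ _ _ S.zero)).Exact := by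
  have hS' := shortExact_tw hN hS
  have e1 : Epi (Rm σ S.g) := epi_Rm σ hN hS
  have e2 := hS.epi_g
  have e3 : Epi (mt S.g N) := hS'.epi_g
  refine ShortComplex.exact_of_g_is_cokernel _ (CokernelCofork.IsColimit.ofπ' _ _ fun {Z} t ht => ?_)
  have ht' : Rm σ S.f ≫ t = 0 := ht
  have h1 : mt S.f N ≫ (pr σ S.X₂ ≫ t) = 0 := by
    rw [← Category.assoc, ← pr_Rm, Category.assoc, ht', comp_zero]
  let u := CokernelCofork.IsColimit.desc' hS'.gIsCokernel (pr σ S.X₂ ≫ t) h1
  have hu : mt S.g N ≫ u.1 = pr σ S.X₂ ≫ t := u.2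
  have h2 : mulSec σ S.X₃ ≫ u.1 = 0 := by
    have h3 : mulSec σ S.X₂ ≫ mt S.g N ≫ u.1 = 0 := by
      rw [hu, ← Category.assoc, mulSec_pr, zero_comp]
    rw [← cancel_epi S.g, ← Category.assoc, mulSec_nat, Category.assoc, comp_zero]
    exact h3
  refine ⟨cokernel.desc _ u.1 h2, ?_⟩
  have h4 : pr σ S.X₃ ≫ cokernel.desc _ u.1 h2 = u.1 := cokernel.π_desc _ _ _
  rw [← cancel_epi (pr σ S.X₂), ← Category.assoc]
  change (pr σ S.X₂ ≫ Rm σ S.g) ≫ _ = _
  rw [pr_Rm, Category.assoc, h4, hu]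

theorem bijective_mt {F G M : X.Modules} (φ : F ⟶ G) (hM : PicF.IsInvertible M) {y : X}
    (h : Function.Bijective (stalkLin φ y)) : Function.Bijective (stalkLin (mt φ M) y) := by
  obtain ⟨ε⟩ := exists_eps hM y
  have h1 : (twEquiv G ε) ∘ (stalkLin (mt φ M) y) = (stalkLin φ y) ∘ (twEquiv F ε) :=
    funext fun z => twEquiv_stalkLin ε φ z
  have h2 : Function.Bijective ((twEquiv G ε) ∘ (stalkLin (mt φ M) y)) := by
    rw [h1]
    exact h.comp (twEquiv F ε).bijective
  exact ((twEquiv G ε).bijective.of_comp_iff' _).1 h2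

theorem bijective_Rm {F G : X.Modules} (φ : F ⟶ G) (hN : PicF.IsInvertible N) {y : X}
    (h : Function.Bijective (stalkLin φ y)) : Function.Bijective (stalkLin (Rm σ φ) y) := by
  have hφN : Function.Bijective (stalkLin (mt φ N) y) := bijective_mt φ hN h
  have h3 : ∀ w, stalkLin (Rm σ φ) y (stalkLin (pr σ F) y w) = stalkLin (pr σ G) y (stalkLin (mt φ N) y w) := by
    intro w
    rw [← LinearMap.comp_apply, ← stalkLin_comp, pr_Rm, stalkLin_comp]
    rfl
  have h4 : ∀ v, stalkLin (mt φ N) y (stalkLin (mulSec σ F) y v) = stalkLin (mulSec σ G) y (stalkLin φ y v) := by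
    intro v
    rw [← LinearMap.comp_apply, ← stalkLin_comp, ← LinearMap.comp_apply, ← stalkLin_comp, mulSec_naturality]
    rfl
  have exF := LinearMap.exact_iff.1 (stalkLin_exact _ (exact_pr σ F) y)
  have exG := LinearMap.exact_iff.1 (stalkLin_exact _ (exact_pr σ G) y)
  dsimp only at exF exG
  constructor
  · rw [injective_iff_map_eq_zero]
    intro z hz
    obtain ⟨w, rfl⟩ := stalkLin_surjective (pr σ F) y z
    rw [h3] at hz
    have h5 : stalkLin (mt φ N) y w ∈ LinearMap.range (stalkLin (mulSec σ G) y) := by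
      rw [← exG]
      exact hz
    obtain ⟨v, hv⟩ := h5
    obtain ⟨v, rfl⟩ := h.2 v
    rw [← h4] at hv
    have h6 := hφN.1 hv
    have h7 : w ∈ LinearMap.ker (stalkLin (pr σ F) y) := by
      rw [exF]
      exact ⟨v, h6⟩
    exact h7
  · intro z
    obtain ⟨w, rfl⟩ := stalkLin_surjective (pr σ G) y z
    obtain ⟨w, rfl⟩ := hφN.2 w
    exact ⟨_, h3 w⟩

theorem subsingleton_R {y : X} (h : Un σ y) (F : X.Modules) : Subsingleton ((R σ F).presheaf.stalk y) := by
  have exF := LinearMap.exact_iff.1 (stalkLin_exact _ (exact_pr σ F) y)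
  dsimp only at exF
  have h0 : ∀ z : (R σ F).presheaf.stalk y, z = 0 := by
    intro z
    obtain ⟨w, rfl⟩ := stalkLin_surjective (pr σ F) y z
    obtain ⟨v, rfl⟩ := (bijective_mulSec h F).2 w
    have h1 : stalkLin (mulSec σ F) y v ∈ LinearMap.ker (stalkLin (pr σ F) y) := by
      rw [exF]
      exact ⟨v, rfl⟩
    exact h1
  exact ⟨fun a b => (h0 a).trans (h0 b).symm⟩

theorem isIso_Rm {F G : X.Modules} (φ : F ⟶ G) (hN : PicF.IsInvertible N) {x : X} (hx : Un σ x)
    (h : ∀ y, y ≠ x → Function.Bijective (stalkLin φ y)) : IsIso (Rm σ φ) := by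
  refine isIso_of_bijective _ fun y => ?_
  by_cases hy : y = x
  · subst hy
    have h1 := subsingleton_R σ hx F
    have h2 := subsingleton_R σ hx G
    exact ⟨fun a b _ => Subsingleton.elim _ _, fun b => ⟨0, Subsingleton.elim _ _⟩⟩
  · exact bijective_Rm σ φ hN (h y hy)

theorem un_of_not_mem (hN : PicF.IsInvertible N) {y : X}
    (h : y ∉ CohB1.support (R σ (Coh.structureModule X))) : Un σ y := by
  obtain ⟨ε⟩ := exists_eps hN y
  have h1 : Subsingleton ((R σ (Coh.structureModule X)).presheaf.stalk y) := not_not.1 h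
  refine un_of_surjective ε fun w => ?_
  have exF := LinearMap.exact_iff.1 (stalkLin_exact _ (exact_pr σ (Coh.structureModule X)) y)
  dsimp only at exF
  have h2 : w ∈ LinearMap.ker (stalkLin (pr σ (Coh.structureModule X)) y) := by
    rw [LinearMap.mem_ker]
    exact Subsingleton.elim _ _
  rw [exF] at h2
  exact h2

theorem support_R_subset (hN : PicF.IsInvertible N) (F : X.Modules) :
    CohB1.support (R σ F) ⊆ CohB1.support (R σ (Coh.structureModule X)) := by
  intro y hy
  by_contra h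
  exact hy (subsingleton_R σ (un_of_not_mem σ hN h) F)

theorem isCoh_R (hN : PicF.IsInvertible N) {F : X.Modules} (hF : Coh.IsCoh F) : Coh.IsCoh (R σ F) :=
  isCoh_cokernel _ hF.1 (isCoh_tw hF hN)

theorem mono_mulSec [IsIntegral X] (hN : PicF.IsInvertible N) {x : X} (hx : Un σ x) {F : X.Modules}
    (hF : TorSh.IsTorsionFree F) : Mono (mulSec σ F) := by
  refine mono_of_injective _ fun y => ?_
  obtain ⟨ε, hu⟩ := hx
  obtain ⟨ε'⟩ := exists_eps hN y
  have h1 : ∀ m, twEquiv F ε' (stalkLin (mulSec σ F) y m) = ε' (N.presheaf.germ ⊤ y trivial σ) • m := fun m => by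
    rw [stalkLin_mulSec, twEquiv_tst]
  have tN : TorSh.IsTorsionFree N := K848.Stab.isTorsionFree_of_isFinLocFree (isFinLocFree_of_isInvertible hN)
  have cN : Coh.IsCoh N := K848.Rank.isCoh_of_isInvertible hN
  have h2 : ε' (N.presheaf.germ ⊤ y trivial σ) ≠ 0 := by
    intro h
    rw [LinearEquiv.map_eq_zero_iff] at h
    have h3 : N.presheaf.germ ⊤ (genericPoint X) trivial σ = 0 := by
      rw [← germ_spec N (gen y) (U := ⊤) trivial σ, h, map_zero]
    have h4 : N.presheaf.germ ⊤ x trivial σ = 0 := by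
      apply spec_injective cN.1 tN x
      rw [map_zero, germ_spec]
      exact h3
    rw [h4, map_zero] at hu
    exact not_isUnit_zero hu
  have := hF y
  rw [injective_iff_map_eq_zero]
  intro m hm
  have h5 := h1 m
  rw [hm, map_zero] at h5
  exact (smul_eq_zero.1 h5.symm).resolve_left h2

end K94.Cur
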