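import Groth.Agent.ShStab.K94.Cur
import Groth.Agent.CohqB.SuppVanish
import Groth.Agent.Variety.K433.HqBase
import Groth.Agent.ShStab.K848.Dim

/-!
# The first cohomology on a curve section
-/

set_option autoImplicit false
set_option linter.unusedSectionVars false
universe u
open CategoryTheory CategoryTheory.Limits AlgebraicGeometry Opposite TopologicalSpace Module

namespace K94.Cur2

open Groth.Agent Groth.Agent.CycB.StalkExact Groth.Agent.VarietyB.ExactLoc
open K433.Hq K94.Tw K94.Est K94.Cur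
open Groth.Agent.CohqB.SerTw (tw mulSec shortExact_tw isCoh_cokernel isCoh_kernel)

variable (k : Type u) [Field k] {X : Scheme.{u}} [X.Over (Spec (CommRingCat.of k))]

theorem hh_eq_zero [NoetherianSpace X] {T : Set X} (hT : IsClosed T) (hd : topologicalKrullDim T ≤ (1 : ℕ))
    {F : X.Modules} (h : CohB1.support F ⊆ T) {q : ℕ} (hq : 1 < q) : hh k F q = 0 := by
  refine hh_of_subsingleton k ?_
  exact CohqB.SuppVanish.subsingleton_H_of_support (Y := (X : TopCat.{u})) T hT 1 hd (Coh.toAb F)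
    (fun _ hy => not_not.mp fun hs => hy (h hs)) q hq

variable [IsProper (X ↘ Spec (CommRingCat.of k))] [IsNoetherian X]

theorem support_mono {F G : X.Modules} (f : F ⟶ G) [Mono f] : CohB1.support F ⊆ CohB1.support G := by
  intro y hy h
  exact hy ((stalkLin_injective f y).subsingleton)

theorem hh_mid {T : Set X} (hT : IsClosed T) (hd : topologicalKrullDim T ≤ (1 : ℕ)) {S : ShortComplex X.Modules}
    (hS : S.Exact) (hg : Epi S.g) (h1 : Coh.IsCoh S.X₁) (h2 : Coh.IsCoh S.X₂) (h3 : Coh.IsCoh S.X₃)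
    (hs : CohB1.support S.X₁ ⊆ T) : hh k S.X₂ 1 ≤ hh k S.X₁ 1 + hh k S.X₃ 1 := by
  have hk : Coh.IsCoh (kernel S.g) := isCoh_kernel S.g h2 h3.1
  have e1 := hh_mid_le k _ (shortExact_ker S.g) hk h2 h3 1
  have hep : Epi (kernel.lift S.g S.f S.zero) := by
    have := hS.epi_kernelLift
    exact this
  have hk' : Coh.IsCoh (kernel (kernel.lift S.g S.f S.zero)) := isCoh_kernel _ h1 hk.1
  have e2 := hh_right_le k _ (shortExact_ker (kernel.lift S.g S.f S.zero)) hk' h1 hk 1
  have e3 : hh k (kernel (kernel.lift S.g S.f S.zero)) (1 + 1) = 0 :=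
    hh_eq_zero k hT hd ((support_mono (kernel.ι _)).trans hs) (by norm_num)
  dsimp only at e1 e2
  rw [e3, add_zero] at e2
  exact e1.trans (Nat.add_le_add_right e2 _)

variable {N : X.Modules} (σ : Γ(N, ⊤))

/-- The function. -/
noncomputable def psi (B F : X.Modules) : ℕ := hh k (R σ (CohB1.tensorMod F B)) 1

variable (hN : PicF.IsInvertible N) {B : X.Modules} (hB : PicF.IsInvertible B)
  (hd : topologicalKrullDim (CohB1.support (R σ (Coh.structureModule X))) ≤ (1 : ℕ))

include hN hd in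
theorem hh_R (S : ShortComplex X.Modules) (hS : S.ShortExact) (h1 : Coh.IsCoh S.X₁) (h2 : Coh.IsCoh S.X₂)
    (h3 : Coh.IsCoh S.X₃) : hh k (R σ S.X₂) 1 ≤ hh k (R σ S.X₁) 1 + hh k (R σ S.X₃) 1 := by
  have hT : IsClosed (CohB1.support (R σ (Coh.structureModule X))) :=
    Groth.Agent.S0020.result X _ (isCoh_R σ hN K848.Stab.isCoh_structureModule).2
  have c1 := isCoh_R σ hN h1
  have c2 := isCoh_R σ hN h2
  have c3 := isCoh_R σ hN h3
  exact hh_mid k hT hd (S := ShortComplex.mk (Rm σ S.f) (Rm σ S.g) (Rm_comp_zero σ _ _ S.zero)) (exact_Rm σ hN hS)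
    (epi_Rm σ hN hS) c1 c2 c3 (support_R_subset σ hN _)

include hN hB hd in
theorem psi_sub (S : ShortComplex X.Modules) (hS : S.ShortExact) (h1 : Coh.IsCoh S.X₁) (h2 : Coh.IsCoh S.X₂)
    (h3 : Coh.IsCoh S.X₃) : psi k σ B S.X₂ ≤ psi k σ B S.X₁ + psi k σ B S.X₃ := by
  have c1 : Coh.IsCoh (S.map (tw B)).X₁ := isCoh_tw h1 hB
  have c2 : Coh.IsCoh (S.map (tw B)).X₂ := isCoh_tw h2 hB
  have c3 : Coh.IsCoh (S.map (tw B)).X₃ := isCoh_tw h3 hB
  have h := hh_R k σ hN hd (S.map (tw B)) (shortExact_tw hB hS) c1 c2 c3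
  unfold psi
  exact h

include hN hB in
theorem psi_eq {x : X} (hx : Un σ x) {F G : X.Modules} (f : F ⟶ G)
    (h : ∀ y, y ≠ x → Function.Bijective (stalkLin f y)) : psi k σ B F = psi k σ B G := by
  have h1 : ∀ y, y ≠ x → Function.Bijective (stalkLin (mt f B) y) := fun y hy => bijective_mt f hB (h y hy)
  have h2 := isIso_Rm σ (mt f B) hN hx h1
  exact hh_iso k (asIso (Rm σ (mt f B))) 1

end K94.Cur2
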