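import Groth.Agent.ShStab.K94.Cur2

/-!
# The cokernel of the multiplication on an invertible module
-/

set_option autoImplicit false
set_option linter.unusedSectionVars false
universe u
open CategoryTheory CategoryTheory.Limits AlgebraicGeometry Opposite TopologicalSpace Module

namespace K94.Cur3

open Groth.Agent Groth.Agent.CycB.StalkExact Groth.Agent.VarietyB.ExactLoc Groth.Agent.Ega2
open K433.Hq K94.Tw K94.Est K94.Cur K94.Cur2
open Groth.Agent.CohqB.SerTw (tw mulSec shortExact_tw comm map_mulSec_comm)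

variable {X : Scheme.{u}} [IsIntegral X] {N : X.Modules} (σ : Γ(N, ⊤))

theorem coker_iso {C : Type*} [Category C] [Abelian C] {P Q W Q' : C} (m : P ⟶ Q) (p : Q ⟶ W) (hmp : m ≫ p = 0)
    (hS : (ShortComplex.mk m p hmp).ShortExact) (c : Q ≅ Q') (m' : P ⟶ Q') (hm : m ≫ c.hom = m') :
    Nonempty (cokernel m' ≅ W) := by
  have hepi : Epi p := hS.epi_g
  have hcol : IsColimit (CokernelCofork.ofπ (f := m) p hmp) := hS.gIsCokernel
  have h0 : m' ≫ c.inv ≫ p = 0 := by
    rw [← hm, Category.assoc, c.hom_inv_id_assoc, hmp]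
  have hepi' : Epi (c.inv ≫ p) := epi_comp _ _
  have hcol2 : IsColimit (CokernelCofork.ofπ (f := m') (c.inv ≫ p) h0) := by
    refine CokernelCofork.IsColimit.ofπ' _ _ fun {Z} t ht => ?_
    have h1 : m ≫ (c.hom ≫ t) = 0 := by
      rw [← Category.assoc, hm, ht]
    let v := CokernelCofork.IsColimit.desc' hcol (c.hom ≫ t) h1
    have hv : p ≫ v.1 = c.hom ≫ t := v.2
    exact ⟨v.1, by rw [Category.assoc, hv, c.inv_hom_id_assoc]⟩
  exact ⟨(cokernelIsCokernel _).coconePointUniqueUpToIso hcol2⟩

theorem short_O (hN : PicF.IsInvertible N) {x : X} (hx : Un σ x) :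
    (ShortComplex.mk (mulSec σ (Coh.structureModule X)) (pr σ (Coh.structureModule X))
      (mulSec_pr σ _)).ShortExact := by
  have := mono_mulSec σ hN hx (F := Coh.structureModule X) (K848.Stab.isTorsionFree_of_isFinLocFree
    (K848.Rank.isFinLocFree_of_isInvertible Groth.Agent.Fdesc.LocGen.isInvertible_structureModule))
  exact shortExact_coker _

theorem iso_tensor (hN : PicF.IsInvertible N) {x : X} (hx : Un σ x) {P : X.Modules} (hP : PicF.IsInvertible P) :
    Nonempty (R σ (CohB1.tensorMod (Coh.structureModule X) P) ≅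
      CohB1.tensorMod (R σ (Coh.structureModule X)) P) := by
  have hS' := shortExact_tw hP (short_O σ hN hx)
  have hm := map_mulSec_comm σ (Coh.structureModule X) P
  have hz : (tw P).map (mulSec σ (Coh.structureModule X)) ≫ (tw P).map (pr σ (Coh.structureModule X)) = 0 := by
    rw [← Functor.map_comp, mulSec_pr, Functor.map_zero]
  have hS2 : (ShortComplex.mk ((tw P).map (mulSec σ (Coh.structureModule X)))
    ((tw P).map (pr σ (Coh.structureModule X))) hz).ShortExact := hS'
  have key := coker_iso (Q' := CohB1.tensorMod (CohB1.tensorMod (Coh.structureModule X) P) N) _ _ hz hS2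
    (comm (Coh.structureModule X) N P) _ rfl
  obtain ⟨e⟩ := key
  refine ⟨?_ ≪≫ e⟩
  exact eqToIso (congrArg (fun f : CohB1.tensorMod (Coh.structureModule X) P ⟶
    CohB1.tensorMod (CohB1.tensorMod (Coh.structureModule X) P) N => cokernel f) hm.symm)

theorem iso_R (hN : PicF.IsInvertible N) {x : X} (hx : Un σ x) {P : X.Modules} (hP : PicF.IsInvertible P) :
    Nonempty (R σ P ≅ CohB1.tensorMod (R σ (Coh.structureModule X)) P) := by
  obtain ⟨e⟩ := iso_tensor σ hN hx hP
  have h1 : IsIso (Rm σ (Tens.lunit P).hom) := by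
    refine Dcoh.StalkMod.isIso_of_bijective _ fun y => bijective_Rm σ _ hN ?_
    exact Dcoh.StalkMod.bijective_of_isIso _ y
  exact ⟨(asIso (Rm σ (Tens.lunit P).hom)).symm ≪≫ e⟩

end K94.Cur3
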