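import Groth.Agent.ShStab.K94.Cur3
import Groth.Agent.VarietyB.GenLocusTensor
import Groth.Agent.S2325

/-!
# Existence of a section
-/

set_option autoImplicit false
set_option linter.unusedSectionVars false
universe u
open CategoryTheory CategoryTheory.Limits AlgebraicGeometry Opposite TopologicalSpace Module

namespace K94.Cur4

open Groth.Agent Groth.Agent.Fdesc.LocGen Groth.Agent.Fga.PicMon
open K433.Hq K94.Tw K94.Est K94.Cur K94.Cur2

variable {X : Scheme.{u}} [CompactSpace X] [X.IsSeparated] {H : X.Modules} (hH : CohB1.IsAmple H)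

include hH in
theorem exists_section (x : X) : ∃ a₀ : ℕ, ∀ a, a₀ ≤ a → ∃ (N : X.Modules) (_ : PicF.IsInvertible N)
    (σ : Γ(N, ⊤)), mc N = mc H ^ a ∧ Un σ x := by
  obtain ⟨a₀, h⟩ := Groth.Agent.S2325.result X H hH (Coh.structureModule X) K848.Stab.isCoh_structureModule
  refine ⟨a₀, fun a ha => ?_⟩
  have hN : PicF.IsInvertible (CohB1.tensorMod (Coh.structureModule X) (CohB1.tensorPow H a)) :=
    isInvertible_tensorMod isInvertible_structureModule (Groth.Agent.Fdesc.LocGen.isInvertible_tensorPow hH.1 a)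
  obtain ⟨s, hs⟩ := VarietyB.GenLocusTensor.exists_mem_genLocus hN (h a ha) x
  refine ⟨_, hN, sec s ⊤, ?_, ?_⟩
  · rw [mc_tensor, mc_one, one_mul, mc_tensorPow]
  · refine un_of_isGen (V := CohB1.genLocus _ s) hs ?_
    rw [res_sec]
    exact isGen_sec_genLocus s

end K94.Cur4
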