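import Groth.Agent.ShStab.K94.Sym3

/-!
# Degrees of embedded modules
-/

set_option autoImplicit false
set_option linter.unusedSectionVars false
universe u
open CategoryTheory CategoryTheory.Limits AlgebraicGeometry Opposite TopologicalSpace Module
open scoped TensorProduct

namespace K94.Deg

open Groth.Agent Groth.Agent.CycB.StalkExact Groth.Agent.VarietyB.ExactLoc
open Groth.Agent.Fdesc.Skyscraper Groth.Agent.CycB.CohStalk Groth.Agent.Sga67.CohBasic
open K848.TF K849.Cst K849.CstTor K849.DvrLat K848.Rank K849.CstDeg K94.Tens K94.Emb K94.Tw K94.Ext K94.Sym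
open Polynomial (C)

attribute [local instance 50] modAt

variable {X : Scheme.{u}} [IsIntegral X] [RegOne X]

section idx

variable {V : Type u} [AddCommGroup V] [Module (X.presheaf.stalk (genericPoint X)) V]
  (b : Basis (Fin 1) X.functionField V) (y : C1 X)

/-- The scaled basis. -/
noncomputable def scaled (c : X.functionField) (hc : c ≠ 0) : Basis (Fin 1) X.functionField V :=
  b.map (LinearEquiv.smulOfNeZero X.functionField V c hc)

theorem scaled_apply (c : X.functionField) (hc : c ≠ 0) (i : Fin 1) : scaled b c hc i = c • b i := rfl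

theorem det_scaled (c : X.functionField) (hc : c ≠ 0) : b.det (scaled b c hc) = c := by
  rw [Basis.det_apply, Matrix.det_fin_one, Basis.toMatrix_apply, scaled_apply, map_smul, Finsupp.smul_apply,
    Basis.repr_self, Finsupp.single_eq_same, smul_eq_mul, mul_one]

theorem idx_of_gen (Λ : Submodule (X.presheaf.stalk y.1) V) (c : X.functionField) (hc : c ≠ 0)
    (h : ∀ v, v ∈ Λ ↔ ∃ s : X.presheaf.stalk y.1, v = (algebraMap _ X.functionField s * c) • b 0) :
    idx (X.presheaf.stalk y.1) b Λ = -ordK (X.presheaf.stalk y.1) c := by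
  have h1 : Λ = sp (X.presheaf.stalk y.1) (scaled b c hc) := by
    ext v
    rw [h, mem_sp_iff]
    constructor
    · rintro ⟨s, rfl⟩
      refine ⟨fun _ => s, ?_⟩
      rw [Fin.sum_univ_one, scaled_apply, mul_smul]
      rfl
    · rintro ⟨f, rfl⟩
      refine ⟨f 0, ?_⟩
      rw [Fin.sum_univ_one, scaled_apply, mul_smul]
      rfl
  rw [h1, idx_sp, det_scaled]

end idx

section rankone

/-- A family of local generators. -/
structure Gens (B : Lt X X.functionField) (μ : C1 X → X.functionField) : Prop where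
  ne : ∀ y, μ y ≠ 0
  mem : ∀ y c, c ∈ B.lat y.1 ↔ ∃ s : X.presheaf.stalk y.1, c = algebraMap _ X.functionField s * μ y

/-- The standard basis of the function field. -/
noncomputable def b1 : Basis (Fin 1) X.functionField X.functionField := Basis.singleton (Fin 1) X.functionField

theorem b1_zero : (b1 : Basis (Fin 1) X.functionField X.functionField) 0 = 1 := Basis.singleton_apply _ _ _

variable {B B' : Lt X X.functionField} {μ μ' : C1 X → X.functionField}

theorem Gens.idx (h : Gens B μ) (y : C1 X) :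
    K849.DvrLat.idx (X.presheaf.stalk y.1) b1 (B.lat y.1) = -ordK (X.presheaf.stalk y.1) (μ y) := by
  have key : ∀ v, v ∈ B.lat y.1 ↔ ∃ s : X.presheaf.stalk y.1, v = (algebraMap _ X.functionField s * μ y) • b1 0 := by
    intro v
    rw [h.mem, b1_zero]
    simp only [smul_eq_mul, mul_one]
  exact idx_of_gen (V := X.functionField) b1 y (B.lat y.1) (μ y) (h.ne y) key

theorem Gens.deg [IsNoetherian X] (hB : Function.Bijective B.e) (h : Gens B μ) {φ : X.Modules → ℚ} (hφ : Adt φ) :
    φ B.M = φ (Coh.structureModule X) - ∑ᶠ y : C1 X, (ordK (X.presheaf.stalk y.1) (μ y) : ℚ) * φ (gm y.1) := by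
  have h1 := deg_eq hφ B.coh B.tf B.e hB b1
  have h2 : ∀ y : C1 X, K849.DvrLat.idx (X.presheaf.stalk y.1) b1 (lat B.M B.e y.1) =
      -ordK (X.presheaf.stalk y.1) (μ y) := h.idx
  simp only [h2] at h1
  rw [h1, Nat.cast_one, one_mul, sub_eq_add_neg, ← finsum_neg_distrib]
  congr 1
  refine finsum_congr fun y => ?_
  push_cast
  ring

theorem Gens.fin [IsNoetherian X] (hB : Function.Bijective B.e) (h : Gens B μ) :
    {y : C1 X | ordK (X.presheaf.stalk y.1) (μ y) ≠ 0}.Finite := by
  refine (deg_fin B.coh B.tf B.e hB b1).subset fun y hy hy' => hy ?_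
  have h1 := h.idx y
  have h2 : B.lat y.1 = sp (X.presheaf.stalk y.1) b1 := hy'
  rw [h2, idx_self] at h1
  omega

theorem exists_gens (hB : PicF.IsInvertible B.M) : ∃ μ, Gens B μ := by
  have h : ∀ y : C1 X, ∃ c : X.functionField, c ≠ 0 ∧ ∀ c', c' ∈ B.lat y.1 ↔
      ∃ s : X.presheaf.stalk y.1, c' = algebraMap _ X.functionField s * c := by
    intro y
    obtain ⟨ε⟩ := exists_eps hB y.1
    refine ⟨latHom B.M B.e y.1 (ε.symm 1), ?_, fun c => ?_⟩
    · intro h
      have h1 : ε.symm 1 = 0 := B.latHom_injective y.1 (by rw [h, map_zero])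
      rw [LinearEquiv.map_eq_zero_iff] at h1
      exact one_ne_zero h1
    · constructor
      · rintro ⟨l, rfl⟩
        refine ⟨ε l, ?_⟩
        rw [← smul_K, ← map_smul, ← map_smul, smul_eq_mul, mul_one, LinearEquiv.symm_apply_apply]
      · rintro ⟨s, rfl⟩
        refine ⟨s • ε.symm 1, ?_⟩
        rw [map_smul, smul_K]
  choose μ h0 h1 using h
  exact ⟨μ, h0, h1⟩

theorem Gens.mul (h : Gens B μ) (h' : Gens B' μ') (hB' : PicF.IsInvertible B'.M) :
    Gens (twist B B' hB') (fun y => μ y * μ' y) := by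
  refine ⟨fun y => mul_ne_zero (h.ne y) (h'.ne y), fun y c => ?_⟩
  have h1 : (twist B B' hB').lat y.1 = Submodule.span (X.presheaf.stalk y.1)
      {v | ∃ v₁ ∈ B.lat y.1, ∃ v₂ ∈ B'.lat y.1, sm v₁ v₂ = v} := by
    have h2 : (twist B B' hB').lat y.1 = lat (CohB1.tensorMod B.M B'.M) (twE B B') y.1 := rfl
    rw [h2]
    unfold twE
    rw [lat_tensor]
  rw [h1]
  constructor
  · intro hc
    induction hc using Submodule.span_induction with
    | mem c hc =>
      obtain ⟨a, ha, b, hb, rfl⟩ := hc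
      rw [h.mem] at ha
      rw [h'.mem] at hb
      obtain ⟨s, rfl⟩ := ha
      obtain ⟨t, rfl⟩ := hb
      refine ⟨t * s, ?_⟩
      rw [sm_apply, smul_eq_mul, map_mul]
      ring
    | zero => exact ⟨0, by rw [map_zero, zero_mul]⟩
    | add a b _ _ ha hb =>
      obtain ⟨s, rfl⟩ := ha
      obtain ⟨t, rfl⟩ := hb
      exact ⟨s + t, by rw [map_add, add_mul]⟩
    | smul t a _ ha =>
      obtain ⟨s, rfl⟩ := ha
      exact ⟨t * s, by rw [smul_K, map_mul, mul_assoc]⟩
  · rintro ⟨s, rfl⟩
    rw [← smul_K]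
    refine Submodule.smul_mem _ s (Submodule.subset_span ⟨μ y, (h.mem y _).2 ⟨1, by rw [map_one, one_mul]⟩,
      μ' y, (h'.mem y _).2 ⟨1, by rw [map_one, one_mul]⟩, ?_⟩)
    rw [sm_apply, smul_eq_mul, mul_comm]

theorem bijective_e (hB : PicF.IsInvertible B.M) : Function.Bijective B.e := bijective_of_isInvertible hB B.inj

/-- The degree of a twist. -/
theorem deg_twist [IsNoetherian X] (hB : PicF.IsInvertible B.M) (hB' : PicF.IsInvertible B'.M)
    {φ : X.Modules → ℚ} (hφ : Adt φ) : φ (CohB1.tensorMod B.M B'.M) =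
      φ B.M + φ B'.M - φ (Coh.structureModule X) := by
  obtain ⟨μ, h⟩ := exists_gens hB
  obtain ⟨μ', h'⟩ := exists_gens hB'
  have hi : PicF.IsInvertible (twist B B' hB').M := Groth.Agent.Fdesc.LocGen.isInvertible_tensorMod hB hB'
  have hb : Function.Bijective (twist B B' hB').e := bijective_e hi
  have h1 := Gens.deg hb (h.mul h' hB') hφ
  have h2 := h.deg (bijective_e hB) hφ
  have h3 := h'.deg (bijective_e hB') hφ
  have h4 : ∀ y : C1 X, (ordK (X.presheaf.stalk y.1) (μ y * μ' y) : ℚ) * φ (gm y.1) =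
      (ordK (X.presheaf.stalk y.1) (μ y) : ℚ) * φ (gm y.1) + (ordK (X.presheaf.stalk y.1) (μ' y) : ℚ) * φ (gm y.1) := by
    intro y
    rw [ordK_mul _ (h.ne y) (h'.ne y)]
    push_cast
    ring
  simp only [h4] at h1
  rw [finsum_add_distrib] at h1
  · change φ (CohB1.tensorMod B.M B'.M) = _ at h1
    rw [h1, h2, h3]
    ring
  · refine (h.fin (bijective_e hB)).subset fun y hy h0 => hy ?_
    change (ordK (X.presheaf.stalk y.1) (μ y) : ℚ) * φ (gm y.1) = 0
    rw [h0, Int.cast_zero, zero_mul]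
  · refine (h'.fin (bijective_e hB')).subset fun y hy h0 => hy ?_
    change (ordK (X.presheaf.stalk y.1) (μ' y) : ℚ) * φ (gm y.1) = 0
    rw [h0, Int.cast_zero, zero_mul]

end rankone

end K94.Deg
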