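import Groth.Agent.ShStab.K94.Deg

/-!
# Degrees of the lines in an embedded extension of rank two
-/

set_option autoImplicit false
set_option linter.unusedSectionVars false
universe u
open CategoryTheory CategoryTheory.Limits AlgebraicGeometry Opposite TopologicalSpace Module
open scoped TensorProduct

namespace K94.Deg2

open Groth.Agent Groth.Agent.CycB.StalkExact Groth.Agent.VarietyB.ExactLoc
open Groth.Agent.Fdesc.Skyscraper Groth.Agent.CycB.CohStalk Groth.Agent.Sga67.CohBasic
open K848.TF K849.Cst K849.CstTor K849.DvrLat K848.Rank K849.CstDeg K94.Tens K94.Emb K94.Tw K94.Ext K94.Sym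
open K94.Deg K94.Gauss K94.Delta
open Polynomial (C)

attribute [local instance 50] modAt

variable {X : Scheme.{u}} [IsIntegral X]

theorem algebraMap_gen (c : X.functionField) :
    (@algebraMap (X.presheaf.stalk (genericPoint X)) X.functionField _ _
      (stalkFunctionFieldAlgebra X (genericPoint X))) c = c := by
  obtain ⟨U, hU, s, rfl⟩ := X.presheaf.exists_germ_eq (c : X.presheaf.stalk (genericPoint X))
  exact germ_spec_O (gen (genericPoint X)) hU s

theorem spec_gen {G : X.Modules} (t : G.presheaf.stalk (genericPoint X)) :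
    G.presheaf.stalkSpecializes (gen (genericPoint X)) t = t := by
  obtain ⟨U, hU, s, rfl⟩ := G.presheaf.exists_germ_eq t
  exact germ_spec _ _ hU s

variable [IsLocallyNoetherian X] {A : Lt X (Polynomial X.functionField)} {Λ : Lt X X.functionField} {x : X}

theorem mem_lat_gen (P : Polynomial X.functionField) : P ∈ A.lat (genericPoint X) ↔ ∃ t, A.e t = P := by
  constructor
  · rintro ⟨t, rfl⟩
    exact ⟨_, rfl⟩
  · rintro ⟨t, rfl⟩
    refine ⟨t, ?_⟩
    change A.e (A.M.presheaf.stalkSpecializes (gen (genericPoint X)) t) = _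
    rw [spec_gen]

theorem exists_v (D : Dat x A Λ) (hx : x ≠ genericPoint X) : ∃ v₀ v₁, A.e v₀ = 1 ∧ A.e v₁ = Polynomial.X := by
  obtain ⟨α, β, hα, h, -⟩ := D.off (genericPoint X) hx.symm
  obtain ⟨v₀, h0⟩ := (mem_lat_gen (A := A) 1).1 (one_mem D _)
  obtain ⟨v₁, h1⟩ := (mem_lat_gen (A := A) Polynomial.X).1 ((h _).2 ⟨-(α⁻¹ * β), α⁻¹, by
    rw [algebraMap_gen, algebraMap_gen, Polynomial.C_neg, mul_add, ← mul_assoc, ← Polynomial.C_mul,
      ← Polynomial.C_mul, inv_mul_cancel₀ hα, Polynomial.C_1, one_mul]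
    ring⟩)
  exact ⟨v₀, v₁, h0, h1⟩

theorem natDegree_e (D : Dat x A Λ) (t : A.M.presheaf.stalk (genericPoint X)) : (A.e t).natDegree ≤ 1 :=
  natDegree_A D (y := genericPoint X) ((mem_lat_gen _).2 ⟨t, rfl⟩)

section basis

variable {v₀ v₁ : A.M.presheaf.stalk (genericPoint X)} (h0 : A.e v₀ = 1) (h1 : A.e v₁ = Polynomial.X)

include h0 h1

theorem e_comb (a b : X.functionField) :
    A.e ((a : X.presheaf.stalk (genericPoint X)) • v₀ + (b : X.presheaf.stalk (genericPoint X)) • v₁) =
      C a + C b * Polynomial.X := by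
  rw [map_add, map_smul, map_smul, h0, h1]
  congr 1
  · refine (Polynomial.smul_eq_C_mul a).trans (mul_one _)
  · exact Polynomial.smul_eq_C_mul b

theorem exists_basis (D : Dat x A Λ) :
    ∃ b : Basis (Fin 2) X.functionField (A.M.presheaf.stalk (genericPoint X)), b 0 = v₀ ∧ b 1 = v₁ := by
  have hli : LinearIndependent X.functionField ![v₀, v₁] := by
    rw [LinearIndependent.pair_iff]
    intro s t hst
    have h2 := e_comb h0 h1 s t
    have h3 : A.e ((s : X.presheaf.stalk (genericPoint X)) • v₀ + (t : X.presheaf.stalk (genericPoint X)) • v₁) = 0 := by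
      rw [← map_zero A.e]
      exact congrArg A.e hst
    rw [h3] at h2
    have h4 := congrArg (fun P => P.coeff 0) h2
    have h5 := congrArg (fun P => P.coeff 1) h2
    simp [Polynomial.coeff_C] at h4 h5
    exact ⟨h4.symm, h5.symm⟩
  have hsp : ⊤ ≤ Submodule.span X.functionField (Set.range ![v₀, v₁]) := by
    intro v _
    have h2 := natDegree_e D v
    have h3 := Polynomial.eq_X_add_C_of_natDegree_le_one h2
    rw [add_comm, ← e_comb h0 h1] at h3
    have h4 := A.inj h3
    rw [h4]
    refine Submodule.add_mem _ (Submodule.smul_mem _ _ (Submodule.subset_span ⟨0, rfl⟩))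
      (Submodule.smul_mem _ _ (Submodule.subset_span ⟨1, rfl⟩))
  refine ⟨Basis.mk hli hsp, ?_, ?_⟩
  · rw [Basis.mk_apply]; rfl
  · rw [Basis.mk_apply]; rfl

end basis

section loc

variable [RegOne X]

/-- Local data in codimension one. -/
structure Loc (A : Lt X (Polynomial X.functionField)) (Λ : Lt X X.functionField) (α β : C1 X → X.functionField) :
    Prop where
  gen : Gens Λ α
  mem : ∀ (y : C1 X) (P), P ∈ A.lat y.1 ↔ ∃ r s : X.presheaf.stalk y.1,
    P = Polynomial.C (algebraMap _ X.functionField r) +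
      Polynomial.C (algebraMap _ X.functionField s) * (Polynomial.C (α y) * Polynomial.X + Polynomial.C (β y))

theorem exists_loc (D : Dat x A Λ) (hx1 : ∀ y : C1 X, y.1 ≠ x) : ∃ α β, Loc A Λ α β := by
  have h := fun y : C1 X => D.off y.1 (hx1 y)
  choose α β h0 h1 h2 using h
  exact ⟨α, β, ⟨h0, h2⟩, h1⟩

theorem loc_inv {a b : X.functionField} (ha : a ≠ 0) (P : Polynomial X.functionField) :
    (loc a b P).comp (C a * Polynomial.X + C b) = P := by
  unfold loc
  rw [Polynomial.comp_assoc]
  have : (C a⁻¹ * (Polynomial.X - C b)).comp (C a * Polynomial.X + C b) = Polynomial.X := by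
    simp only [Polynomial.mul_comp, Polynomial.sub_comp, Polynomial.C_comp, Polynomial.X_comp]
    rw [add_sub_cancel_right, ← mul_assoc, ← Polynomial.C_mul, inv_mul_cancel₀ ha, Polynomial.C_1, one_mul]
  rw [this, Polynomial.comp_X]

theorem mem_locSub (y : C1 X) {a b : X.functionField} (ha : a ≠ 0) {m : ℕ} {P : Polynomial X.functionField}
    (hP : P ≠ 0) (hm : P.natDegree ≤ m) : P ∈ locSub y.1 a b m ↔ 0 ≤ cont (X.presheaf.stalk y.1) (loc a b P) := by
  rw [int_iff (loc_ne_zero ha b hP)]
  constructor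
  · rintro ⟨Q, hQ, rfl⟩
    exact ⟨Q, (loc_comp ha Q).symm⟩
  · rintro ⟨Q, hQ⟩
    refine ⟨Q, ?_, ?_⟩
    · rw [← Polynomial.natDegree_map_eq_of_injective
        (IsFractionRing.injective (X.presheaf.stalk y.1) X.functionField), hQ]
      unfold loc
      rw [Polynomial.natDegree_comp]
      have h7 : (C a⁻¹ * (Polynomial.X - C b)).natDegree ≤ 1 := by compute_degree
      calc _ ≤ m * 1 := Nat.mul_le_mul hm h7
        _ = m := mul_one m
    · rw [hQ, loc_inv ha]

variable {α β : C1 X → X.functionField} (H : Loc A Λ α β)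

include H

theorem lat_A (y : C1 X) : A.lat y.1 = locSub y.1 (α y) (β y) 1 := by
  ext P
  rw [H.mem]
  constructor
  · rintro ⟨r, s, rfl⟩
    refine ⟨C r + C s * Polynomial.X, by compute_degree, ?_⟩
    simp
  · rintro ⟨Q, hQ, rfl⟩
    refine ⟨Q.coeff 0, Q.coeff 1, ?_⟩
    conv_lhs => rw [Polynomial.eq_X_add_C_of_natDegree_le_one hQ]
    simp only [Polynomial.map_add, Polynomial.map_mul, Polynomial.map_C, Polynomial.map_X, Polynomial.add_comp,
      Polynomial.mul_comp, Polynomial.C_comp, Polynomial.X_comp]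
    rw [add_comm]

theorem lat_S (D : Dat x A Λ) (m : ℕ) (y : C1 X) : (S A m).lat y.1 = locSub y.1 (α y) (β y) m :=
  S_off D (H.mem y) m

/-- The bad set is finite. -/
theorem finite_bad [IsNoetherian X] (D : Dat x A Λ) (hx : x ≠ genericPoint X) :
    {y : C1 X | ¬ (ordK (X.presheaf.stalk y.1) (α y) = 0 ∧ (β y = 0 ∨ 0 ≤ ordK (X.presheaf.stalk y.1) (β y)))}.Finite := by
  obtain ⟨v₀, v₁, h0, h1⟩ := exists_v D hx
  obtain ⟨b, hb0, hb1⟩ := exists_basis h0 h1 D
  refine (deg_fin A.coh A.tf LinearMap.id Function.bijective_id b).subset fun y hy hy' => hy ?_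
  have hlat : ∀ P, P ∈ A.lat y.1 ↔ ∃ r s : X.presheaf.stalk y.1,
      P = C (algebraMap _ X.functionField r) + C (algebraMap _ X.functionField s) * Polynomial.X := by
    have h2 : ∀ v : A.M.presheaf.stalk (genericPoint X), v ∈ lat A.M LinearMap.id y.1 ↔
        ∃ f : Fin 2 → X.presheaf.stalk y.1, v = ∑ i, f i • b i := by
      intro v
      have h3 := mem_sp_iff (X.presheaf.stalk y.1) b v
      rw [← h3]
      exact Eq.to_iff (congrArg (fun Λ' => v ∈ Λ') hy')
    have h4 : ∀ f : Fin 2 → X.presheaf.stalk y.1, A.e (∑ i, f i • b i) =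
        C (algebraMap _ X.functionField (f 0)) + C (algebraMap _ X.functionField (f 1)) * Polynomial.X := by
      intro f
      rw [Fin.sum_univ_two, hb0, hb1]
      exact e_comb h0 h1 _ _
    intro P
    constructor
    · rintro ⟨m, rfl⟩
      obtain ⟨f, hf⟩ := (h2 (A.M.presheaf.stalkSpecializes (gen y.1) m)).1 ⟨m, rfl⟩
      refine ⟨f 0, f 1, ?_⟩
      rw [← h4, ← hf]
      rfl
    · rintro ⟨r, s, rfl⟩
      obtain ⟨m, hm⟩ := (h2 (∑ i, (![r, s] : Fin 2 → X.presheaf.stalk y.1) i • b i)).2 ⟨_, rfl⟩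
      refine ⟨m, ?_⟩
      have h5 := h4 ![r, s]
      refine Eq.trans ?_ h5
      exact congrArg A.e hm
  have hα := H.gen.ne y
  -- the element `X`
  obtain ⟨r, s, hrs⟩ := (H.mem y Polynomial.X).1 ((hlat _).2 ⟨0, 1, by simp⟩)
  obtain ⟨r', s', hrs'⟩ := (hlat (C (α y) * Polynomial.X + C (β y))).1 ((H.mem y _).2 ⟨0, 1, by simp⟩)
  have e1 : 1 = algebraMap _ X.functionField s * α y := by
    have := congrArg (fun P => P.coeff 1) hrs
    simpa [Polynomial.coeff_C] using this
  have e2 : α y = algebraMap _ X.functionField s' := by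
    have := congrArg (fun P => P.coeff 1) hrs'
    simpa [Polynomial.coeff_C] using this
  have e3 : β y = algebraMap _ X.functionField r' := by
    have := congrArg (fun P => P.coeff 0) hrs'
    simpa [Polynomial.coeff_C] using this
  constructor
  · have hs : algebraMap (X.presheaf.stalk y.1) X.functionField s ≠ 0 := fun h => by
      rw [h, zero_mul] at e1
      exact one_ne_zero e1
    have h2 := ordK_mul (X.presheaf.stalk y.1) hs hα
    rw [← e1, ordK_one] at h2
    have h3 := (ordK_nonneg_iff (X.presheaf.stalk y.1) hs).2 ⟨s, rfl⟩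
    have h4 := (ordK_nonneg_iff (X.presheaf.stalk y.1) hα).2 ⟨s', e2.symm⟩
    omega
  · by_cases hb : β y = 0
    · exact Or.inl hb
    · exact Or.inr ((ordK_nonneg_iff (X.presheaf.stalk y.1) hb).2 ⟨r', e3.symm⟩)

end loc

end K94.Deg2
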