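import Groth.Agent.ShStab.K94.Deg2

/-!
# Degrees of the lines in an embedded extension of rank two
-/

set_option autoImplicit false
set_option linter.unusedSectionVars false
universe u
open CategoryTheory CategoryTheory.Limits AlgebraicGeometry Opposite TopologicalSpace Module
open scoped TensorProduct

namespace K94.Deg3

open Groth.Agent Groth.Agent.CycB.StalkExact Groth.Agent.VarietyB.ExactLoc
open Groth.Agent.Fdesc.Skyscraper Groth.Agent.CycB.CohStalk Groth.Agent.Sga67.CohBasic
open K848.TF K849.Cst K849.CstTor K849.DvrLat K848.Rank K849.CstDeg K94.Tens K94.Emb K94.Tw K94.Ext K94.Sym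
open K94.Deg K94.Gauss K94.Delta K94.Deg2
open Polynomial (C)

attribute [local instance 50] modAt

variable {X : Scheme.{u}} [IsIntegral X] {A : Lt X (Polynomial X.functionField)} {Λ : Lt X X.functionField} {x : X}

section line

variable (w : A.M.presheaf.stalk (genericPoint X)) (hw : w ≠ 0)

/-- The line. -/
noncomputable def ln : Submodule (X.presheaf.stalk (genericPoint X)) (A.M.presheaf.stalk (genericPoint X)) :=
  Submodule.span (X.presheaf.stalk (genericPoint X)) {w}

/-- The basis of a line. -/
noncomputable def bl : Basis (Fin 1) X.functionField (ln w) :=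
  (Basis.singleton (Fin 1) X.functionField).map
    (LinearEquiv.toSpanNonzeroSingleton X.functionField (A.M.presheaf.stalk (genericPoint X)) w hw)

theorem bl_zero : ((bl w hw 0 : ln w) : A.M.presheaf.stalk (genericPoint X)) = w := by
  unfold bl
  rw [Basis.map_apply, Basis.singleton_apply]
  exact congrArg Subtype.val
    (LinearEquiv.toSpanNonzeroSingleton_one X.functionField (A.M.presheaf.stalk (genericPoint X)) w hw)

theorem mem_lat_id (y : X) (v : A.M.presheaf.stalk (genericPoint X)) :
    v ∈ lat A.M LinearMap.id y ↔ A.e v ∈ A.lat y := by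
  constructor
  · rintro ⟨m, rfl⟩
    exact ⟨m, rfl⟩
  · rintro ⟨m, hm⟩
    exact ⟨m, A.inj hm⟩

theorem e_smul (t : X.functionField) : A.e ((t : X.presheaf.stalk (genericPoint X)) • w) = C t * A.e w :=
  (map_smul A.e _ w).trans (Polynomial.smul_eq_C_mul t)

variable [RegOne X] [IsLocallyNoetherian X] {α β : C1 X → X.functionField} (H : Loc A Λ α β)

include H hw in
theorem idx_line (D : Dat x A Λ) (y : C1 X) : idx (X.presheaf.stalk y.1) (bl w hw)
    ((lat A.M LinearMap.id y.1).comap ((ln w).subtype.restrictScalars (X.presheaf.stalk y.1))) =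
      cont (X.presheaf.stalk y.1) (loc (α y) (β y) (A.e w)) := by
  have hP0 : A.e w ≠ 0 := fun h => hw (A.inj (by rw [h, map_zero]))
  have hP1 : (A.e w).natDegree ≤ 1 := natDegree_e D w
  have hl0 := loc_ne_zero (H.gen.ne y) (β y) hP0
  obtain ⟨c, hc, hcn⟩ := exists_ordK_eq (K := X.functionField) (X.presheaf.stalk y.1)
    (-cont (X.presheaf.stalk y.1) (loc (α y) (β y) (A.e w)))
  have key : ∀ v : ln w, v ∈ (lat A.M LinearMap.id y.1).comap
      ((ln w).subtype.restrictScalars (X.presheaf.stalk y.1)) ↔
      ∃ s : X.presheaf.stalk y.1, v = (algebraMap _ X.functionField s * c) • bl w hw 0 := by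
    intro v
    obtain ⟨v, hv⟩ := v
    obtain ⟨t, rfl⟩ := Submodule.mem_span_singleton.1 hv
    have h1 : (⟨t • w, hv⟩ : ln w) ∈ (lat A.M LinearMap.id y.1).comap
      ((ln w).subtype.restrictScalars (X.presheaf.stalk y.1)) ↔ C (t : X.functionField) * A.e w ∈ A.lat y.1 := by
      rw [← e_smul]
      exact mem_lat_id y.1 _
    rw [h1, lat_A H]
    have h2 : (∃ s : X.presheaf.stalk y.1, (⟨t • w, hv⟩ : ln w) = (algebraMap _ X.functionField s * c) • bl w hw 0) ↔
        ∃ s : X.presheaf.stalk y.1, t = algebraMap _ X.functionField s * c := by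
      refine exists_congr fun s => ?_
      constructor
      · intro h
        have h3 := congrArg Subtype.val h
        have h4 : t • w = (algebraMap _ X.functionField s * c) • w := by
          refine h3.trans ?_
          rw [Submodule.coe_smul, bl_zero]
        have h5 := sub_eq_zero.2 h4
        rw [← sub_smul] at h5
        exact sub_eq_zero.1 ((smul_eq_zero_iff_left (M := A.M.presheaf.stalk (genericPoint X))
          (R := X.functionField) hw).1 h5)
      · intro h
        apply Subtype.ext
        rw [Submodule.coe_smul, bl_zero]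
        exact congrArg (· • w) h
    rw [h2]
    by_cases ht : (t : X.functionField) = 0
    · constructor
      · intro _
        exact ⟨0, by rw [map_zero, zero_mul]; exact ht⟩
      · intro _
        rw [ht, Polynomial.C_0, zero_mul]
        exact Submodule.zero_mem _
    · have h3 : C (t : X.functionField) * A.e w ≠ 0 := mul_ne_zero (Polynomial.C_ne_zero.2 ht) hP0
      have h4 : (C (t : X.functionField) * A.e w).natDegree ≤ 1 := (Polynomial.natDegree_C_mul_le _ _).trans hP1
      rw [mem_locSub y (H.gen.ne y) h3 h4, loc_mul, loc_C, cont_C_mul ht hl0]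
      constructor
      · intro h5
        obtain ⟨s, hs⟩ := exists_smul_of_ordK_le (X.presheaf.stalk y.1) hc ht (by omega)
        exact ⟨s, by rw [← Algebra.smul_def]; exact hs.symm⟩
      · rintro ⟨s, hs⟩
        have hs0 : algebraMap (X.presheaf.stalk y.1) X.functionField s ≠ 0 := fun h => ht (by rw [hs, h, zero_mul])
        have h5 := (ordK_nonneg_iff (X.presheaf.stalk y.1) hs0).2 ⟨s, rfl⟩
        have h6 := ordK_mul (X.presheaf.stalk y.1) hs0 hc
        have h7 : ordK (X.presheaf.stalk y.1) (t : X.functionField) =
          ordK (X.presheaf.stalk y.1) (algebraMap (X.presheaf.stalk y.1) X.functionField s * c) :=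
          congrArg _ hs
        omega
  rw [idx_of_gen (bl w hw) y _ c hc key, hcn, neg_neg]

include H hw in
theorem deg_line [IsNoetherian X] (D : Dat x A Λ) {φ : X.Modules → ℚ} (hφ : Adt φ) :
    φ (genSub A.M (ln w)).toModules = φ (Coh.structureModule X) +
      ∑ᶠ y : C1 X, (cont (X.presheaf.stalk y.1) (loc (α y) (β y) (A.e w)) : ℚ) * φ (gm y.1) := by
  have h := deg_genSub (ln w) hφ A.coh A.tf (bl w hw)
  simp only [idx_line w hw H D] at h
  rw [h, Nat.cast_one, one_mul]

end line

end K94.Deg3
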