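import Groth.Agent.ShStab.K94.Deg3

/-!
# The degree inequality for forms on a semistable extension of rank two
-/

set_option autoImplicit false
set_option linter.unusedSectionVars false
set_option linter.overlappingInstances false
universe u
open CategoryTheory CategoryTheory.Limits AlgebraicGeometry Opposite TopologicalSpace Module
open scoped TensorProduct

namespace K94.Deg4

open Groth.Agent Groth.Agent.CycB.StalkExact Groth.Agent.VarietyB.ExactLoc
open Groth.Agent.Fdesc.Skyscraper Groth.Agent.CycB.CohStalk Groth.Agent.Sga67.CohBasic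
open K848.TF K849.Cst K849.CstTor K849.DvrLat K848.Rank K849.CstDeg K94.Tens K94.Emb K94.Tw K94.Ext K94.Sym
open K848.HB K848.Stab K848.Poly K848.Hull StabCat ShStab
open K94.Deg K94.Gauss K94.Delta K94.Deg2 K94.Deg3
open Polynomial (C)

attribute [local instance 50] modAt

variable {X : Scheme.{u}} [IsIntegral X] {A : Lt X (Polynomial X.functionField)} {Λ : Lt X X.functionField} {x : X}

theorem rk_line (w : A.M.presheaf.stalk (genericPoint X)) (hw : w ≠ 0) : rk (genSub A.M (ln w)).toModules = 1 := by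
  have e : (genSub A.M (ln w)).toModules.presheaf.stalk (genericPoint X) ≃ₗ[X.presheaf.stalk (genericPoint X)]
    ln w := LinearEquiv.ofBijective (subHom A.M (ln w)) (subHom_bijective A.M (ln w))
  have h := e.finrank_eq
  have h1 := Module.finrank_eq_card_basis (bl w hw)
  rw [Fintype.card_fin] at h1
  exact h.trans h1

theorem rk_A (D : Dat x A Λ) [IsLocallyNoetherian X] (hx : x ≠ genericPoint X) : rk A.M = 2 := by
  obtain ⟨v₀, v₁, h0, h1⟩ := exists_v D hx
  obtain ⟨b, -⟩ := exists_basis h0 h1 D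
  have h := Module.finrank_eq_card_basis b
  rw [Fintype.card_fin] at h
  exact h

section main

variable (k : Type u) [Field k] [X.Over (Spec (CommRingCat.of k))] [IsProper (X ↘ Spec (CommRingCat.of k))]
  [IsNoetherian X] [RegOne X] {H : X.Modules} (hH : CohB1.IsAmple H) (hdim : topologicalKrullDim X = (2 : ℕ))

/-- The degree function. -/
noncomputable def ph (H F : X.Modules) : ℚ := alpha (2 - 1) (hp k H F)

include hH hdim in
theorem adt_ph : Adt (ph k H) := adt_alpha k hH.1 hdim

variable (D : Dat x A Λ) (hx : x ≠ genericPoint X)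
  (hss : StabCat.IsMuSS Coh.IsCoh (IsHilbPoly k X H) 2 A.M)

include hH hdim D hx hss in
theorem line_le {F : X.Modules} (ι : F ⟶ A.M) (hι : Mono ι) (hF : Coh.IsCoh F) (h1 : rk F = 1) :
    2 * ph k H F ≤ ph k H A.M := by
  have ha := alpha_O_pos k hH hdim
  have h2 := alpha_rk k hH.1 hdim hF
  have h3 := alpha_rk k hH.1 hdim A.coh
  rw [h1, Nat.cast_one, one_mul] at h2
  rw [rk_A D hx] at h3
  have h := hss F ι hι hF (hp k H F) (hp k H A.M) (isHilbPoly_hp k hH.1 hF) (isHilbPoly_hp k hH.1 A.coh)
    (by rw [h2]; exact ha) (by rw [h2, h3]; push_cast; linarith)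
  unfold hatSlope at h
  rw [h2, h3] at h
  push_cast at h
  rw [div_le_div_iff₀ ha (by linarith)] at h
  change alpha (2 - 1) (hp k H F) * (2 * _) ≤ alpha (2 - 1) (hp k H A.M) * _ at h
  unfold ph
  nlinarith

include hH hdim in
/-- **The degree inequality for forms.** -/
theorem deg_le [CharZero X.functionField] {α β : C1 X → X.functionField} (Hl : Loc A Λ α β)
    (hΛ : PicF.IsInvertible Λ.M) (hE : ph k H A.M = ph k H (Coh.structureModule X) + ph k H Λ.M)
    (D : Dat x A Λ) (hx : x ≠ genericPoint X) (hss : StabCat.IsMuSS Coh.IsCoh (IsHilbPoly k X H) 2 A.M)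
    {P : Polynomial X.functionField} (hP : P ≠ 0) :
    2 * ∑ᶠ y : C1 X, dlt k H 2 y * (cont (X.presheaf.stalk y.1) (loc (α y) (β y) P) : ℚ) ≤
      P.natDegree * (ph k H Λ.M - ph k H (Coh.structureModule X)) := by
  have hφ := adt_ph k hH hdim
  have hL := Gens.deg (bijective_e hΛ) Hl.gen hφ
  have hcomm : ∀ g : C1 X → ℤ, ∑ᶠ y : C1 X, dlt k H 2 y * (g y : ℚ) = ∑ᶠ y : C1 X, (g y : ℚ) * ph k H (gm y.1) :=
    fun g => finsum_congr fun y => mul_comm _ _
  have hlam : -∑ᶠ y : C1 X, dlt k H 2 y * (ordK (X.presheaf.stalk y.1) (α y) : ℚ) =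
      ph k H Λ.M - ph k H (Coh.structureModule X) := by
    rw [hcomm, hL]
    ring
  rw [← hlam]
  refine K94.Glob.D_le (K := X.functionField) (fun y : C1 X => X.presheaf.stalk y.1) (fun y => dlt k H 2 y) α β
    (fun f hf => finite_ordK hf) Hl.gen.ne (finite_bad Hl D hx) (fun y => (dlt_pos k hH hdim y).le) ?_ ?_ hP
  · intro f hf
    rw [hcomm]
    exact principal hφ hf
  · intro a
    obtain ⟨v₀, v₁, h0, h1⟩ := exists_v D hx
    have hw : A.e (v₁ - (a : X.presheaf.stalk (genericPoint X)) • v₀) = Polynomial.X - C a := by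
      rw [map_sub, map_smul, h0, h1]
      congr 1
      exact (Polynomial.smul_eq_C_mul a).trans (mul_one _)
    have hw0 : v₁ - (a : X.presheaf.stalk (genericPoint X)) • v₀ ≠ 0 := fun h => by
      rw [h, map_zero] at hw
      exact Polynomial.X_sub_C_ne_zero a hw.symm
    have h2 := deg_line _ hw0 Hl D hφ
    have h3 := line_le k hH hdim D hx hss (genSub A.M (ln _)).ι inferInstance (isCoh_genSub _ A.coh)
      (rk_line (v₁ - (a : X.presheaf.stalk (genericPoint X)) • v₀) hw0)
    rw [h2, hw, hE] at h3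
    rw [hlam]
    unfold K94.Glob.D
    rw [hcomm (fun y => cont (X.presheaf.stalk y.1) (loc (α y) (β y) (Polynomial.X - C a)))]
    linarith

include hH hdim in
theorem deg_nonneg (hE : ph k H A.M = ph k H (Coh.structureModule X) + ph k H Λ.M)
    (D : Dat x A Λ) (hx : x ≠ genericPoint X) (hss : StabCat.IsMuSS Coh.IsCoh (IsHilbPoly k X H) 2 A.M)
    (f : Coh.structureModule X ⟶ A.M) (hf : Mono f) : 0 ≤ ph k H Λ.M - ph k H (Coh.structureModule X) := by
  have h := line_le k hH hdim D hx hss f hf isCoh_structureModule rk_structureModule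
  linarith

end main

end K94.Deg4
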