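import Groth.Agent.ShStab.K94.Van
import Groth.Agent.Variety.K433.HqBase

/-!
# Degrees of invertible modules on a polarised surface
-/

set_option autoImplicit false
set_option linter.unusedSectionVars false
set_option linter.overlappingInstances false
universe u
open CategoryTheory CategoryTheory.Limits AlgebraicGeometry Opposite TopologicalSpace Module

namespace K94.DegP

open Groth.Agent Groth.Agent.Fga.PicMon Groth.Agent.Grpsch.PicGrp Groth.Agent.Fdesc.LocGen
open K433.Hq K848.Rank K848.Stab K848.Hull K848.HB K94.Emb K94.Tw K94.Deg K94.Deg4 K94.Van K849.Cst K849.CstDeg K848.Poly StabCat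

variable (k : Type u) [Field k] {X : Scheme.{u}} [IsIntegral X] [X.Over (Spec (CommRingCat.of k))]
  [IsProper (X ↘ Spec (CommRingCat.of k))] {H : X.Modules} (hH : CohB1.IsAmple H)
  (hdim : topologicalKrullDim X = (2 : ℕ))

theorem dg_congr (hH : CohB1.IsAmple H) {M N : X.Modules} (e : Nonempty (M ≅ N)) (hM : Coh.IsCoh M) :
    dg k H M = dg k H N := by
  obtain ⟨e⟩ := e
  unfold dg ph
  rw [hp_iso k hH.1 hM e]

/-- The degree of a class. -/
noncomputable def dP (H : X.Modules) (c : Pic X) : ℚ := dg k H (rep c)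

theorem dP_mk (hH : CohB1.IsAmple H) {P : X.Modules} (hP : PicF.IsInvertible P) : dP k H (mk P hP) = dg k H P :=
  dg_congr k hH ((mc_eq_iff _ _).1 (mc_rep hP rfl)) (isCoh_of_isInvertible (rep_inv _))

variable [IsNoetherian X] [RegOne X]

include hH hdim in
theorem dP_mul (a b : Pic X) : dP k H (a * b) = dP k H a + dP k H b := by
  obtain ⟨B, hB⟩ := exists_lt (rep_inv a)
  obtain ⟨B', hB'⟩ := exists_lt (rep_inv b)
  have h1 : PicF.IsInvertible B.M := by rw [hB]; exact rep_inv a
  have h2 : PicF.IsInvertible B'.M := by rw [hB']; exact rep_inv b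
  have h := deg_twist h1 h2 (adt_ph k hH hdim)
  rw [hB, hB'] at h
  have h3 : dg k H (rep (a * b)) = dg k H (CohB1.tensorMod (rep a) (rep b)) := by
    refine dg_congr k hH ((mc_eq_iff _ _).1 ?_) (isCoh_of_isInvertible (rep_inv _))
    rw [mc_rep_mul, mc_tensor]
  unfold dP
  rw [h3]
  unfold dg
  rw [h]
  ring

/-- The degree homomorphism. -/
noncomputable def dHom : Additive (Pic X) →+ ℚ :=
  AddMonoidHom.mk' (fun c => dP k H (Additive.toMul c)) (fun _ _ => dP_mul k hH hdim _ _)

include hH hdim in
theorem dP_zpow (a : Pic X) (n : ℤ) : dP k H (a ^ n) = n * dP k H a := by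
  have h := map_zsmul (dHom k hH hdim) n (Additive.ofMul a)
  rw [zsmul_eq_mul] at h
  exact h

include hH hdim in
theorem dP_inv (a : Pic X) : dP k H a⁻¹ = - dP k H a := by
  have h := dP_zpow k hH hdim a (-1)
  rw [zpow_neg_one] at h
  rw [h]
  push_cast
  ring

include hH hdim in
theorem dP_H_pos : 0 < dP k H (mk H hH.1) := by
  rw [dP_mk k hH]
  have h1 := alpha_pred_twist k hH.1 hdim (by norm_num) (F := Coh.structureModule X) (G := H)
    isCoh_structureModule (isCoh_of_isInvertible hH.1) 1 (by rw [mc_one, one_mul, pow_one])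
  have h2 := alpha_O_pos k hH hdim
  unfold dg ph
  rw [h1]
  push_cast
  linarith

end K94.DegP
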