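import Groth.Agent.ShStab.K94.Gauss

/-!
# The discriminant form of binary forms
-/

set_option autoImplicit false

open Polynomial K849.DvrLat

namespace K94.Delta

section scale

variable {R : Type*} [CommRing R]

/-- Scaling the variable in a resultant. -/
theorem resultant_scale (f g : R[X]) (m n : ℕ) (a : R) :
    a ^ (∑ j : Fin m, (j : ℕ)) * a ^ (∑ j : Fin n, (j : ℕ)) *
      resultant (f.comp (C a * X)) (g.comp (C a * X)) m n =
    a ^ (∑ i : Fin (m + n), (i : ℕ)) * resultant f g m n := by
  have h1 : sylvester (f.comp (C a * X)) (g.comp (C a * X)) m n *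
      Matrix.diagonal (fun j : Fin (m + n) => Fin.addCases (motive := fun _ => R) (fun j₁ : Fin m => a ^ (j₁ : ℕ))
        (fun j₁ : Fin n => a ^ (j₁ : ℕ)) j) =
      Matrix.diagonal (fun i : Fin (m + n) => a ^ (i : ℕ)) * sylvester f g m n := by
    ext i j
    rw [Matrix.mul_diagonal, Matrix.diagonal_mul]
    have hc : ∀ (p : R[X]) (l : ℕ), (p.comp (C a * X)).coeff l = p.coeff l * a ^ l := fun p l => by
      rw [comp_C_mul_X_coeff]
    induction j using Fin.addCases with
    | left j =>
      simp only [sylvester, Matrix.of_apply, Fin.addCases_left, hc]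
      split_ifs with h
      · have h2 : (i : ℕ) = (i - j : ℕ) + j := by
          have := h.1
          omega
        conv_rhs => rw [h2, pow_add]
        rw [Nat.add_sub_cancel]
        ring
      · ring
    | right j =>
      simp only [sylvester, Matrix.of_apply, Fin.addCases_right, hc]
      split_ifs with h
      · have h2 : (i : ℕ) = (i - j : ℕ) + j := by
          have := h.1
          omega
        conv_rhs => rw [h2, pow_add]
        rw [Nat.add_sub_cancel]
        ring
      · ring
  have h2 := congrArg Matrix.det h1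
  rw [Matrix.det_mul, Matrix.det_mul, Matrix.det_diagonal, Matrix.det_diagonal, Fin.prod_univ_add] at h2
  simp only [Fin.addCases_left, Fin.addCases_right, Finset.prod_pow_eq_pow_sum] at h2
  rw [mul_comm]
  exact h2

theorem sum_fin (n : ℕ) : 2 * (∑ j : Fin n, (j : ℕ)) = n * (n - 1) := by
  rw [Fin.sum_univ_eq_sum_range (fun i => i) n, mul_comm, Finset.sum_range_id_mul_two]

theorem resultant_scale_field {K : Type*} [Field K] (f g : K[X]) (m n : ℕ) {a : K} (ha : a ≠ 0) :
    resultant (f.comp (C a * X)) (g.comp (C a * X)) m n = a ^ (m * n) * resultant f g m n := by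
  have h := resultant_scale f g m n a
  rw [← pow_add] at h
  have h1 : (∑ i : Fin (m + n), (i : ℕ)) = (∑ j : Fin m, (j : ℕ)) + (∑ j : Fin n, (j : ℕ)) + m * n := by
    have e1 := sum_fin (m + n)
    have e2 := sum_fin m
    have e3 := sum_fin n
    have : (m + n) * (m + n - 1) = m * (m - 1) + n * (n - 1) + 2 * (m * n) := by
      rcases m with _ | m <;> rcases n with _ | n <;> simp <;> ring
    omega
  rw [h1, pow_add _ (_ + _), mul_assoc] at h
  exact mul_left_cancel₀ (pow_ne_zero _ ha) h

end scale

section delta

variable {R : Type*} [CommRing R]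

/-- The discriminant form of a polynomial of degree at most `d`. -/
noncomputable def Delta (d : ℕ) (P : R[X]) : R :=
  resultant (derivative P) (C (d : R) * P - X * derivative P) (d - 1) (d - 1)

theorem Delta_C_mul (d : ℕ) (c : R) (P : R[X]) : Delta d (C c * P) = c ^ (2 * (d - 1)) * Delta d P := by
  unfold Delta
  have h1 : C (d : R) * (C c * P) - X * derivative (C c * P) = C c * (C (d : R) * P - X * derivative P) := by
    rw [derivative_C_mul]
    ring
  rw [h1, derivative_C_mul, resultant_C_mul_left, resultant_C_mul_right]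
  ring

theorem Delta_map {S : Type*} [CommRing S] (φ : R →+* S) (d : ℕ) (P : R[X]) :
    Delta d (P.map φ) = φ (Delta d P) := by
  unfold Delta
  rw [← resultant_map_map, Polynomial.map_sub, Polynomial.map_mul, Polynomial.map_mul, map_C, map_X,
    derivative_map, _root_.map_natCast φ d]

end delta

section field

variable {K : Type*} [Field K]

theorem Delta_scale (d : ℕ) (P : K[X]) {a : K} (ha : a ≠ 0) :
    Delta d (P.comp (C a * X)) = a ^ ((d - 1) * (d - 1) + (d - 1)) * Delta d P := by
  unfold Delta
  have h0 : derivative (P.comp (C a * X)) = C a * (derivative P).comp (C a * X) := by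
    rw [derivative_comp]
    simp
  have h1 : C (d : K) * (P.comp (C a * X)) - X * derivative (P.comp (C a * X)) =
      (C (d : K) * P - X * derivative P).comp (C a * X) := by
    rw [h0]
    simp only [sub_comp, mul_comp, C_comp, X_comp]
    ring
  rw [h1, h0, resultant_C_mul_left, resultant_scale_field _ _ _ _ ha]
  ring

theorem natDegree_second {d : ℕ} {P : K[X]} (hP : P.natDegree ≤ d) :
    (C (d : K) * P - X * derivative P).natDegree ≤ d - 1 := by
  rw [natDegree_le_iff_coeff_eq_zero]
  intro n hn
  rw [coeff_sub, coeff_C_mul]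
  rcases n with _ | n
  · omega
  rw [coeff_X_mul, coeff_derivative]
  rcases (show n + 1 = d ∨ d < n + 1 by omega) with rfl | h
  · push_cast
    ring
  · rw [coeff_eq_zero_of_natDegree_lt (by omega : P.natDegree < n + 1)]
    ring

variable [CharZero K]

theorem natDegree_derivative' {d : ℕ} {P : K[X]} (hP : P.natDegree = d) :
    (derivative P).natDegree = d - 1 := by
  rw [natDegree_derivative, hP]

omit [CharZero K] in
theorem resultant_eq_of_le {f g : K[X]} {m n : ℕ} (hf : f.natDegree = m) (hg : g.natDegree ≤ n) :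
    resultant f g m n = f.leadingCoeff ^ (n - g.natDegree) * resultant f g := by
  subst hf
  have h := resultant_add_right_deg f g f.natDegree g.natDegree (n - g.natDegree) le_rfl
  rw [Nat.add_sub_cancel' hg] at h
  rw [h]
  rfl

theorem Delta_taylor {d : ℕ} {P : K[X]} (hP : P.natDegree = d) (b : K) :
    Delta d (taylor b P) = Delta d P := by
  unfold Delta
  have h0 : derivative (taylor b P) = taylor b (derivative P) := by
    rw [taylor_apply, taylor_apply, derivative_comp]
    simp
  have h1 : C (d : K) * taylor b P - X * derivative (taylor b P) =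
      taylor b (C (d : K) * P - X * derivative P) + taylor b (derivative P) * C b := by
    rw [h0]
    simp only [taylor_apply, sub_comp, mul_comp, C_comp, X_comp]
    ring
  have hd : (derivative P).natDegree = d - 1 := natDegree_derivative' hP
  have hd' : (taylor b (derivative P)).natDegree = d - 1 := by rw [natDegree_taylor, hd]
  rw [h1, h0, resultant_add_mul_right _ _ _ _ _ (by rw [natDegree_C]; omega) hd'.le]
  have hs := natDegree_second hP.le
  rw [resultant_eq_of_le hd hs, resultant_eq_of_le hd' (by rw [natDegree_taylor]; exact hs), resultant_taylor,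
    natDegree_taylor, leadingCoeff_taylor]

/-- Affine substitutions. -/
theorem Delta_affine {d : ℕ} {P : K[X]} (hP : P.natDegree = d) {a : K} (ha : a ≠ 0) (b : K) :
    Delta d (P.comp (C a⁻¹ * (X - C b))) * a ^ (d * (d - 1)) = Delta d P := by
  have h1 : P.comp (C a⁻¹ * (X - C b)) = taylor (-b) (P.comp (C a⁻¹ * X)) := by
    rw [taylor_apply, comp_assoc]
    simp [sub_eq_add_neg]
  have h2 : (P.comp (C a⁻¹ * X)).natDegree = d := by
    rw [natDegree_comp, natDegree_C_mul_X _ (inv_ne_zero ha), mul_one, hP]
  have h3 : (d - 1) * (d - 1) + (d - 1) = d * (d - 1) := by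
    rcases d with _ | d
    · simp
    · simp only [Nat.add_sub_cancel]
      ring
  rw [h1, Delta_taylor h2, Delta_scale _ _ (inv_ne_zero ha), h3, mul_right_comm, ← mul_pow,
    inv_mul_cancel₀ ha, one_pow, one_mul]

/-- Nonvanishing for irreducible polynomials. -/
theorem Delta_ne_zero {d : ℕ} (hd : 1 ≤ d) {P : K[X]} (hP : P.natDegree = d) (hirr : Irreducible P) :
    Delta d P ≠ 0 := by
  have hsep : IsCoprime P (derivative P) := hirr.separable
  have hd' : (derivative P).natDegree = d - 1 := natDegree_derivative' hP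
  have hc : IsCoprime (derivative P) (C (d : K) * P - X * derivative P) := by
    have hdK : (d : K) ≠ 0 := Nat.cast_ne_zero.2 (by omega)
    obtain ⟨u, v, huv⟩ := hsep
    refine ⟨v + C (d : K)⁻¹ * u * X, C (d : K)⁻¹ * u, ?_⟩
    have h1 : C (d : K)⁻¹ * C (d : K) = 1 := by rw [← C_mul, inv_mul_cancel₀ hdK, C_1]
    calc (v + C (d : K)⁻¹ * u * X) * derivative P + C (d : K)⁻¹ * u * (C (d : K) * P - X * derivative P)
        = u * P * (C (d : K)⁻¹ * C (d : K)) + v * derivative P := by ring
      _ = 1 := by rw [h1, mul_one, huv]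
  have hne : derivative P ≠ 0 := by
    intro h
    have h3 := derivative_eq_zero.1 h
    omega
  unfold Delta
  rw [resultant_eq_of_le hd' (natDegree_second hP.le)]
  exact mul_ne_zero (pow_ne_zero _ (leadingCoeff_ne_zero.2 hne)) (resultant_ne_zero _ _ hc)

end field

section dvr

open K94.Gauss

variable {R : Type*} [CommRing R] [IsDomain R] [IsDiscreteValuationRing R] {K : Type*} [Field K] [Algebra R K]
  [IsFractionRing R K] [CharZero K]

/-- The substitution attached to the lattice `R + R (a t + b)`. -/
noncomputable def loc (a b : K) (P : K[X]) : K[X] := P.comp (C a⁻¹ * (X - C b))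

omit [CharZero K] in
theorem loc_mul (a b : K) (P Q : K[X]) : loc a b (P * Q) = loc a b P * loc a b Q := mul_comp _ _ _

omit [CharZero K] in
theorem loc_C (a b c : K) : loc a b (C c) = C c := C_comp

omit [CharZero K] in
theorem loc_ne_zero {a : K} (ha : a ≠ 0) (b : K) {P : K[X]} (hP : P ≠ 0) : loc a b P ≠ 0 := by
  intro h
  have h1 : (loc a b P).comp (C a * X + C b) = P := by
    unfold loc
    rw [comp_assoc]
    have : (C a⁻¹ * (X - C b)).comp (C a * X + C b) = X := by
      simp only [mul_comp, sub_comp, C_comp, X_comp]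
      rw [add_sub_cancel_right, ← mul_assoc, ← C_mul, inv_mul_cancel₀ ha, C_1, one_mul]
    rw [this, comp_X]
  rw [h, zero_comp] at h1
  exact hP h1.symm

/-- The local inequality. -/
theorem local_ineq {a : K} (ha : a ≠ 0) (b : K) {d : ℕ} (hd : 1 ≤ d) {P : K[X]} (hP : P.natDegree = d)
    (hirr : Irreducible P) :
    2 * ((d - 1 : ℕ) : ℤ) * cont R (loc a b P) + (d * (d - 1) : ℕ) * ordK R a ≤ ordK R (Delta d P) := by
  have hP0 : P ≠ 0 := hirr.ne_zero
  have h0 := loc_ne_zero ha b hP0
  obtain ⟨c, Q, hc, hcc, hPQ, hQ⟩ := exists_prim (R := R) h0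
  have h1 : Delta d (loc a b P) * a ^ (d * (d - 1)) = Delta d P := Delta_affine hP ha b
  have h2 := Delta_ne_zero hd hP hirr
  have h3 : Delta d (loc a b P) ≠ 0 := by
    intro h
    rw [h, zero_mul] at h1
    exact h2 h1.symm
  have h4 : Delta d (loc a b P) = c ^ (2 * (d - 1)) * algebraMap R K (Delta d Q) := by
    conv_lhs => rw [hPQ]
    rw [Delta_C_mul, Delta_map]
  have h5 : algebraMap R K (Delta d Q) ≠ 0 := by
    intro h
    rw [h, mul_zero] at h4
    exact h3 h4
  have h6 : 0 ≤ ordK R (algebraMap R K (Delta d Q)) := (ordK_nonneg_iff R h5).2 ⟨_, rfl⟩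
  rw [← h1, ordK_mul R h3 (pow_ne_zero _ ha), h4, ordK_mul R (pow_ne_zero _ hc) h5, ordK_pow R hc,
    ordK_pow R ha, hcc]
  push_cast
  have : 2 * ((d - 1 : ℕ) : ℤ) * cont R (loc a b P) =
    2 * ((d - 1 : ℕ) : ℤ) * cont R (loc a b P) := rfl
  linarith

end dvr

end K94.Delta
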