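import Groth.Agent.AdjLin.K800.Duality
import Groth.Agent.Surf.K455.Canon
import Groth.Agent.Picfga.CurveRelDim

/-!
# A dualizing invertible module on a smooth proper surface
-/

set_option autoImplicit false
universe u
open CategoryTheory CategoryTheory.Limits AlgebraicGeometry TopologicalSpace

namespace K94.Dual

open Groth.Agent K800.KosCrit Groth.Agent.CohqB.HSeqMod

theorem subsingleton_of_dual {k V : Type*} [Field k] [AddCommGroup V] [Module k V] (h : ∀ ψ : V →ₗ[k] k, ψ = 0) :
    Subsingleton V := by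
  have h3 : ∀ y : V, y = 0 := fun y => by
    rw [← Module.forall_dual_apply_eq_zero_iff k y]
    intro ψ
    rw [h ψ, LinearMap.zero_apply]
  exact ⟨fun a b => (h3 a).trans (h3 b).symm⟩

theorem exists_dual (k : Type u) [Field k] (X : Scheme.{u}) [X.Over (Spec (CommRingCat.of k))] [IsIntegral X]
    [IsProper (X ↘ Spec (CommRingCat.of k))] [Smooth (X ↘ Spec (CommRingCat.of k))]
    (hdim : topologicalKrullDim X = (2 : ℕ)) : ∃ W : X.Modules, PicF.IsInvertible W ∧ ∀ F : X.Modules, Coh.IsQCoh F →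
      (∀ φ : F ⟶ W, φ = 0) → Subsingleton (Coh.HH X F 2) := by
  have := Picfga.CurveRelDim.smoothOfRelativeDimension_of_topologicalKrullDim_eq k X
    (X ↘ Spec (CommRingCat.of k)) 2 hdim
  obtain ⟨W, hW, hWi⟩ := K455.Canon.exists_canonical (X ↘ Spec (CommRingCat.of k)) 2
  obtain ⟨t, ht⟩ := K800.Duality.isDual_of_isTopDiff k X 2 hdim.le W hW
  refine ⟨W, hWi, fun F hF h0 => ?_⟩
  have h1 : ∀ ψ : Coh.HH X F 2 →ₗ[k] k, ψ = 0 := by
    intro ψ
    obtain ⟨φ, hφ, -⟩ := ht F hF ψ
    have h2 := h0 φ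
    subst h2
    refine LinearMap.ext fun y => ?_
    rw [hφ y]
    change t (hmap (0 : F ⟶ W) 2 y) = 0
    rw [hmap_zero_apply, map_zero]
  exact subsingleton_of_dual h1

end K94.Dual
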