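import Groth.Agent.ShStab.K94.Tens

/-!
# Coherent torsion-free modules embedded in a constant module
-/

set_option autoImplicit false
universe u
open CategoryTheory CategoryTheory.Limits AlgebraicGeometry Opposite TopologicalSpace Module
open scoped TensorProduct

namespace K94.Emb

open Groth.Agent Groth.Agent.CycB.StalkExact Groth.Agent.VarietyB.ExactLoc
open Groth.Agent.Fdesc.Skyscraper Groth.Agent.CycB.CohStalk Groth.Agent.Sga67.CohBasic
open K848.TF K849.Cst K849.CstTor K849.DvrLat K848.Rank K849.CstDeg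

attribute [local instance 50] modAt

variable {X : Scheme.{u}} [IsIntegral X]

/-- A coherent torsion-free module embedded in a constant module. -/
structure Lt (X : Scheme.{u}) [IsIntegral X] (V : Type u) [AddCommGroup V]
    [Module (X.presheaf.stalk (genericPoint X)) V] where
  M : X.Modules
  coh : Coh.IsCoh M
  tf : TorSh.IsTorsionFree M
  e : M.presheaf.stalk (genericPoint X) →ₗ[X.presheaf.stalk (genericPoint X)] V
  inj : Function.Injective e

variable {V : Type u} [AddCommGroup V] [Module (X.presheaf.stalk (genericPoint X)) V]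

/-- The lattices. -/
noncomputable abbrev Lt.lat (A : Lt X V) (y : X) : Submodule (X.presheaf.stalk y) V := K849.CstDeg.lat A.M A.e y

section maps

variable {G : X.Modules} {e : G.presheaf.stalk (genericPoint X) →ₗ[X.presheaf.stalk (genericPoint X)] V}
  {N : X.Modules} {eN : N.presheaf.stalk (genericPoint X) →ₗ[X.presheaf.stalk (genericPoint X)] V}
  {φ : G ⟶ N}

theorem latHom_stalk (h : eN.comp (stalkLin φ (genericPoint X)) = e) (y : X) (m : G.presheaf.stalk y) :
    latHom N eN y (stalkLin φ y m) = latHom G e y m := by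
  change eN (N.presheaf.stalkSpecializes (gen y) (stalkLin φ y m)) = e (G.presheaf.stalkSpecializes (gen y) m)
  rw [← stalkLin_spec, ← h]
  rfl

theorem stalk_surjective (h : eN.comp (stalkLin φ (genericPoint X)) = e) (hN : Coh.IsQCoh N)
    (tN : TorSh.IsTorsionFree N) (iN : Function.Injective eN) {y : X}
    (hy : K849.CstDeg.lat N eN y ≤ K849.CstDeg.lat G e y) : Function.Surjective (stalkLin φ y) := by
  intro n
  obtain ⟨m, hm⟩ := hy ⟨n, rfl⟩
  refine ⟨m, latHom_injective hN tN iN y ?_⟩
  rw [latHom_stalk h]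
  exact hm

theorem stalk_injective (h : eN.comp (stalkLin φ (genericPoint X)) = e) {y : X}
    (hy : Function.Injective (latHom G e y)) : Function.Injective (stalkLin φ y) := by
  intro a b hab
  apply hy
  rw [← latHom_stalk h, ← latHom_stalk h, hab]

end maps

theorem Lt.latHom_injective (A : Lt X V) (y : X) : Function.Injective (latHom A.M A.e y) :=
  K849.CstDeg.latHom_injective A.coh.1 A.tf A.inj y

theorem Lt.mono_toSky (A : Lt X V) : Mono (toSky (x := genericPoint X) A.e : A.M ⟶ cst V) := by
  refine mono_of_stalk _ fun y => ?_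
  intro a b hab
  apply A.latHom_injective y
  have h1 := stHom_stalkLin (toSky (x := genericPoint X) A.e : A.M ⟶ cst V) y a
  have h2 := stHom_stalkLin (toSky (x := genericPoint X) A.e : A.M ⟶ cst V) y b
  rw [ofSky_toSky] at h1 h2
  change A.e _ = A.e _
  rw [← h1, ← h2, hab]

/-- Maps to embedded modules. -/
theorem Lt.exists_map (B : Lt X V) {G : X.Modules}
    (e : G.presheaf.stalk (genericPoint X) →ₗ[X.presheaf.stalk (genericPoint X)] V)
    (h : ∀ y, K849.CstDeg.lat G e y ≤ B.lat y) :
    ∃ φ : G ⟶ B.M, B.e.comp (stalkLin φ (genericPoint X)) = e := by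
  have := B.mono_toSky
  obtain ⟨g, hg⟩ := exists_factor (toSky (x := genericPoint X) e) (toSky (x := genericPoint X) B.e : B.M ⟶ cst V)
    (fun y m => by
      obtain ⟨n, hn⟩ := h y ⟨m, rfl⟩
      refine ⟨n, (stHom_bijective _ y).1 ?_⟩
      rw [stHom_stalkLin, stHom_stalkLin, ofSky_toSky, ofSky_toSky]
      exact hn)
  refine ⟨g, ?_⟩
  have h1 := ofSky_comp g (toSky (x := genericPoint X) B.e : B.M ⟶ cst V)
  rw [hg, ofSky_toSky, ofSky_toSky] at h1
  exact h1.symm

/-- The image of a generic linear map. -/
theorem exists_image [IsLocallyNoetherian X] {G : X.Modules} (hG : Coh.IsCoh G)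
    (e : G.presheaf.stalk (genericPoint X) →ₗ[X.presheaf.stalk (genericPoint X)] V) :
    ∃ (A : Lt X V) (π : G ⟶ A.M), Epi π ∧ A.e.comp (stalkLin π (genericPoint X)) = e := by
  let F : G ⟶ cst V := toSky (x := genericPoint X) e
  have hk : Coh.IsCoh (kernel F) := isCoh_kernel F hG (isQCoh_cst V)
  have hN : Coh.IsCoh (Abelian.image F) :=
    isCoh_of_iso (Abelian.coimageIsoImage F) (isCoh_cokernel (kernel.ι F) hk.1 hG)
  have ht : TorSh.IsTorsionFree (Abelian.image F) := isTorsionFree_of_mono (Abelian.image.ι F) isTorsionFree_cst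
  refine ⟨⟨Abelian.image F, hN, ht, ofSky (Abelian.image.ι F), ofSky_injective _⟩, Abelian.factorThruImage F,
    inferInstance, ?_⟩
  change (ofSky (Abelian.image.ι F)).comp (stalkLin (Abelian.factorThruImage F) (genericPoint X)) = e
  rw [← ofSky_comp, Abelian.image.fac, ofSky_toSky]

/-- The image. -/
noncomputable def image [IsLocallyNoetherian X] {G : X.Modules} (hG : Coh.IsCoh G)
    (e : G.presheaf.stalk (genericPoint X) →ₗ[X.presheaf.stalk (genericPoint X)] V) : Lt X V :=
  (exists_image hG e).choose

theorem lat_image [IsLocallyNoetherian X] {G : X.Modules} (hG : Coh.IsCoh G)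
    (e : G.presheaf.stalk (genericPoint X) →ₗ[X.presheaf.stalk (genericPoint X)] V) (y : X) :
    (image hG e).lat y = K849.CstDeg.lat G e y := by
  obtain ⟨π, hπ, h⟩ := (exists_image hG e).choose_spec
  ext v
  constructor
  · rintro ⟨n, rfl⟩
    obtain ⟨m, rfl⟩ := stalkLin_surjective π y n
    exact ⟨m, (latHom_stalk h y m).symm⟩
  · rintro ⟨m, rfl⟩
    exact ⟨stalkLin π y m, latHom_stalk h y m⟩


end K94.Emb
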