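import Groth.Agent.ShStab.K94.Sym3
import Groth.Agent.Fga.ChiBasic

/-!
# Estimates for additive functions on the symmetric powers
-/

set_option autoImplicit false
set_option linter.unusedSectionVars false
universe u
open CategoryTheory CategoryTheory.Limits AlgebraicGeometry Opposite TopologicalSpace Module
open scoped TensorProduct

namespace K94.Est

open Groth.Agent Groth.Agent.CycB.StalkExact Groth.Agent.VarietyB.ExactLoc
open Groth.Agent.CycB.CohStalk Groth.Agent.Sga67.CohBasic
open K848.TF K849.Cst K848.Rank K94.Emb K94.Tw K94.Ext K94.Sym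
open Groth.Agent.Fga.ChiBasic (IsAdd)

variable {X : Scheme.{u}}

theorem shortExact_coker {M N : X.Modules} (f : M ⟶ N) [Mono f] :
    (ShortComplex.mk f (cokernel.π f) (cokernel.condition f)).ShortExact :=
  { exact := ShortComplex.exact_of_g_is_cokernel _ (cokernelIsCokernel _)
    mono_f := inferInstance
    epi_g := inferInstance }

theorem shortExact_ker {M N : X.Modules} (f : M ⟶ N) [Epi f] :
    (ShortComplex.mk (kernel.ι f) f (kernel.condition f)).ShortExact :=
  { exact := ShortComplex.exact_of_f_is_kernel _ (kernelIsKernel _)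
    mono_f := inferInstance
    epi_g := inferInstance }

/-- Four term estimate. -/
theorem four [IsLocallyNoetherian X] {φ : X.Modules → ℤ} (hφ : IsAdd φ) {M N : X.Modules} (f : M ⟶ N)
    (hM : Coh.IsCoh M) (hN : Coh.IsCoh N) :
    φ M + φ (cokernel f) = φ N + φ (kernel f) := by
  have hk : Coh.IsCoh (kernel f) := isCoh_kernel f hM hN.1
  have hc : Coh.IsCoh (cokernel f) := isCoh_cokernel f hM.1 hN
  have hi : Coh.IsCoh (Abelian.image f) :=
    isCoh_of_iso (Abelian.coimageIsoImage f) (isCoh_cokernel (kernel.ι f) hk.1 hM)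
  have s1 : (ShortComplex.mk (kernel.ι f) (Abelian.factorThruImage f)
      (by rw [← cancel_mono (Abelian.image.ι f), Category.assoc, Abelian.image.fac, kernel.condition,
        zero_comp])).ShortExact := by
    refine { exact := ?_, mono_f := inferInstance, epi_g := inferInstance }
    refine ShortComplex.exact_of_f_is_kernel _ (KernelFork.IsLimit.ofι' _ _ fun {Z} t ht => ?_)
    have h : t ≫ f = 0 := by
      rw [← Abelian.image.fac f, ← Category.assoc]
      have h' : t ≫ Abelian.factorThruImage f = 0 := ht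
      rw [h', zero_comp]
    exact ⟨kernel.lift f t h, kernel.lift_ι f t h⟩
  have s2 : (ShortComplex.mk (Abelian.image.ι f) (cokernel.π f) (by
      exact kernel.condition _)).ShortExact := shortExact_ker (cokernel.π f)
  have e1 := hφ _ s1 hk hM hi
  have e2 := hφ _ s2 hi hN hc
  dsimp only at e1 e2
  linarith

theorem support_subset_of_bijective [IsLocallyNoetherian X] {M N : X.Modules} (f : M ⟶ N) {x : X}
    (h : ∀ y, y ≠ x → Function.Bijective (stalkLin f y)) :
    CohB1.support (kernel f) ⊆ {x} ∧ CohB1.support (cokernel f) ⊆ {x} := by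
  constructor
  · intro y hy
    by_contra hyx
    apply hy
    have h1 := h y hyx
    refine ⟨fun a b => ?_⟩
    apply stalkLin_injective (kernel.ι f) y
    apply h1.1
    rw [← LinearMap.comp_apply, ← LinearMap.comp_apply, ← stalkLin_comp, kernel.condition]
    obtain ⟨U, hU, s, rfl⟩ := (kernel f).presheaf.exists_germ_eq a
    obtain ⟨V, hV, t, rfl⟩ := (kernel f).presheaf.exists_germ_eq b
    rw [stalkLin_germ, stalkLin_germ]
    exact (map_zero _).trans (map_zero _).symm
  · intro y hy
    by_contra hyx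
    apply hy
    have h1 := h y hyx
    have h0 : ∀ z : (cokernel f).presheaf.stalk y, z = 0 := by
      intro z
      obtain ⟨n, rfl⟩ := stalkLin_surjective (cokernel.π f) y z
      obtain ⟨m, rfl⟩ := h1.2 n
      rw [← LinearMap.comp_apply, ← stalkLin_comp, cokernel.condition]
      obtain ⟨U, hU, s, rfl⟩ := M.presheaf.exists_germ_eq m
      rw [stalkLin_germ]
      exact map_zero _
    exact ⟨fun a b => (h0 a).trans (h0 b).symm⟩

section chi

variable [IsIntegral X] [IsNoetherian X] {A : Lt X (Polynomial X.functionField)} {Λ : Lt X X.functionField} {x : X}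
  (D : Dat x A Λ) (hΛ : PicF.IsInvertible Λ.M) {φ : X.Modules → ℤ} (hφ : IsAdd φ)
  (hpos : ∀ G, Coh.IsCoh G → CohB1.support G ⊆ {x} → 0 ≤ φ G)
  (hlen : ∀ G, Coh.IsCoh G → CohB1.support G ⊆ {x} → ∀ n : ℕ,
    Module.length (X.presheaf.stalk x) (G.presheaf.stalk x) ≤ n → φ G ≤ n)
  (hreg : ∀ m : ℕ, Module.length (X.presheaf.stalk x)
      (X.presheaf.stalk x ⧸ IsLocalRing.maximalIdeal (X.presheaf.stalk x) ^ (m + 1)) = ((m + 2).choose m : ℕ))

include D hΛ hφ hpos hlen hreg

theorem chi_step (m : ℕ) : φ (S A m).M + φ (Pw Λ hΛ (m + 1)).M - (m + 2).choose m ≤ φ (S A (m + 1)).M := by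
  have h1 := hφ _ (shortExact_coker (inc D m)) (S A m).coh (S A (m + 1)).coh
    (isCoh_cokernel _ (S A m).coh.1 (S A (m + 1)).coh)
  have hc : Coh.IsCoh (cokernel (inc D m)) := isCoh_cokernel _ (S A m).coh.1 (S A (m + 1)).coh
  have h2 := four hφ (qm D hΛ m) hc (Pw Λ hΛ (m + 1)).coh
  obtain ⟨s1, s2⟩ := support_subset_of_bijective (qm D hΛ m) fun y hy => qm_bijective D hΛ hy m
  have h3 := hpos _ (isCoh_kernel _ hc (Pw Λ hΛ (m + 1)).coh.1) s1
  have h4 := hlen _ (isCoh_cokernel (qm D hΛ m) hc.1 (Pw Λ hΛ (m + 1)).coh) s2 ((m + 2).choose m) (by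
    rw [← hreg]
    exact length_coker_qm D hΛ m)
  dsimp only at h1
  linarith

omit hreg in
theorem chi_zero : φ (Pw Λ hΛ 0).M ≤ φ (S A 0).M := by
  have h2 := four hφ (topm D hΛ 0) (S A 0).coh (Pw Λ hΛ 0).coh
  obtain ⟨s1, s2⟩ := support_subset_of_bijective (topm D hΛ 0) (x := x) fun y _ => topm_zero_bijective D hΛ y
  have h3 := hpos _ (isCoh_kernel _ (S A 0).coh (Pw Λ hΛ 0).coh.1) s1
  have h4 := hlen _ (isCoh_cokernel (topm D hΛ 0) (S A 0).coh.1 (Pw Λ hΛ 0).coh) s2 0 (by
    have h5 : Subsingleton ((cokernel (topm D hΛ 0)).presheaf.stalk x) := by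
      have h0 : ∀ z : (cokernel (topm D hΛ 0)).presheaf.stalk x, z = 0 := by
        intro z
        obtain ⟨n, rfl⟩ := stalkLin_surjective (cokernel.π (topm D hΛ 0)) x z
        obtain ⟨m, rfl⟩ := (topm_zero_bijective D hΛ x).2 n
        rw [← LinearMap.comp_apply, ← stalkLin_comp, cokernel.condition]
        obtain ⟨U, hU, s, rfl⟩ := (S A 0).M.presheaf.exists_germ_eq m
        rw [stalkLin_germ]
        exact map_zero _
      exact ⟨fun a b => (h0 a).trans (h0 b).symm⟩
    rw [Module.length_eq_zero]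
    exact le_rfl)
  push_cast at h4
  linarith

/-- **The lower bound for the Euler characteristic.** -/
theorem chi_le (m : ℕ) : ∑ j ∈ Finset.range (m + 1), φ (Pw Λ hΛ j).M - ((m + 2).choose 3 : ℕ) ≤ φ (S A m).M := by
  induction m with
  | zero =>
    have h := chi_zero D hΛ hφ hpos hlen
    simpa using h
  | succ m ih =>
    have h := chi_step D hΛ hφ hpos hlen hreg m
    rw [Finset.sum_range_succ]
    have h1 : (m + 1 + 2).choose 3 = (m + 2).choose 2 + (m + 2).choose 3 := Nat.choose_succ_succ (m + 2) 2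
    have h2 : (m + 2).choose m = (m + 2).choose 2 := (Nat.choose_symm_of_eq_add (by omega)).symm
    rw [h1]
    rw [h2] at h
    push_cast
    linarith

end chi

section psi

variable [IsIntegral X] [IsNoetherian X] {A : Lt X (Polynomial X.functionField)} {Λ : Lt X X.functionField} {x : X}
  (D : Dat x A Λ) (hΛ : PicF.IsInvertible Λ.M) {ψ : X.Modules → ℕ}
  (hψ : ∀ S : ShortComplex X.Modules, S.ShortExact → Coh.IsCoh S.X₁ → Coh.IsCoh S.X₂ → Coh.IsCoh S.X₃ →
      ψ S.X₂ ≤ ψ S.X₁ + ψ S.X₃)
  (hb : ∀ {M N : X.Modules} (f : M ⟶ N), Coh.IsCoh M → Coh.IsCoh N →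
    (∀ y, y ≠ x → Function.Bijective (stalkLin f y)) → ψ M = ψ N)

include D hψ hb

/-- **The upper bound for a subadditive function.** -/
theorem psi_le (m : ℕ) : ψ (S A m).M ≤ ∑ j ∈ Finset.range (m + 1), ψ (Pw Λ hΛ j).M := by
  induction m with
  | zero =>
    rw [hb (topm D hΛ 0) (S A 0).coh (Pw Λ hΛ 0).coh fun y _ => topm_zero_bijective D hΛ y]
    simp
  | succ m ih =>
    have hc : Coh.IsCoh (cokernel (inc D m)) := isCoh_cokernel _ (S A m).coh.1 (S A (m + 1)).coh
    have h1 := hψ _ (shortExact_coker (inc D m)) (S A m).coh (S A (m + 1)).coh hc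
    dsimp only at h1
    rw [hb (qm D hΛ m) hc (Pw Λ hΛ (m + 1)).coh fun y hy => qm_bijective D hΛ hy m] at h1
    rw [Finset.sum_range_succ]
    omega

end psi

end K94.Est
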