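import Groth.Agent.ShStab.K94.Tw

/-!
# An extension of rank two embedded in the polynomials
-/

set_option autoImplicit false
universe u
open CategoryTheory CategoryTheory.Limits AlgebraicGeometry Opposite TopologicalSpace Module
open scoped TensorProduct

namespace K94.Ext

open Groth.Agent Groth.Agent.CycB.StalkExact Groth.Agent.VarietyB.ExactLoc
open Groth.Agent.Fdesc.Skyscraper Groth.Agent.CycB.CohStalk Groth.Agent.Sga67.CohBasic
open K848.TF K849.Cst K849.CstTor K849.DvrLat K848.Rank K849.CstDeg K94.Tens K94.Emb K94.Tw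
open Groth.Agent.Dcoh.FreeSec (stalkUnit stalkUnit_apply stalkOne one)

attribute [local instance 50] modAt

variable {X : Scheme.{u}} [IsIntegral X]

/-- The local data of the embedded extension. -/
structure Dat (x : X) (A : Lt X (Polynomial X.functionField)) (Λ : Lt X X.functionField) : Prop where
  off : ∀ y, y ≠ x → ∃ α β : X.functionField, α ≠ 0 ∧
    (∀ P, P ∈ A.lat y ↔ ∃ r s : X.presheaf.stalk y, P = Polynomial.C (algebraMap _ X.functionField r) +
      Polynomial.C (algebraMap _ X.functionField s) * (Polynomial.C α * Polynomial.X + Polynomial.C β)) ∧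
    (∀ c, c ∈ Λ.lat y ↔ ∃ s : X.presheaf.stalk y, c = algebraMap _ X.functionField s * α)
  one : (1 : Polynomial X.functionField) ∈ A.lat x
  deg : ∀ P ∈ A.lat x, P.natDegree ≤ 1 ∧ P.coeff 1 ∈ Λ.lat x
  big : ∀ r ∈ IsLocalRing.maximalIdeal (X.presheaf.stalk x), ∀ c ∈ Λ.lat x, ∃ P ∈ A.lat x,
    P.coeff 1 = algebraMap _ X.functionField r * c

/-- The generic embedding. -/
noncomputable def emb {G : X.Modules}
    (a c : G.presheaf.stalk (genericPoint X) →ₗ[X.presheaf.stalk (genericPoint X)] X.functionField) :
    G.presheaf.stalk (genericPoint X) →ₗ[X.presheaf.stalk (genericPoint X)] Polynomial X.functionField where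
  toFun m := Polynomial.C (a m) + Polynomial.C (c m) * Polynomial.X
  map_add' m n := by
    rw [map_add a, map_add c, Polynomial.C_add, Polynomial.C_add]
    ring
  map_smul' r m := by
    rw [map_smul a, map_smul c]
    ext i
    rw [RingHom.id_apply, Polynomial.coeff_smul, Polynomial.coeff_add, Polynomial.coeff_add,
      Polynomial.coeff_C_mul, Polynomial.coeff_C_mul, Polynomial.coeff_C, Polynomial.coeff_C, smul_add]
    congr 1
    · split_ifs
      · rfl
      · exact (smul_zero r).symm
    · exact smul_mul_assoc r _ _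

theorem emb_apply {G : X.Modules}
    (a c : G.presheaf.stalk (genericPoint X) →ₗ[X.presheaf.stalk (genericPoint X)] X.functionField)
    (m : G.presheaf.stalk (genericPoint X)) :
    emb a c m = Polynomial.C (a m) + Polynomial.C (c m) * Polynomial.X := rfl

theorem coeff_zero_emb {G : X.Modules}
    (a c : G.presheaf.stalk (genericPoint X) →ₗ[X.presheaf.stalk (genericPoint X)] X.functionField)
    (m : G.presheaf.stalk (genericPoint X)) : (emb a c m).coeff 0 = a m := by
  rw [emb_apply]
  simp

theorem coeff_one_emb {G : X.Modules}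
    (a c : G.presheaf.stalk (genericPoint X) →ₗ[X.presheaf.stalk (genericPoint X)] X.functionField)
    (m : G.presheaf.stalk (genericPoint X)) : (emb a c m).coeff 1 = c m := by
  rw [emb_apply]
  simp [Polynomial.coeff_C]

theorem spec_one (y : X) : (Coh.structureModule X).presheaf.stalkSpecializes (gen y) (stalkOne y) =
    stalkOne (genericPoint X) := germ_spec (Coh.structureModule X) (gen y) (U := ⊤) trivial (one X)

omit [IsIntegral X] in
theorem stalkOne_ne_zero (y : X) : stalkOne y ≠ 0 := by
  intro h
  have h1 : stalkUnit y 1 = 0 := by rw [stalkUnit_apply, one_smul, h]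
  rw [LinearEquiv.map_eq_zero_iff] at h1
  exact one_ne_zero h1

theorem exists_functional {G : X.Modules} (v : G.presheaf.stalk (genericPoint X)) (hv : v ≠ 0) :
    ∃ a : G.presheaf.stalk (genericPoint X) →ₗ[X.presheaf.stalk (genericPoint X)] X.functionField, a v = 1 := by
  have : ∃ a : G.presheaf.stalk (genericPoint X) →ₗ[X.functionField] X.functionField, a v = 1 := by
    have hk : LinearMap.ker (LinearMap.toSpanSingleton X.functionField (G.presheaf.stalk (genericPoint X)) v) = ⊥ :=
      LinearMap.ker_toSpanSingleton X.functionField hv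
    obtain ⟨a, ha⟩ := LinearMap.exists_leftInverse_of_injective _ hk
    refine ⟨a, ?_⟩
    have h1 := congrArg (fun φ => φ 1) ha
    rw [LinearMap.comp_apply, LinearMap.toSpanSingleton_apply, one_smul] at h1
    exact h1
  exact this

section main

variable {E : X.Modules} (hE : Coh.IsCoh E) (tE : TorSh.IsTorsionFree E) (Λ : Lt X X.functionField)
  (hΛ : PicF.IsInvertible Λ.M) (f : Coh.structureModule X ⟶ E) (g : E ⟶ Λ.M)
  (hf : ∀ y, Function.Injective (stalkLin f y))
  (hfg : ∀ y, LinearMap.ker (stalkLin g y) = LinearMap.range (stalkLin f y))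
  (a : E.presheaf.stalk (genericPoint X) →ₗ[X.presheaf.stalk (genericPoint X)] X.functionField)
  (ha : a (stalkLin f _ (stalkOne _)) = 1)

/-- The embedding. -/
noncomputable def emE : E.presheaf.stalk (genericPoint X) →ₗ[X.presheaf.stalk (genericPoint X)]
    Polynomial X.functionField := emb a (Λ.e.comp (stalkLin g (genericPoint X)))

theorem coeff_one_emE (m : E.presheaf.stalk (genericPoint X)) :
    (emE Λ g a m).coeff 1 = Λ.e (stalkLin g _ m) := coeff_one_emb _ _ m

theorem coeff_zero_emE (m : E.presheaf.stalk (genericPoint X)) :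
    (emE Λ g a m).coeff 0 = a m := coeff_zero_emb _ _ m

theorem natDegree_emE (m : E.presheaf.stalk (genericPoint X)) : (emE Λ g a m).natDegree ≤ 1 := by
  unfold emE
  rw [emb_apply]
  compute_degree

theorem emE_eq (m : E.presheaf.stalk (genericPoint X)) :
    emE Λ g a m = Polynomial.C (a m) + Polynomial.C (Λ.e (stalkLin g _ m)) * Polynomial.X := rfl

include hfg ha in
theorem latHom_one (y : X) : latHom E (emE Λ g a) y (stalkLin f y (stalkOne y)) = 1 := by
  have h1 : stalkLin g (genericPoint X) (stalkLin f _ (stalkOne _)) = 0 := by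
    rw [← LinearMap.mem_ker, hfg]
    exact ⟨_, rfl⟩
  change emE Λ g a (E.presheaf.stalkSpecializes (gen y) (stalkLin f y (stalkOne y))) = 1
  rw [← stalkLin_spec, spec_one, emE_eq, ha, h1, map_zero, map_zero, zero_mul, add_zero, map_one]

theorem coeff_one_latHom (y : X) (m : E.presheaf.stalk y) :
    (latHom E (emE Λ g a) y m).coeff 1 = latHom Λ.M Λ.e y (stalkLin g y m) := by
  change (emE Λ g a (E.presheaf.stalkSpecializes (gen y) m)).coeff 1 =
    Λ.e (Λ.M.presheaf.stalkSpecializes (gen y) (stalkLin g y m))
  rw [coeff_one_emE, stalkLin_spec]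

theorem latHom_eq (y : X) (m : E.presheaf.stalk y) : latHom E (emE Λ g a) y m =
    Polynomial.C (a (E.presheaf.stalkSpecializes (gen y) m)) +
      Polynomial.C (latHom Λ.M Λ.e y (stalkLin g y m)) * Polynomial.X := by
  change emE Λ g a (E.presheaf.stalkSpecializes (gen y) m) = _
  rw [emE_eq, stalkLin_spec]
  rfl

include hfg ha in
theorem emE_injective : Function.Injective (emE Λ g a) := by
  rw [injective_iff_map_eq_zero]
  intro m hm
  have h1 : a m = 0 := by
    rw [← coeff_zero_emE Λ g a, hm, Polynomial.coeff_zero]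
  have h2 : Λ.e (stalkLin g _ m) = 0 := by
    rw [← coeff_one_emE Λ g a, hm, Polynomial.coeff_zero]
  have h3 : m ∈ LinearMap.range (stalkLin f (genericPoint X)) := by
    rw [← hfg, LinearMap.mem_ker]
    exact Λ.inj (by rw [h2, map_zero])
  obtain ⟨t, rfl⟩ := h3
  obtain ⟨r, rfl⟩ := (stalkUnit (genericPoint X)).surjective t
  rw [stalkUnit_apply, map_smul, map_smul, ha] at h1
  have h4 : r = 0 := (mul_one r).symm.trans h1
  rw [h4, map_zero, map_zero]

/-- The embedded extension. -/
noncomputable def emA : Lt X (Polynomial X.functionField) where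
  M := E
  coh := hE
  tf := tE
  e := emE Λ g a
  inj := emE_injective Λ f g hfg a ha

theorem smul_C (y : X) (r : X.presheaf.stalk y) (P : Polynomial X.functionField) :
    r • P = Polynomial.C (algebraMap _ X.functionField r) * P := by
  rw [← Polynomial.smul_eq_C_mul]
  rfl

theorem smul_K (y : X) (r : X.presheaf.stalk y) (c : X.functionField) :
    r • c = algebraMap _ X.functionField r * c := by
  rw [← smul_eq_mul]
  rfl

include hΛ in
theorem dat {x : X} (hg : ∀ y, y ≠ x → Function.Surjective (stalkLin g y))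
    (hgx : ∀ r ∈ IsLocalRing.maximalIdeal (X.presheaf.stalk x), ∀ l, r • l ∈ LinearMap.range (stalkLin g x)) :
    Dat x (emA hE tE Λ f g hfg a ha) Λ where
  off y hy := by
    obtain ⟨ε⟩ := exists_eps hΛ y
    obtain ⟨w, hw⟩ := hg y hy (ε.symm 1)
    refine ⟨latHom Λ.M Λ.e y (ε.symm 1), a (E.presheaf.stalkSpecializes (gen y) w), ?_, ?_, ?_⟩
    · intro h
      have h1 : ε.symm 1 = 0 := Λ.latHom_injective y (by rw [h, map_zero])
      rw [LinearEquiv.map_eq_zero_iff] at h1
      exact one_ne_zero h1
    · intro P
      have hw' : latHom E (emE Λ g a) y w = Polynomial.C (latHom Λ.M Λ.e y (ε.symm 1)) * Polynomial.X +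
          Polynomial.C (a (E.presheaf.stalkSpecializes (gen y) w)) := by
        rw [latHom_eq, hw, add_comm]
      have h1 := latHom_one Λ f g hfg a ha y
      have key : ∀ r s : X.presheaf.stalk y, latHom E (emE Λ g a) y (r • stalkLin f y (stalkOne y) + s • w) =
          Polynomial.C (algebraMap _ X.functionField r) + Polynomial.C (algebraMap _ X.functionField s) *
            (Polynomial.C (latHom Λ.M Λ.e y (ε.symm 1)) * Polynomial.X +
              Polynomial.C (a (E.presheaf.stalkSpecializes (gen y) w))) := by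
        intro r s
        rw [map_add, map_smul, map_smul, h1, hw', smul_C, smul_C, mul_one]
      constructor
      · rintro ⟨m, rfl⟩
        change E.presheaf.stalk y at m
        have h2 : m - ε (stalkLin g y m) • w ∈ LinearMap.range (stalkLin f y) := by
          rw [← hfg, LinearMap.mem_ker, map_sub, map_smul, hw, ← map_smul, smul_eq_mul, mul_one,
            LinearEquiv.symm_apply_apply, sub_self]
        obtain ⟨t, ht⟩ := h2
        obtain ⟨r, rfl⟩ := (stalkUnit y).surjective t
        refine ⟨r, ε (stalkLin g y m), ?_⟩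
        rw [← key]
        have h3 : m = r • stalkLin f y (stalkOne y) + ε (stalkLin g y m) • w := by
          rw [← map_smul, ← stalkUnit_apply, ht, sub_add_cancel]
        exact congrArg (latHom E (emE Λ g a) y) h3
      · rintro ⟨r, s, rfl⟩
        exact ⟨_, key r s⟩
    · intro c
      constructor
      · rintro ⟨l, rfl⟩
        refine ⟨ε l, ?_⟩
        rw [← smul_K, ← map_smul, ← map_smul, smul_eq_mul, mul_one, LinearEquiv.symm_apply_apply]
      · rintro ⟨s, rfl⟩
        refine ⟨s • ε.symm 1, ?_⟩
        rw [map_smul, smul_K]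
  one := ⟨_, latHom_one Λ f g hfg a ha x⟩
  deg := by
    rintro _ ⟨m, rfl⟩
    refine ⟨natDegree_emE Λ g a _, ?_⟩
    refine ⟨stalkLin g x m, ?_⟩
    exact (coeff_one_latHom Λ g a x m).symm
  big := by
    rintro r hr _ ⟨l, rfl⟩
    obtain ⟨m, hm⟩ := hgx r hr l
    refine ⟨_, ⟨m, rfl⟩, ?_⟩
    refine (coeff_one_latHom Λ g a x m).trans ?_
    rw [hm, map_smul, smul_K]

end main

end K94.Ext
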