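import Groth.Agent.ShStab.K94.Delta
import Mathlib.Algebra.Polynomial.Roots

/-!
# The form attached to a functional on the polynomials of bounded degree
-/

set_option autoImplicit false
set_option linter.unusedSectionVars false

open Polynomial K849.DvrLat K94.Gauss K94.Delta

namespace K94.Form

variable {K : Type*} [Field K] [CharZero K] (m : ℕ) (Φ : K[X] →ₗ[K] K)

theorem phi_pow (u : K[X]) (a : K) :
    Φ ((u - C a) ^ m) = ∑ j ∈ Finset.range (m + 1), (m.choose j : K) * Φ (u ^ j) * (-a) ^ (m - j) := by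
  rw [sub_eq_add_neg, add_pow, map_sum]
  refine Finset.sum_congr rfl fun j _ => ?_
  have h : u ^ j * (-C a) ^ (m - j) * (m.choose j : K[X]) = ((m.choose j : K) * (-a) ^ (m - j)) • u ^ j := by
    rw [smul_eq_C_mul, C_mul, C_pow, C_neg]
    simp only [map_natCast]
    ring
  rw [h, map_smul, smul_eq_mul]
  ring

/-- The form of a functional. -/
noncomputable def form : K[X] := ∑ j ∈ Finset.range (m + 1), C ((m.choose j : K) * Φ (X ^ j)) * (-X) ^ (m - j)

theorem eval_form (a : K) : (form m Φ).eval a = Φ ((X - C a) ^ m) := by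
  rw [phi_pow]
  unfold form
  rw [eval_finsetSum]
  refine Finset.sum_congr rfl fun j _ => ?_
  rw [eval_mul, eval_C, eval_pow, eval_neg, eval_X]

theorem natDegree_form : (form m Φ).natDegree ≤ m := by
  unfold form
  refine natDegree_sum_le_of_forall_le _ _ fun j _ => ?_
  refine (natDegree_C_mul_le _ _).trans ?_
  refine (natDegree_pow_le).trans ?_
  rw [natDegree_neg, natDegree_X, mul_one]
  exact Nat.sub_le _ _

theorem coeff_form {j : ℕ} (hj : j ≤ m) :
    (form m Φ).coeff (m - j) = (m.choose j : K) * Φ (X ^ j) * (-1) ^ (m - j) := by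
  unfold form
  rw [finsetSum_coeff, Finset.sum_eq_single j]
  · rw [coeff_C_mul, neg_pow, coeff_mul_X_pow', if_pos le_rfl, Nat.sub_self]
    have : ((-1 : K[X]) ^ (m - j)).coeff 0 = (-1) ^ (m - j) := by
      rw [coeff_zero_eq_eval_zero, eval_pow, eval_neg, eval_one]
    rw [this]
  · intro i hi hij
    rw [Finset.mem_range] at hi
    rw [coeff_C_mul, neg_pow]
    have : ((-1 : K[X]) ^ (m - i) * X ^ (m - i)).coeff (m - j) = 0 := by
      have h1 : ((-1 : K[X]) ^ (m - i)) = C ((-1) ^ (m - i)) := by rw [C_pow, C_neg, C_1]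
      rw [h1, coeff_C_mul, coeff_X_pow, if_neg (by omega), mul_zero]
    rw [this, mul_zero]
  · intro h
    exact absurd (Finset.mem_range.2 (by omega)) h

theorem eq_zero_of_form (h : form m Φ = 0) {j : ℕ} (hj : j ≤ m) : Φ (X ^ j) = 0 := by
  have h1 := coeff_form m Φ hj
  rw [h, coeff_zero] at h1
  have h2 : (m.choose j : K) ≠ 0 := Nat.cast_ne_zero.2 (Nat.choose_pos hj).ne'
  have h3 : ((-1 : K)) ^ (m - j) ≠ 0 := pow_ne_zero _ (neg_ne_zero.2 one_ne_zero)
  have h4 := (mul_eq_zero.1 h1.symm).resolve_right h3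
  exact (mul_eq_zero.1 h4).resolve_left h2

theorem loc_form {a : K} (ha : a ≠ 0) (b : K) : loc a b (form m Φ) = C (a ^ m)⁻¹ *
    ∑ j ∈ Finset.range (m + 1), C ((m.choose j : K) * Φ ((C a * X + C b) ^ j)) * (-X) ^ (m - j) := by
  have : Infinite K := Infinite.of_injective (Nat.cast : ℕ → K) Nat.cast_injective
  apply Polynomial.funext
  intro r
  unfold loc
  rw [eval_comp, eval_form, eval_mul (p := C (a ^ m)⁻¹), eval_C, eval_finsetSum]
  have h1 : ∑ j ∈ Finset.range (m + 1),
      eval r (C ((m.choose j : K) * Φ ((C a * X + C b) ^ j)) * (-X) ^ (m - j)) =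
      Φ ((C a * X + C b - C r) ^ m) := by
    rw [phi_pow]
    refine Finset.sum_congr rfl fun j _ => ?_
    rw [eval_mul, eval_C, eval_pow, eval_neg, eval_X]
  rw [h1]
  have h2 : C a * X + C b - C r = C a * (X - C (eval r (C a⁻¹ * (X - C b)))) := by
    rw [eval_mul, eval_C, eval_sub, eval_X, eval_C, mul_sub, ← C_mul, ← mul_assoc, mul_inv_cancel₀ ha, one_mul,
      C_sub]
    ring
  generalize eval r (C a⁻¹ * (X - C b)) = r' at h2 ⊢
  have h3 : C (a ^ m) * (X - C r') ^ m = (a ^ m) • (X - C r') ^ m := (smul_eq_C_mul _).symm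
  rw [h2, mul_pow, ← C_pow, h3, map_smul, smul_eq_mul, ← mul_assoc, inv_mul_cancel₀ (pow_ne_zero m ha), one_mul]

/-- The content of the form of a functional. -/
theorem le_cont {R : Type*} [CommRing R] [IsDomain R] [IsDiscreteValuationRing R] [Algebra R K]
    [IsFractionRing R K] {a : K} (ha : a ≠ 0) (b : K) {c : K} (hc : c ≠ 0) (hP : form m Φ ≠ 0)
    (h : ∀ j ≤ m, ∃ s : R, Φ ((C a * X + C b) ^ j) = algebraMap R K s * c) :
    ordK R c - m * ordK R a ≤ cont R (loc a b (form m Φ)) := by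
  choose! s hs using h
  have h1 : ∑ j ∈ Finset.range (m + 1), C ((m.choose j : K) * Φ ((C a * X + C b) ^ j)) * (-X) ^ (m - j) =
      C c * (∑ j ∈ Finset.range (m + 1), C ((m.choose j : R) * s j) * (-X) ^ (m - j)).map (algebraMap R K) := by
    rw [Polynomial.map_sum, Finset.mul_sum]
    refine Finset.sum_congr rfl fun j hj => ?_
    have h2 : (m.choose j : K) * Φ ((C a * X + C b) ^ j) = c * algebraMap R K ((m.choose j : R) * s j) := by
      rw [hs j (by rw [Finset.mem_range] at hj; omega), map_mul, map_natCast]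
      ring
    rw [h2, Polynomial.map_mul, Polynomial.map_C, Polynomial.map_pow, Polynomial.map_neg, Polynomial.map_X, C_mul,
      mul_assoc]
  have h0 := loc_ne_zero ha b hP
  rw [loc_form m Φ ha, h1] at h0 ⊢
  have ham : (a ^ m)⁻¹ ≠ 0 := inv_ne_zero (pow_ne_zero m ha)
  have h2 := right_ne_zero_of_mul h0
  have h3 := right_ne_zero_of_mul h2
  rw [cont_C_mul ham h2, cont_C_mul hc h3, ordK_inv, ordK_pow R ha]
  have h4 := (int_iff h3).2 ⟨_, rfl⟩
  omega

end K94.Form
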