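import Groth.Agent.ShStab.K94.Ext
import Groth.Agent.CurvesB.SubEuler2
import Groth.Agent.Surf.K461.ExcPts

/-!
# The maps of an extension by a twisted point ideal
-/

set_option autoImplicit false
set_option linter.unusedSectionVars false
universe u
open CategoryTheory CategoryTheory.Limits AlgebraicGeometry Opposite TopologicalSpace Module

namespace K94.FromT

open Groth.Agent Groth.Agent.CycB.StalkExact Groth.Agent.VarietyB.ExactLoc
open K848.TF K849.Cst K848.Rank K94.Ext

variable {X : Scheme.{u}} (L : X.Modules) (Z : X.IdealSheafData)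

/-- The multiplication `I ⊗ L ⟶ L`. -/
noncomputable abbrev tI : CohB1.tensorMod (ClSub.idealMod Z) L ⟶ L := CurvesB.SubEuler2.tw L Z

theorem mono_tI (hL : PicF.IsInvertible L) : Mono (tI L Z) := by
  have := (CurvesB.TwistIdeal.seq_shortExact hL Z).mono_f
  unfold tI CurvesB.SubEuler2.tw
  infer_instance

theorem range_tI (y : X) : LinearMap.range (stalkLin (tI L Z) y) =
    IntMult.stalkIdeal Z y • (⊤ : Submodule _ (L.presheaf.stalk y)) := CurvesB.SubEuler2.range_tw L Z y

section point

variable (x : X) (hx : IsClosed ({x} : Set X))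

theorem stalkIdeal_off {y : X} (hy : y ≠ x) :
    IntMult.stalkIdeal (Scheme.IdealSheafData.vanishingIdeal ⟨{x}, hx⟩) y = ⊤ := by
  by_contra hc
  have h3 := (CycA.StalkIdeal.stalkIdeal_ne_top_iff _ y).1 hc
  rw [← SetLike.mem_coe, Scheme.IdealSheafData.coe_support_vanishingIdeal] at h3
  exact hy h3

theorem stalkIdeal_at : IntMult.stalkIdeal (Scheme.IdealSheafData.vanishingIdeal ⟨{x}, hx⟩) x =
    IsLocalRing.maximalIdeal (X.presheaf.stalk x) :=
  K461.ExcPts.stalkIdeal_vanishing ⟨{x}, hx⟩ (fun y hy => by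
    have hy' : y = x := hy
    subst hy'
    exact hx) x rfl

end point

section maps

variable {L} {x : X} (hx : IsClosed ({x} : Set X)) (hL : PicF.IsInvertible L) {T : ShortComplex X.Modules}
  (hT : T.ShortExact) (e₁ : T.X₁ ≅ Coh.structureModule X)
  (e₃ : T.X₃ ≅ CohB1.tensorMod (ClSub.idealMod (Scheme.IdealSheafData.vanishingIdeal ⟨{x}, hx⟩)) L)

/-- The inclusion of the structure module. -/
noncomputable def f : Coh.structureModule X ⟶ T.X₂ := e₁.inv ≫ T.f

/-- The map to the line bundle. -/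
noncomputable def g : T.X₂ ⟶ L := T.g ≫ e₃.hom ≫ tI L _

theorem iso_bijective {M N : X.Modules} (e : M ≅ N) (y : X) : Function.Bijective (stalkLin e.hom y) := by
  have h1 : ∀ m, stalkLin e.inv y (stalkLin e.hom y m) = m := fun m => by
    rw [← LinearMap.comp_apply, ← stalkLin_comp, e.hom_inv_id]
    obtain ⟨U, hU, s, rfl⟩ := M.presheaf.exists_germ_eq m
    rw [stalkLin_germ]
    rfl
  have h2 : ∀ m, stalkLin e.hom y (stalkLin e.inv y m) = m := fun m => by
    rw [← LinearMap.comp_apply, ← stalkLin_comp, e.inv_hom_id]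
    obtain ⟨U, hU, s, rfl⟩ := N.presheaf.exists_germ_eq m
    rw [stalkLin_germ]
    rfl
  exact ⟨fun a b hab => by rw [← h1 a, hab, h1], fun b => ⟨_, h2 b⟩⟩

include hT in
theorem mono_f : Mono (f (T := T) e₁) := by
  have := hT.mono_f
  unfold f
  infer_instance

theorem g_apply (y : X) (m : T.X₂.presheaf.stalk y) : stalkLin (g hx e₃) y m =
    stalkLin (tI L _) y (stalkLin e₃.hom y (stalkLin T.g y m)) := by
  unfold g
  rw [stalkLin_comp, stalkLin_comp]
  rfl

theorem f_apply (y : X) (m : (Coh.structureModule X).presheaf.stalk y) : stalkLin (f (T := T) e₁) y m =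
    stalkLin T.f y (stalkLin e₁.inv y m) := by
  unfold f
  rw [stalkLin_comp]
  rfl

include hT hL in
theorem ker_g (y : X) : LinearMap.ker (stalkLin (g hx e₃) y) = LinearMap.range (stalkLin (f (T := T) e₁) y) := by
  have := mono_tI L (Scheme.IdealSheafData.vanishingIdeal ⟨{x}, hx⟩) hL
  have hex := LinearMap.exact_iff.1 (stalkLin_exact T hT.exact y)
  ext m
  constructor
  · intro hm
    rw [LinearMap.mem_ker, g_apply] at hm
    have h1 : stalkLin e₃.hom y (stalkLin T.g y m) = 0 :=
      stalkLin_injective (tI L (Scheme.IdealSheafData.vanishingIdeal ⟨{x}, hx⟩)) y (by rw [hm, map_zero])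
    have h2 : stalkLin T.g y m = 0 := (iso_bijective e₃ y).1 (by rw [h1, map_zero])
    have h3 : m ∈ LinearMap.range (stalkLin T.f y) := by
      rw [← hex]
      exact h2
    obtain ⟨n, rfl⟩ := h3
    obtain ⟨n', rfl⟩ := (iso_bijective e₁.symm y).2 n
    exact ⟨n', f_apply e₁ y n'⟩
  · rintro ⟨n, rfl⟩
    have h3 : stalkLin T.g y (stalkLin T.f y (stalkLin e₁.inv y n)) = 0 := by
      rw [← LinearMap.mem_ker, hex]
      exact ⟨_, rfl⟩
    rw [LinearMap.mem_ker, g_apply, f_apply, h3, map_zero, map_zero]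

include hT in
theorem range_g (y : X) : LinearMap.range (stalkLin (g hx e₃) y) =
    IntMult.stalkIdeal (Scheme.IdealSheafData.vanishingIdeal ⟨{x}, hx⟩) y •
      (⊤ : Submodule _ (L.presheaf.stalk y)) := by
  have := hT.epi_g
  rw [← range_tI]
  ext l
  constructor
  · rintro ⟨m, rfl⟩
    exact ⟨_, (g_apply hx e₃ y m).symm⟩
  · rintro ⟨n, rfl⟩
    obtain ⟨n', rfl⟩ := (iso_bijective e₃ y).2 n
    obtain ⟨m, rfl⟩ := stalkLin_surjective T.g y n'
    exact ⟨m, g_apply hx e₃ y m⟩

include hT in
theorem surjective_g {y : X} (hy : y ≠ x) : Function.Surjective (stalkLin (g hx e₃) y) := by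
  rw [← LinearMap.range_eq_top, range_g hx hT e₃, stalkIdeal_off x hx hy, Submodule.top_smul]

include hT in
theorem smul_mem_g (r : X.presheaf.stalk x) (hr : r ∈ IsLocalRing.maximalIdeal (X.presheaf.stalk x))
    (l : L.presheaf.stalk x) : r • l ∈ LinearMap.range (stalkLin (g hx e₃) x) := by
  rw [range_g hx hT e₃, stalkIdeal_at x hx]
  exact Submodule.smul_mem_smul hr trivial

variable [IsIntegral X]

include hT hL e₁ e₃ in
theorem isTorsionFree_X₂ : TorSh.IsTorsionFree T.X₂ := by
  have := mono_tI L (Scheme.IdealSheafData.vanishingIdeal ⟨{x}, hx⟩) hL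
  have tL : TorSh.IsTorsionFree L := K848.Stab.isTorsionFree_of_isFinLocFree (isFinLocFree_of_isInvertible hL)
  have tO : TorSh.IsTorsionFree (Coh.structureModule X) := K848.Stab.isTorsionFree_of_isFinLocFree
    (isFinLocFree_of_isInvertible Groth.Agent.Fdesc.LocGen.isInvertible_structureModule)
  exact isTorsionFree_extension hT (isTorsionFree_iso e₁.symm tO)
    (isTorsionFree_iso e₃.symm (isTorsionFree_of_mono (tI L _) tL))

end maps

end K94.FromT
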