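import Groth.Agent.ShStab.K849.DvrLat
import Mathlib.RingTheory.Polynomial.Resultant.Basic
import Mathlib.FieldTheory.Separable
import Mathlib.RingTheory.Polynomial.Content

/-!
# Content of polynomials at a discrete valuation ring, and the discriminant form

`R` a discrete valuation ring with fraction field `K`.
* `cont R P`: the minimum of the orders of the coefficients (Gauss valuation), multiplicative.
* `Delta d P`: the resultant of `P'` and `d P - X P'`, of degree `2 (d - 1)` in the coefficients and of weight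
  `d (d - 1)` under affine substitutions; nonzero for `P` irreducible of degree `d` in characteristic zero.
-/

set_option autoImplicit false

open Polynomial K849.DvrLat

namespace K94.Gauss

section cont

variable (R : Type*) [CommRing R] [IsDomain R] [IsDiscreteValuationRing R] {K : Type*} [Field K] [Algebra R K]
  [IsFractionRing R K]

/-- The content: the minimal order of the coefficients. -/
noncomputable def cont (P : K[X]) : ℤ :=
  if h : P.support.Nonempty then P.support.inf' h (fun i => ordK R (P.coeff i)) else 0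

variable {R}

theorem cont_le {P : K[X]} {i : ℕ} (h : P.coeff i ≠ 0) : cont R P ≤ ordK R (P.coeff i) := by
  have hi : i ∈ P.support := mem_support_iff.2 h
  unfold cont
  rw [dif_pos ⟨i, hi⟩]
  exact Finset.inf'_le _ hi

theorem exists_cont {P : K[X]} (hP : P ≠ 0) : ∃ i, P.coeff i ≠ 0 ∧ cont R P = ordK R (P.coeff i) := by
  have h : P.support.Nonempty := nonempty_support_iff.2 hP
  obtain ⟨i, hi, h1⟩ := Finset.exists_mem_eq_inf' h (fun i => ordK R (P.coeff i))
  refine ⟨i, mem_support_iff.1 hi, ?_⟩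
  unfold cont
  rw [dif_pos h, h1]

theorem le_cont {P : K[X]} (hP : P ≠ 0) {c : ℤ} (h : ∀ i, P.coeff i ≠ 0 → c ≤ ordK R (P.coeff i)) :
    c ≤ cont R P := by
  obtain ⟨i, hi, h1⟩ := exists_cont (R := R) hP
  rw [h1]
  exact h i hi

theorem cont_C_mul {a : K} (ha : a ≠ 0) {P : K[X]} (hP : P ≠ 0) : cont R (C a * P) = ordK R a + cont R P := by
  have hne : C a * P ≠ 0 := mul_ne_zero (C_ne_zero.2 ha) hP
  apply le_antisymm
  · obtain ⟨i, hi, h1⟩ := exists_cont (R := R) hP
    rw [h1, ← ordK_mul R ha hi, ← coeff_C_mul]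
    exact cont_le (by rw [coeff_C_mul]; exact mul_ne_zero ha hi)
  · refine le_cont hne fun i hi => ?_
    rw [coeff_C_mul] at hi ⊢
    have h2 : P.coeff i ≠ 0 := right_ne_zero_of_mul hi
    rw [ordK_mul R ha h2]
    have := cont_le (R := R) h2
    omega

theorem cont_C {a : K} (ha : a ≠ 0) : cont R (C a) = ordK R a := by
  have h := cont_C_mul (R := R) ha (one_ne_zero (α := K[X]))
  have h1 : cont R (1 : K[X]) = 0 := by
    apply le_antisymm
    · have := cont_le (R := R) (P := (1 : K[X])) (i := 0) (by simp)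
      simpa using this
    · refine le_cont one_ne_zero fun i hi => ?_
      rw [coeff_one] at hi ⊢
      split_ifs at hi ⊢ with h0
      · simp
      · exact absurd rfl hi
  rw [mul_one, h1, add_zero] at h
  exact h

theorem int_iff {P : K[X]} (hP : P ≠ 0) : 0 ≤ cont R P ↔ ∃ Q : R[X], Q.map (algebraMap R K) = P := by
  constructor
  · intro h
    have h1 : P ∈ Polynomial.lifts (algebraMap R K) := by
      rw [Polynomial.lifts_iff_coeff_lifts]
      intro i
      by_cases hi : P.coeff i = 0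
      · rw [hi]
        exact ⟨0, map_zero _⟩
      · exact (ordK_nonneg_iff R hi).1 (h.trans (cont_le hi))
    rw [Polynomial.mem_lifts] at h1
    exact h1
  · rintro ⟨Q, rfl⟩
    refine le_cont hP fun i hi => ?_
    rw [ordK_nonneg_iff R hi, coeff_map]
    exact ⟨_, rfl⟩

theorem cont_eq_zero_iff {P : K[X]} (hP : P ≠ 0) :
    cont R P = 0 ↔ ∃ Q : R[X], Q.map (algebraMap R K) = P ∧ Q.map (IsLocalRing.residue R) ≠ 0 := by
  constructor
  · intro h
    obtain ⟨Q, rfl⟩ := (int_iff hP).1 h.ge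
    refine ⟨Q, rfl, fun h0 => ?_⟩
    obtain ⟨i, hi, h1⟩ := exists_cont (R := R) hP
    rw [h] at h1
    rw [coeff_map] at hi h1
    obtain ⟨r, hr⟩ := exists_unit_of_ordK_eq_zero R hi h1.symm
    have h2 : Q.coeff i = r := (IsFractionRing.injective R K hr).symm
    have h3 : (Q.map (IsLocalRing.residue R)).coeff i = 0 := by rw [h0, coeff_zero]
    rw [coeff_map, h2, IsLocalRing.residue_eq_zero_iff] at h3
    exact h3 r.isUnit
  · rintro ⟨Q, rfl, h0⟩
    apply le_antisymm
    · obtain ⟨i, hi⟩ : ∃ i, (Q.map (IsLocalRing.residue R)).coeff i ≠ 0 := by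
        by_contra! h
        exact h0 (Polynomial.ext fun i => by rw [h, coeff_zero])
      rw [coeff_map, Ne, IsLocalRing.residue_eq_zero_iff, IsLocalRing.mem_maximalIdeal, mem_nonunits_iff,
        not_not] at hi
      obtain ⟨r, hr⟩ := hi
      have h1 : (Q.map (algebraMap R K)).coeff i ≠ 0 := by
        rw [coeff_map, ← hr]
        exact (r.isUnit.map (algebraMap R K)).ne_zero
      have h2 := cont_le (R := R) h1
      rw [coeff_map, ← hr, ordK_unit] at h2
      exact h2
    · exact (int_iff hP).2 ⟨Q, rfl⟩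

variable (R) in
theorem exists_ordK_eq (c : ℤ) : ∃ a : K, a ≠ 0 ∧ ordK R a = c := by
  obtain ⟨ϖ, hϖ⟩ := IsDiscreteValuationRing.exists_irreducible R
  have hϖ0 : algebraMap R K ϖ ≠ 0 := by
    rw [Ne, FaithfulSMul.algebraMap_eq_zero_iff]
    exact hϖ.ne_zero
  have h1 : ordK R (algebraMap R K ϖ) = 1 := by
    rw [ordK_algebraMap R hϖ.ne_zero]
    have : Ring.ord R ϖ = 1 := by
      unfold Ring.ord
      rw [Module.length_eq_one_iff]
      have h2 : Ideal.span {ϖ} = IsLocalRing.maximalIdeal R := (hϖ.maximalIdeal_eq).symm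
      rw [h2]
      exact isSimpleModule_iff_isCoatom.2 (Ideal.isMaximal_def.1 inferInstance)
    rw [this]
    rfl
  have hpow : ∀ n : ℕ, ordK R (algebraMap R K ϖ ^ n) = n := fun n => by
    rw [ordK_pow R hϖ0, h1, mul_one]
  rcases c.eq_nat_or_neg with ⟨n, rfl | rfl⟩
  · exact ⟨algebraMap R K ϖ ^ n, pow_ne_zero _ hϖ0, hpow n⟩
  · exact ⟨(algebraMap R K ϖ ^ n)⁻¹, inv_ne_zero (pow_ne_zero _ hϖ0), by rw [ordK_inv, hpow]⟩

/-- Normal form: `P = a Q` with `Q` integral and nonzero modulo the maximal ideal. -/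
theorem exists_prim {P : K[X]} (hP : P ≠ 0) : ∃ (a : K) (Q : R[X]), a ≠ 0 ∧ ordK R a = cont R P ∧
    P = C a * Q.map (algebraMap R K) ∧ Q.map (IsLocalRing.residue R) ≠ 0 := by
  obtain ⟨a, ha, hac⟩ := exists_ordK_eq (K := K) R (cont R P)
  have h1 : C a⁻¹ * P ≠ 0 := mul_ne_zero (C_ne_zero.2 (inv_ne_zero ha)) hP
  have h2 : cont R (C a⁻¹ * P) = 0 := by
    rw [cont_C_mul (inv_ne_zero ha) hP, ordK_inv, hac]
    omega
  obtain ⟨Q, hQ, hQ0⟩ := (cont_eq_zero_iff h1).1 h2
  refine ⟨a, Q, ha, hac, ?_, hQ0⟩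
  rw [hQ, ← mul_assoc, ← C_mul, mul_inv_cancel₀ ha, C_1, one_mul]

/-- **Gauss' lemma.** -/
theorem cont_mul {P Q : K[X]} (hP : P ≠ 0) (hQ : Q ≠ 0) : cont R (P * Q) = cont R P + cont R Q := by
  obtain ⟨a, P0, ha, hac, hP0, hPr⟩ := exists_prim (R := R) hP
  obtain ⟨b, Q0, hb, hbc, hQ0, hQr⟩ := exists_prim (R := R) hQ
  have h1 : P * Q = C (a * b) * (P0 * Q0).map (algebraMap R K) := by
    conv_lhs => rw [hP0, hQ0]
    rw [Polynomial.map_mul, C_mul]
    ring
  have h2 : (P0 * Q0).map (algebraMap R K) ≠ 0 := by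
    intro h
    rw [h, mul_zero] at h1
    exact mul_ne_zero hP hQ h1
  have h3 : cont R ((P0 * Q0).map (algebraMap R K)) = 0 :=
    (cont_eq_zero_iff h2).2 ⟨_, rfl, by rw [Polynomial.map_mul]; exact mul_ne_zero hPr hQr⟩
  rw [h1, cont_C_mul (mul_ne_zero ha hb) h2, h3, ordK_mul R ha hb, hac, hbc]
  omega

end cont

end K94.Gauss
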