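import Groth.Agent.ShStab.K849.CstDeg
import Groth.Agent.ShStab.K848.Dim
import Groth.Agent.VarietyA.RegSmoothSch
import Groth.Agent.Fga.DimCut
import Groth.Agent.S0549

/-!
# Geometry of a smooth surface
-/

set_option autoImplicit false
set_option linter.unusedSectionVars false
universe u
open CategoryTheory CategoryTheory.Limits AlgebraicGeometry Opposite TopologicalSpace

namespace K94.Geo

open K849.Cst K849.CstDeg K849.CstTor K848.Rank

variable (k : Type u) [Field k] (X : Scheme.{u}) [X.Over (Spec (CommRingCat.of k))] [IsIntegral X]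

theorem isRegular [Smooth (X ↘ Spec (CommRingCat.of k))] (x : X) : IsRegularLocalRing (X.presheaf.stalk x) :=
  Groth.Agent.VarietyA.RegSmoothSch.isRegularLocalRing_stalk_of_mem_smoothLocus (X ↘ Spec (CommRingCat.of k)) x
    (by rw [(X ↘ Spec (CommRingCat.of k)).smoothLocus_eq_top]; trivial)

theorem regOne [Smooth (X ↘ Spec (CommRingCat.of k))] : RegOne X :=
  ⟨fun y => by
    have h1 : IsRegularLocalRing (X.presheaf.stalk y.1) := isRegular k X y.1
    obtain ⟨_, h2⟩ := (Groth.Agent.S0549.dvr_iff (X.presheaf.stalk y.1)).2 ⟨h1, y.2⟩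
    exact h2⟩

theorem charZero [CharZero k] : CharZero X.functionField := by
  let φ : k →+* X.functionField :=
    (X.presheaf.germ ⊤ (genericPoint X) trivial).hom.comp
      ((X ↘ Spec (CommRingCat.of k)).appTop.hom.comp (Scheme.ΓSpecIso (CommRingCat.of k)).inv.hom)
  exact charZero_of_injective_ringHom φ.injective

variable {x : X} (hx : IsClosed ({x} : Set X)) [LocallyOfFiniteType (X ↘ Spec (CommRingCat.of k))]
  (hdim : topologicalKrullDim X = 2)

include k hx hdim

theorem dim_point : ringKrullDim (X.presheaf.stalk x) = 2 := by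
  rw [Groth.Agent.Fga.DimCut.ringKrullDim_stalk_eq k X x hx, hdim]

theorem ne_generic : x ≠ genericPoint X := by
  rintro rfl
  have h := dim_point k X hx hdim
  have h1 : ringKrullDim (X.presheaf.stalk (genericPoint X)) = 0 :=
    ringKrullDim_eq_zero_of_field X.functionField
  rw [h1] at h
  exact absurd h (by norm_num)

theorem ne_C1 (y : C1 X) : y.1 ≠ x := by
  intro h0
  have h := dim_point k X hx hdim
  have h1 : ringKrullDim (X.presheaf.stalk y.1) = 1 := y.2
  rw [h0, h] at h1
  exact absurd h1 (by norm_num)

end K94.Geo
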