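import Groth.Agent.ShStab.K94.Delta
import Mathlib.Algebra.BigOperators.Finprod
import Mathlib.RingTheory.PrincipalIdealDomain

/-!
# The degree inequality for binary forms on a semistable lattice of rank two

`K` a field of characteristic zero with a family of discrete valuation rings `R i`, weights `δ i` with the product
formula, and the lattices `R i + R i (α i t + β i)` of rank two.  If all the linear forms satisfy the semistability
inequality then all forms of degree `m` do.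
-/

set_option autoImplicit false

open Polynomial K849.DvrLat K94.Gauss K94.Delta

namespace K94.Glob

section good

variable {R : Type*} [CommRing R] [IsDomain R] [IsDiscreteValuationRing R] {K : Type*} [Field K] [Algebra R K]
  [IsFractionRing R K]

theorem cont_loc_of_good {a b : K} (ha : a ≠ 0) (h1 : ordK R a = 0) (h2 : b = 0 ∨ 0 ≤ ordK R b) {P : K[X]}
    (hP : P ≠ 0) : cont R (loc a b P) = cont R P := by
  obtain ⟨u, hu⟩ := exists_unit_of_ordK_eq_zero R ha h1
  obtain ⟨r, hr⟩ : ∃ r : R, algebraMap R K r = b := by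
    by_cases hb : b = 0
    · exact ⟨0, by rw [map_zero, hb]⟩
    · exact (ordK_nonneg_iff R hb).1 (h2.resolve_left hb)
  obtain ⟨c, Q, hc, hcc, hPQ, hQ⟩ := exists_prim (R := R) hP
  have hu' : algebraMap R K ((u⁻¹ : Rˣ) : R) = a⁻¹ := by
    rw [← hu]
    apply eq_inv_of_mul_eq_one_left
    rw [← map_mul, Units.inv_mul, map_one]
  have h3 : loc a b P = C c * (Q.comp (C ((u⁻¹ : Rˣ) : R) * (X - C r))).map (algebraMap R K) := by
    conv_lhs => rw [hPQ]
    rw [loc_mul, loc_C, Polynomial.map_comp, Polynomial.map_mul, Polynomial.map_sub, map_X, map_C, map_C, hu', hr]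
    rfl
  have h4 : (Q.comp (C ((u⁻¹ : Rˣ) : R) * (X - C r))).map (IsLocalRing.residue R) ≠ 0 := by
    have hu0 : IsLocalRing.residue R (u : R) ≠ 0 := by
      rw [Ne, IsLocalRing.residue_eq_zero_iff]
      exact fun h => h u.isUnit
    have h5 := loc_ne_zero hu0 (IsLocalRing.residue R r) hQ
    have h6 : IsLocalRing.residue R ((u⁻¹ : Rˣ) : R) = (IsLocalRing.residue R (u : R))⁻¹ := by
      apply eq_inv_of_mul_eq_one_left
      rw [← map_mul, Units.inv_mul, map_one]
    rw [Polynomial.map_comp, Polynomial.map_mul, Polynomial.map_sub, map_X, map_C, map_C, h6]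
    exact h5
  have h5 : (Q.comp (C ((u⁻¹ : Rˣ) : R) * (X - C r))).map (algebraMap R K) ≠ 0 := by
    intro h
    rw [h, mul_zero] at h3
    exact loc_ne_zero ha b hP h3
  have h6 := (cont_eq_zero_iff h5).2 ⟨_, rfl, h4⟩
  rw [h3, cont_C_mul hc h5, h6, hcc, add_zero]

end good

variable {K : Type*} [Field K] {ι : Type*} (R : ι → Type*) [∀ i, CommRing (R i)] [∀ i, IsDomain (R i)]
  [∀ i, IsDiscreteValuationRing (R i)] [∀ i, Algebra (R i) K] [∀ i, IsFractionRing (R i) K]
  (δ : ι → ℚ) (α β : ι → K)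

theorem finite_cont (hf : ∀ f : K, f ≠ 0 → {i | ordK (R i) f ≠ 0}.Finite) {P : K[X]} (hP : P ≠ 0) :
    {i | cont (R i) P ≠ 0}.Finite := by
  have h1 : {i | cont (R i) P ≠ 0} ⊆ ⋃ j ∈ P.support, {i | ordK (R i) (P.coeff j) ≠ 0} := by
    intro i hi
    obtain ⟨j, hj, h2⟩ := exists_cont (R := R i) hP
    simp only [Set.mem_iUnion]
    refine ⟨j, mem_support_iff.2 hj, ?_⟩
    rw [Set.mem_ofPred_eq, ← h2]
    exact hi
  refine Set.Finite.subset ?_ h1
  exact Set.Finite.biUnion P.support.finite_toSet fun j hj => hf _ (mem_support_iff.1 hj)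

theorem finite_loc (hf : ∀ f : K, f ≠ 0 → {i | ordK (R i) f ≠ 0}.Finite) (hα0 : ∀ i, α i ≠ 0)
    (hα : {i | ¬ (ordK (R i) (α i) = 0 ∧ (β i = 0 ∨ 0 ≤ ordK (R i) (β i)))}.Finite) {P : K[X]} (hP : P ≠ 0) :
    {i | cont (R i) (loc (α i) (β i) P) ≠ 0}.Finite := by
  refine ((finite_cont R hf hP).union hα).subset fun i hi => ?_
  by_cases h : ordK (R i) (α i) = 0 ∧ (β i = 0 ∨ 0 ≤ ordK (R i) (β i))
  · left
    rw [Set.mem_ofPred_eq, ← cont_loc_of_good (hα0 i) h.1 h.2 hP]
    exact hi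
  · right
    exact h

/-- The degree of the line spanned by a form. -/
noncomputable def D (P : K[X]) : ℚ := ∑ᶠ i, δ i * (cont (R i) (loc (α i) (β i) P) : ℚ)

theorem supp_finite {g : ι → ℤ} (h : {i | g i ≠ 0}.Finite) : (Function.support fun i => δ i * (g i : ℚ)).Finite := by
  refine h.subset fun i hi => ?_
  rw [Function.mem_support] at hi
  intro h0
  apply hi
  rw [h0, Int.cast_zero, mul_zero]

section main

variable (hf : ∀ f : K, f ≠ 0 → {i | ordK (R i) f ≠ 0}.Finite) (hα0 : ∀ i, α i ≠ 0)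
    (hα : {i | ¬ (ordK (R i) (α i) = 0 ∧ (β i = 0 ∨ 0 ≤ ordK (R i) (β i)))}.Finite)

include hf hα0 hα in
theorem D_mul {P Q : K[X]} (hP : P ≠ 0) (hQ : Q ≠ 0) : D R δ α β (P * Q) = D R δ α β P + D R δ α β Q := by
  unfold D
  rw [← finsum_add_distrib (supp_finite δ (finite_loc R α β hf hα0 hα hP))
    (supp_finite δ (finite_loc R α β hf hα0 hα hQ))]
  refine finsum_congr fun i => ?_
  rw [loc_mul, cont_mul (loc_ne_zero (hα0 i) _ hP) (loc_ne_zero (hα0 i) _ hQ)]
  push_cast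
  ring

theorem D_C (hprod : ∀ f : K, f ≠ 0 → ∑ᶠ i, δ i * (ordK (R i) f : ℚ) = 0) {c : K} (hc : c ≠ 0) :
    D R δ α β (C c) = 0 := by
  unfold D
  rw [← hprod c hc]
  refine finsum_congr fun i => ?_
  rw [loc_C, cont_C hc]

include hf hα0 hα in
/-- The inequality for irreducible forms. -/
theorem D_irreducible [CharZero K] (hδ : ∀ i, 0 ≤ δ i)
    (hprod : ∀ f : K, f ≠ 0 → ∑ᶠ i, δ i * (ordK (R i) f : ℚ) = 0)
    {d : ℕ} (hd : 2 ≤ d) {P : K[X]} (hP : P.natDegree = d) (hirr : Irreducible P) :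
    2 * D R δ α β P ≤ d * (-∑ᶠ i, δ i * (ordK (R i) (α i) : ℚ)) := by
  have hP0 := hirr.ne_zero
  have hfa : {i | ordK (R i) (α i) ≠ 0}.Finite := hα.subset fun i hi h => hi h.1
  have h1 : ∀ i, 2 * ((d - 1 : ℕ) : ℚ) * (δ i * (cont (R i) (loc (α i) (β i) P) : ℚ)) ≤
      δ i * (ordK (R i) (Delta d P) : ℚ) - (d * (d - 1 : ℕ) : ℚ) * (δ i * (ordK (R i) (α i) : ℚ)) := by
    intro i
    have h2 := local_ineq (R := R i) (hα0 i) (β i) (by omega : 1 ≤ d) hP hirr
    have h3 : (2 * ((d - 1 : ℕ) : ℚ)) * (cont (R i) (loc (α i) (β i) P) : ℚ) +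
        (d * (d - 1 : ℕ) : ℚ) * (ordK (R i) (α i) : ℚ) ≤ (ordK (R i) (Delta d P) : ℚ) := by
      have := (Int.cast_le (R := ℚ)).2 h2
      push_cast at this ⊢
      exact this
    have := mul_le_mul_of_nonneg_left h3 (hδ i)
    linarith
  have hs1 := supp_finite δ (finite_loc R α β hf hα0 hα hP0)
  have hs2 := supp_finite δ hfa
  have hs3 := supp_finite δ (hf _ (Delta_ne_zero (by omega : 1 ≤ d) hP hirr))
  let T : Finset ι := ((hs1.union hs2).union hs3).toFinset
  have e1 : D R δ α β P = ∑ i ∈ T, δ i * (cont (R i) (loc (α i) (β i) P) : ℚ) :=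
    finsum_eq_sum_of_support_subset _ (by
      rw [Set.Finite.coe_toFinset]
      exact Set.subset_union_left.trans Set.subset_union_left)
  have e2 : ∑ᶠ i, δ i * (ordK (R i) (α i) : ℚ) = ∑ i ∈ T, δ i * (ordK (R i) (α i) : ℚ) :=
    finsum_eq_sum_of_support_subset _ (by
      rw [Set.Finite.coe_toFinset]
      exact Set.subset_union_right.trans Set.subset_union_left)
  have e3 : ∑ᶠ i, δ i * (ordK (R i) (Delta d P) : ℚ) = ∑ i ∈ T, δ i * (ordK (R i) (Delta d P) : ℚ) :=
    finsum_eq_sum_of_support_subset _ (by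
      rw [Set.Finite.coe_toFinset]
      exact Set.subset_union_right)
  rw [hprod _ (Delta_ne_zero (by omega : 1 ≤ d) hP hirr)] at e3
  have h4 := Finset.sum_le_sum fun i (_ : i ∈ T) => h1 i
  rw [Finset.sum_sub_distrib, ← Finset.mul_sum, ← Finset.mul_sum, ← e1, ← e2, ← e3] at h4
  have hd1 : (0 : ℚ) < ((d - 1 : ℕ) : ℚ) := by
    rw [Nat.cast_pos]
    omega
  have h5 : ((d - 1 : ℕ) : ℚ) * (2 * D R δ α β P) ≤
      ((d - 1 : ℕ) : ℚ) * (d * (-∑ᶠ i, δ i * (ordK (R i) (α i) : ℚ))) := by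
    linarith
  exact le_of_mul_le_mul_left h5 hd1

include hf hα0 hα in
/-- **The degree inequality.** -/
theorem D_le [CharZero K] (hδ : ∀ i, 0 ≤ δ i)
    (hprod : ∀ f : K, f ≠ 0 → ∑ᶠ i, δ i * (ordK (R i) f : ℚ) = 0)
    (hss : ∀ a : K, 2 * D R δ α β (X - C a) ≤ -∑ᶠ i, δ i * (ordK (R i) (α i) : ℚ))
    {P : K[X]} (hP : P ≠ 0) :
    2 * D R δ α β P ≤ P.natDegree * (-∑ᶠ i, δ i * (ordK (R i) (α i) : ℚ)) := by
  induction P using UniqueFactorizationMonoid.induction_on_prime with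
  | h₁ => exact absurd rfl hP
  | h₂ P hu =>
    obtain ⟨c, hc, rfl⟩ := Polynomial.isUnit_iff.1 hu
    rw [D_C R δ α β hprod hc.ne_zero, natDegree_C]
    simp
  | h₃ Q P hQ hp ih =>
    have h1 := ih hQ
    rw [D_mul R δ α β hf hα0 hα hp.ne_zero hQ, natDegree_mul hp.ne_zero hQ, Nat.cast_add, add_mul, mul_add]
    refine add_le_add ?_ h1
    rcases Nat.lt_or_ge P.natDegree 2 with hd | hd
    · have h2 : P.natDegree = 1 := by
        have h3 : P.natDegree ≠ 0 := fun h0 => hp.not_isUnit (by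
          rw [eq_C_of_natDegree_eq_zero h0]
          exact (isUnit_iff_ne_zero.2 fun hc => hp.ne_zero (by
            rw [eq_C_of_natDegree_eq_zero h0, hc, C_0])).map C)
        omega
      have h3 : P.leadingCoeff ≠ 0 := leadingCoeff_ne_zero.2 hp.ne_zero
      have h4 : P = C P.leadingCoeff * (X - C (-(P.coeff 0) / P.leadingCoeff)) := by
        have h5 := eq_X_add_C_of_natDegree_le_one h2.le
        have h6 : P.leadingCoeff = P.coeff 1 := by rw [leadingCoeff, h2]
        rw [mul_sub, ← C_mul, mul_div_cancel₀ _ h3, C_neg, sub_neg_eq_add, h6]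
        exact h5
      rw [h4, D_mul R δ α β hf hα0 hα (C_ne_zero.2 h3) (X_sub_C_ne_zero _), D_C R δ α β hprod h3, zero_add,
        natDegree_C_mul h3, natDegree_X_sub_C, Nat.cast_one, one_mul]
      exact hss _
    · exact D_irreducible R δ α β hf hα0 hα hδ hprod hd rfl hp.irreducible

end main

end K94.Glob
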