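import Groth.Agent.ShStab.K94.Geo
import Groth.Agent.ShStab.K94.DegP
import Groth.Agent.ShStab.K94.FromT
import Groth.Agent.ShStab.K94.Est

/-!
# The degree of the extension
-/

set_option autoImplicit false
set_option linter.unusedSectionVars false
universe u
open CategoryTheory CategoryTheory.Limits AlgebraicGeometry Opposite TopologicalSpace Module

namespace K94.HE

open Groth.Agent Groth.Agent.CycB.StalkExact Groth.Agent.VarietyB.ExactLoc Groth.Agent.Sga67.CohBasic
open K848.TF K848.Rank K848.Stab K848.Hull K848.HB K94.Deg4 K94.FromT K94.Est K94.Geo K848.Poly StabCat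

variable (k : Type u) [Field k] {X : Scheme.{u}} [X.Over (Spec (CommRingCat.of k))] [IsIntegral X]
  [IsProper (X ↘ Spec (CommRingCat.of k))] [IsNoetherian X] {H : X.Modules} (hH : CohB1.IsAmple H)
  (hdim : topologicalKrullDim X = 2)
  {L : X.Modules} {x : X} (hx : IsClosed ({x} : Set X)) (hL : PicF.IsInvertible L) {T : ShortComplex X.Modules}
  (hT : T.ShortExact) (hc : Coh.IsCoh T.X₂) (e₁ : T.X₁ ≅ Coh.structureModule X)
  (e₃ : T.X₃ ≅ CohB1.tensorMod (ClSub.idealMod (Scheme.IdealSheafData.vanishingIdeal ⟨{x}, hx⟩)) L)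

include hT hc e₁ in
theorem isCoh_X₃ : Coh.IsCoh T.X₃ := by
  have := hT.epi_g
  have := hT.mono_f
  have h1 : Coh.IsCoh T.X₁ := isCoh_of_iso e₁.symm isCoh_structureModule
  exact isCoh_of_iso ((cokernelIsCokernel T.f).coconePointUniqueUpToIso hT.gIsCokernel)
    (isCoh_cokernel T.f h1.1 hc)

include hT hc e₁ e₃ hL hH hdim in
theorem ph_X₂ : ph k H T.X₂ = ph k H (Coh.structureModule X) + ph k H L := by
  have := mono_tI L (Scheme.IdealSheafData.vanishingIdeal ⟨{x}, hx⟩) hL
  have h1 : Coh.IsCoh T.X₁ := isCoh_of_iso e₁.symm isCoh_structureModule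
  have h3 : Coh.IsCoh T.X₃ := isCoh_X₃ hT hc e₁
  have h4 := isCoh_of_iso e₃ h3
  have hcL := K848.Rank.isCoh_of_isInvertible hL
  have e := hp_add k hH.1 hT h1 hc h3
  have h5 : alpha (2 - 1) (hp k H (CohB1.tensorMod (ClSub.idealMod
      (Scheme.IdealSheafData.vanishingIdeal ⟨{x}, hx⟩)) L)) = alpha (2 - 1) (hp k H L) := by
    refine alpha_pred_eq k hH.1 hdim (tI L _) h4 hcL fun y hy => ?_
    have h6 := (support_subset_of_bijective (tI L (Scheme.IdealSheafData.vanishingIdeal ⟨{x}, hx⟩)) (x := x)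
      fun y hy => ⟨stalkLin_injective _ y, by
        rw [← LinearMap.range_eq_top, range_tI, stalkIdeal_off x hx hy, Submodule.top_smul]⟩).2 hy
    have h7 : y = x := h6
    rw [h7, dim_point k X hx hdim]
  unfold ph
  rw [e, alpha_add, ← hp_iso k hH.1 h1 e₁, ← hp_iso k hH.1 h3 e₃, h5]

end K94.HE
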