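import Mathlib

/-!
# Arithmetic of the sums of values of a quadratic polynomial
-/

set_option autoImplicit false

open Polynomial

namespace K94.Num

theorem sum_quad (c₀ c₁ c₂ a : ℚ) (m : ℕ) :
    ∑ j ∈ Finset.range m, (c₀ + c₁ * ((j : ℚ) - a) + c₂ * ((j : ℚ) - a) ^ 2) =
      c₂ * ((m : ℚ) * (m - 1) * (2 * m - 1) / 6 - a * m * (m - 1) + a ^ 2 * m) +
        c₁ * ((m : ℚ) * (m - 1) / 2 - a * m) + c₀ * m := by
  induction m with
  | zero => simp
  | succ m ih =>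
    rw [Finset.sum_range_succ, ih]
    push_cast
    ring

theorem sum_eval {Q : ℚ[X]} (hQ : Q.natDegree ≤ 2) (n : ℕ) :
    ∑ j ∈ Finset.range (2 * n + 1), Q.eval ((j : ℚ) - n) =
      (2 * Q.coeff 2) * (n * (n + 1) * (2 * n + 1) / 6) + (2 * n + 1) * Q.coeff 0 := by
  have h : ∀ t : ℚ, Q.eval t = Q.coeff 0 + Q.coeff 1 * t + Q.coeff 2 * t ^ 2 := fun t => by
    rw [Polynomial.eval_eq_sum_range' (n := 3) (by omega), Finset.sum_range_succ, Finset.sum_range_succ,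
      Finset.sum_range_succ, Finset.sum_range_zero]
    ring
  rw [Finset.sum_congr rfl fun j _ => h _, sum_quad]
  push_cast
  ring

theorem choose_three (n : ℕ) : (((2 * n + 2).choose 3 : ℕ) : ℚ) = 4 * (n * (n + 1) * (2 * n + 1) / 6) := by
  have h := Nat.descFactorial_eq_factorial_mul_choose (2 * n + 2) 3
  have h1 : (2 * n + 2).descFactorial 3 = (2 * n) * ((2 * n + 1) * (2 * n + 2)) := by
    rw [Nat.descFactorial_succ, Nat.descFactorial_succ, Nat.descFactorial_succ, Nat.descFactorial_zero]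
    have e1 : 2 * n + 2 - 2 = 2 * n := by omega
    have e2 : 2 * n + 2 - 1 = 2 * n + 1 := by omega
    rw [e1, e2, Nat.sub_zero, mul_one]
  rw [h1] at h
  have h2 : ((2 * n : ℕ) : ℚ) * (((2 * n + 1 : ℕ) : ℚ) * ((2 * n + 2 : ℕ) : ℚ)) =
      (Nat.factorial 3 : ℕ) * (((2 * n + 2).choose 3 : ℕ) : ℚ) := by
    exact_mod_cast h
  have h3 : Nat.factorial 3 = 6 := rfl
  rw [h3] at h2
  push_cast at h2
  linarith

theorem false_of_le {s q₀ : ℚ} (hs : 5 ≤ s) {C : ℕ}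
    (h : ∀ n : ℕ, s * (n * (n + 1) * (2 * n + 1) / 6) + (2 * n + 1) * q₀ -
      4 * (n * (n + 1) * (2 * n + 1) / 6) ≤ C * (n + 2) * (2 * n + 1)) : False := by
  obtain ⟨K, hK⟩ := exists_nat_ge ((C : ℚ) + |q₀| + 1)
  have h1 := h (12 * K)
  push_cast at h1
  have hC : (0 : ℚ) ≤ C := Nat.cast_nonneg _
  have hq := abs_nonneg q₀
  have hq' := neg_abs_le q₀
  have hK1 : (1 : ℚ) ≤ K := by linarith
  have hpos : (0 : ℚ) < 2 * (12 * K) + 1 := by linarith
  have h2 : ((s - 4) * ((12 * K) * (12 * K + 1) / 6) + q₀) * (2 * (12 * (K : ℚ)) + 1) ≤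
      (C * (12 * K + 2)) * (2 * (12 * (K : ℚ)) + 1) := by
    calc _ = s * (12 * K * (12 * K + 1) * (2 * (12 * K) + 1) / 6) + (2 * (12 * K) + 1) * q₀ -
        4 * (12 * K * (12 * K + 1) * (2 * (12 * K) + 1) / 6) := by ring
      _ ≤ _ := h1
  have h3 := le_of_mul_le_mul_right h2 hpos
  have h4 : (0 : ℚ) ≤ (12 * K) * (12 * K + 1) / 6 := by positivity
  have h5 : 1 * ((12 * K) * (12 * K + 1) / 6) ≤ (s - 4) * ((12 * (K : ℚ)) * (12 * K + 1) / 6) :=
    mul_le_mul_of_nonneg_right (by linarith) h4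
  have h6 : (C : ℚ) * (12 * K + 2) ≤ (K : ℚ) * (12 * K + 2) := mul_le_mul_of_nonneg_right (by linarith) (by positivity)
  nlinarith

end K94.Num
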