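import Groth.Agent.ShStab.K94.Est
import Groth.Agent.Variety.K420.LenEuler
import Groth.Agent.AlgEqCyc.K824.DegZero
import Groth.Agent.CycB.DegSky
import Groth.Agent.S5778
import Groth.Agent.ShStab.K848.Stab

/-!
# Euler characteristics of modules supported at a closed point
-/

set_option autoImplicit false
set_option linter.unusedSectionVars false
set_option linter.overlappingInstances false
universe u
open CategoryTheory CategoryTheory.Limits AlgebraicGeometry Opposite TopologicalSpace Module

namespace K94.Point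

open Groth.Agent Groth.Agent.CycB.StalkExact Groth.Agent.VarietyB.ExactLoc K94.Tw K94.Est

variable (k : Type u) [Field k] {X : Scheme.{u}} [X.Over (Spec (CommRingCat.of k))]
  [IsProper (X ↘ Spec (CommRingCat.of k))]

theorem euler_point [IsAlgClosed k] {x : X} (hx : IsClosed ({x} : Set X)) {G : X.Modules} (hG : Coh.IsCoh G)
    (hs : CohB1.support G ⊆ {x}) : Curv2.euler k X G =
      ((Module.length (X.presheaf.stalk x) (G.presheaf.stalk x)).toNat : ℤ) := by
  have h := CycB.DegSky.euler_eq_sum k X G hG (Set.finite_singleton x) (fun y hy => by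
    rw [Set.mem_singleton_iff] at hy
    subst hy
    exact hx) (fun y hy => by
      by_contra h
      exact hy (hs h)) (fun y hy => by
      rw [Set.mem_singleton_iff] at hy
      subst hy
      exact K420.LenEuler.residueFieldMap_finite _ _ hx)
  have h2 := K824.DegZero.residueDegree_eq_one (X ↘ Spec (CommRingCat.of k)) x hx
  simpa [h2] using h

/-- The Euler characteristic of a twist. -/
noncomputable def ch (M F : X.Modules) : ℤ := Curv2.euler k X (CohB1.tensorMod F M)

theorem isAdd_ch {M : X.Modules} (hM : PicF.IsInvertible M) : Fga.ChiBasic.IsAdd (ch k M) := by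
  intro S hS h1 h2 h3
  have h := CohqB.SerTw.shortExact_tw hM hS
  have c1 : Coh.IsCoh (S.map (CohqB.SerTw.tw M)).X₁ := isCoh_tw h1 hM
  have c2 : Coh.IsCoh (S.map (CohqB.SerTw.tw M)).X₂ := isCoh_tw h2 hM
  have c3 : Coh.IsCoh (S.map (CohqB.SerTw.tw M)).X₃ := isCoh_tw h3 hM
  have h' := K848.HB.isAdd_euler k (S.map (CohqB.SerTw.tw M)) h c1 c2 c3
  exact h'

variable {k}

theorem ch_point [IsAlgClosed k] {x : X} (hx : IsClosed ({x} : Set X)) {M : X.Modules} (hM : PicF.IsInvertible M)
    {G : X.Modules} (hG : Coh.IsCoh G) (hs : CohB1.support G ⊆ {x}) : ch k M G =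
      ((Module.length (X.presheaf.stalk x) (G.presheaf.stalk x)).toNat : ℤ) := by
  unfold ch
  rw [euler_point k hx (isCoh_tw hG hM) (by rwa [support_tw G hM]), len_tw G hM]

theorem ch_nonneg [IsAlgClosed k] {x : X} (hx : IsClosed ({x} : Set X)) {M : X.Modules} (hM : PicF.IsInvertible M)
    (G : X.Modules) (hG : Coh.IsCoh G) (hs : CohB1.support G ⊆ {x}) : 0 ≤ ch k M G := by
  rw [ch_point hx hM hG hs]
  exact Int.natCast_nonneg _

theorem ch_le [IsAlgClosed k] {x : X} (hx : IsClosed ({x} : Set X)) {M : X.Modules} (hM : PicF.IsInvertible M)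
    (G : X.Modules) (hG : Coh.IsCoh G) (hs : CohB1.support G ⊆ {x}) (n : ℕ)
    (hn : Module.length (X.presheaf.stalk x) (G.presheaf.stalk x) ≤ n) : ch k M G ≤ n := by
  rw [ch_point hx hM hG hs]
  have h := ENat.toNat_le_toNat hn (ENat.natCast_ne_top n)
  rw [ENat.toNat_natCast] at h
  exact_mod_cast h

omit [X.Over (Spec (CommRingCat.of k))] [IsProper (X ↘ Spec (CommRingCat.of k))] [Field k] in
theorem length_quotient {x : X} (hreg : IsRegularLocalRing (X.presheaf.stalk x))
    (hdim : ringKrullDim (X.presheaf.stalk x) = (2 : ℕ)) (m : ℕ) :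
    Module.length (X.presheaf.stalk x)
      (X.presheaf.stalk x ⧸ IsLocalRing.maximalIdeal (X.presheaf.stalk x) ^ (m + 1)) = ((m + 2).choose m : ℕ) :=
  K103.HilbReg.length_of_regular _ 2 hdim m

end K94.Point
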