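import Groth.Agent.ShStab.K94.DegP
import Groth.Agent.ShStab.K94.Point
import Groth.Agent.ShStab.K94.Num
import Groth.Agent.CurvesB.HZero

/-!
# Euler characteristics on a surface
-/

set_option autoImplicit false
set_option linter.unusedSectionVars false
universe u
open CategoryTheory CategoryTheory.Limits AlgebraicGeometry Opposite TopologicalSpace Module

namespace K94.Low

open Groth.Agent Groth.Agent.Fga.PicMon Groth.Agent.Grpsch.PicGrp Groth.Agent.Fdesc.LocGen
open K433.Hq K848.Rank K848.Stab K848.Hull K848.HB K848.Poly StabCat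

variable {X : Scheme.{u}}

theorem mc_rep_pow (c : Pic X) (a : ℕ) : mc (rep (c ^ a)) = mc (rep c) ^ a := by
  induction a with
  | zero => rw [pow_zero, pow_zero, mc_rep_one]
  | succ a ih => rw [pow_succ, pow_succ, mc_rep_mul, ih]

variable (k : Type u) [Field k] [X.Over (Spec (CommRingCat.of k))]
  [IsProper (X ↘ Spec (CommRingCat.of k))]

theorem eval_zpow {L : X.Modules} (hL : PicF.IsInvertible L) (c : Pic X) (i : ℤ) :
    (Curv2.euler k X (rep (mk L hL ^ i * c)) : ℚ) = (hp k L (rep c)).eval (i : ℚ) := by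
  have hmc : mc (rep (mk L hL)) = mc L := mc_rep hL rfl
  have c1 := K848.Rank.isCoh_of_isInvertible (rep_inv (mk L hL ^ i * c))
  have c2 := K848.Rank.isCoh_of_isInvertible (rep_inv c)
  rw [euler_eq_eval k hL c1]
  obtain ⟨a, rfl | rfl⟩ := i.eq_nat_or_neg
  · rw [hp_of_mc k hL c2 c1 a (by rw [zpow_natCast, mc_rep_mul, mc_rep_pow, hmc, mul_comm]), eval_shift, zero_add]
    simp
  · rw [hp_of_mc' k hL c2 c1 a (by
      rw [← hmc, ← mc_rep_pow, ← mc_rep_mul, zpow_neg, zpow_natCast]
      congr 2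
      rw [mul_right_comm, inv_mul_cancel, one_mul]), eval_shift, zero_add]
    norm_num

variable [IsNoetherian X] (hdim : topologicalKrullDim X = (2 : ℕ))

include hdim in
theorem euler_le (F : X.Modules) : Curv2.euler k X F ≤ hh k F 0 + hh k F 2 := by
  rw [← Fga.EulerLEAdd.eulerCharLE_eq_euler k X 2 hdim.le F]
  unfold FGA.eulerCharLE
  rw [Finset.sum_range_succ, Finset.sum_range_succ, Finset.sum_range_succ, Finset.sum_range_zero]
  rw [hh_def, hh_def]
  have h : (0 : ℤ) ≤ (Module.finrank k (Coh.HH X F 1) : ℤ) := Int.natCast_nonneg _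
  norm_num

theorem hh_zero_of_sections {F : X.Modules} (h : ∀ t : Γ(F, ⊤), t = 0) : hh k F 0 = 0 := by
  refine hh_of_subsingleton k ⟨fun a b => (CurvesB.HZero.equivAdd F).injective ?_⟩
  rw [h (CurvesB.HZero.equivAdd F a), h (CurvesB.HZero.equivAdd F b)]

variable [IsIntegral X]

include hdim in
theorem alpha_rep {L : X.Modules} (hL : PicF.IsInvertible L) (c : Pic X) :
    alpha 2 (hp k L (rep c)) = alpha 2 (hp k L (Coh.structureModule X)) := by
  rw [alpha_rk k hL hdim (K848.Rank.isCoh_of_isInvertible (rep_inv c)),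
    rk_structureModule_of_isInvertible (rep_inv c), Nat.cast_one, one_mul]

theorem isInvertible_inv {X : Scheme.{u}} {L Linv : X.Modules} (hL : PicF.IsInvertible L) (hLinv : ClSub.IsInverseOf Linv L) :
    PicF.IsInvertible Linv := by
  obtain ⟨M, hM, hLM⟩ := exists_inverse hL
  have h1 := (mc_eq_iff _ _).2 hLinv
  have h2 := (mc_eq_iff _ _).2 hLM
  rw [mc_tensor, mc_one] at h1 h2
  have h3 : mc M = mc Linv := by
    calc mc M = (mc Linv * mc L) * mc M := by rw [h1, one_mul]
      _ = mc Linv := by rw [mul_assoc, h2, mul_one]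
  obtain ⟨e⟩ := (mc_eq_iff _ _).1 h3
  exact fun x => by
    obtain ⟨U, hxU, ⟨i⟩⟩ := hM x
    exact ⟨U, hxU, ⟨(Scheme.Modules.restrictFunctor U.ι).mapIso e.symm ≪≫ i⟩⟩

include hdim in
theorem five_le {L Linv : X.Modules} (hL : PicF.IsInvertible L) (hLinv : ClSub.IsInverseOf Linv L)
    (hself : 5 ≤ FGA.intNum k X 2 ![Linv, Linv] (Coh.structureModule X)) :
    5 ≤ alpha 2 (hp k L (Coh.structureModule X)) := by
  have e : ![Linv, Linv] = fun _ : Fin 2 => Linv := by
    funext i
    fin_cases i <;> rfl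
  rw [e] at hself
  have hM := isInvertible_inv hL hLinv
  have hLM : Nonempty (CohB1.tensorMod L Linv ≅ Coh.structureModule X) := by
    rw [← mc_eq_iff, mc_tensor, mul_comm, ← mc_tensor, mc_eq_iff]
    exact hLinv
  have h := intNum_eq k hL hM hLM 2 hdim.le 2 (Coh.structureModule X) isCoh_structureModule
  rw [eval_nabla_iter (natDegree_le k hL hdim isCoh_structureModule)] at h
  rw [← h]
  exact_mod_cast hself

end K94.Low
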