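import Groth.Agent.ShStab.K94.Low
import Groth.Agent.ShStab.K94.HE
import Groth.Agent.ShStab.K94.Cur4
import Groth.Agent.ShStab.K94.Dual
import Groth.Agent.Variety.K433.GrowthId

/-!
# The cohomology of the twisted symmetric powers
-/

set_option autoImplicit false
set_option linter.unusedSectionVars false
set_option linter.overlappingInstances false
universe u
open CategoryTheory CategoryTheory.Limits AlgebraicGeometry Opposite TopologicalSpace Module

namespace K94.Main1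

open Groth.Agent Groth.Agent.Fga.PicMon Groth.Agent.Grpsch.PicGrp Groth.Agent.Fdesc.LocGen
open K433.Hq K848.Rank K848.Stab K848.Hull K848.HB K848.Poly StabCat ShStab K849.Cst K849.CstDeg K849.CstTor
open K94.Emb K94.Tw K94.Ext K94.Sym K94.Est K94.Deg K94.Deg2 K94.Deg4 K94.Van K94.DegP K94.Low K94.Cur K94.Cur2
open Groth.Agent.CohqB.SerTw (tw mulSec)

variable (k : Type u) [Field k] {X : Scheme.{u}} [X.Over (Spec (CommRingCat.of k))] [IsIntegral X]
  [IsProper (X ↘ Spec (CommRingCat.of k))] [IsNoetherian X] [RegOne X] [CharZero X.functionField]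
  {H : X.Modules} (hH : CohB1.IsAmple H) (hdim : topologicalKrullDim X = (2 : ℕ))
  {A : Lt X (Polynomial X.functionField)} {Λ : Lt X X.functionField} {x : X}
  {α β : C1 X → X.functionField} (Hl : Loc A Λ α β) (hΛ : PicF.IsInvertible Λ.M)
  (hE : ph k H A.M = ph k H (Coh.structureModule X) + ph k H Λ.M) (D : Dat x A Λ) (hx : x ≠ genericPoint X)
  (hss : StabCat.IsMuSS Coh.IsCoh (IsHilbPoly k X H) 2 A.M)
  (f : Coh.structureModule X ⟶ A.M) (hf : Mono f)

/-- The twisting class. -/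
noncomputable def bcl (hΛ : PicF.IsInvertible Λ.M) (hH : CohB1.IsAmple H) (n : ℕ) : Pic X :=
  mk Λ.M hΛ ^ (-(n : ℤ)) * (mk H hH.1)⁻¹

include hdim in
theorem dP_bcl (n : ℕ) : dP k H (bcl hΛ hH n) = -(n * dg k H Λ.M) - dP k H (mk H hH.1) := by
  unfold bcl
  rw [dP_mul k hH hdim, dP_zpow k hH hdim, dP_inv k hH hdim, dP_mk k hH hΛ]
  push_cast
  ring

include hH hdim hE hss hf D hx hΛ Hl in
theorem h0_eq (n : ℕ) : hh k (CohB1.tensorMod (S A (2 * n)).M (rep (bcl hΛ hH n))) 0 = 0 := by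
  obtain ⟨B, hB⟩ := exists_lt (rep_inv (bcl hΛ hH n))
  have hBi : PicF.IsInvertible B.M := by rw [hB]; exact rep_inv _
  have h1 : dg k H B.M = dP k H (bcl hΛ hH n) := by rw [hB]; rfl
  have h2 := dP_H_pos k hH hdim
  refine hh_zero_of_sections k ?_
  rw [← hB]
  refine section_eq_zero k hH hdim Hl hΛ hE D hx hss f hf (2 * n) hBi ?_
  rw [h1, dP_bcl k hH hdim hΛ]
  push_cast
  linarith

include hH hdim hE hss hf D hx hΛ Hl in
theorem h2_big (n : ℕ) {W : X.Modules} (hW : PicF.IsInvertible W)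
    (hdual : ∀ F : X.Modules, Coh.IsQCoh F → (∀ φ : F ⟶ W, φ = 0) → Subsingleton (Coh.HH X F 2))
    {N : X.Modules} (hN : PicF.IsInvertible N) (a : ℕ) (hmc : mc N = mc H ^ a)
    (ha : dg k H W < (a - 1) * dP k H (mk H hH.1)) :
    hh k (CohB1.tensorMod (CohB1.tensorMod (S A (2 * n)).M (rep (bcl hΛ hH n))) N) 2 = 0 := by
  obtain ⟨B, hB⟩ := exists_lt (isInvertible_tensorMod (rep_inv (bcl hΛ hH n)) hN)
  obtain ⟨V, rfl⟩ := exists_lt hW
  have hBi : PicF.IsInvertible B.M := by rw [hB]; exact isInvertible_tensorMod (rep_inv _) hN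
  have h1 : dg k H B.M = dP k H (bcl hΛ hH n * mk H hH.1 ^ (a : ℤ)) := by
    refine dg_congr k hH ((mc_eq_iff _ _).1 ?_) (K848.Rank.isCoh_of_isInvertible hBi)
    rw [hB, mc_tensor, mc_rep_mul, zpow_natCast, mc_rep_pow, mc_rep hH.1 rfl, hmc]
  rw [dP_mul k hH hdim, dP_zpow k hH hdim, dP_bcl k hH hdim hΛ] at h1
  have h2 : mc (CohB1.tensorMod (CohB1.tensorMod (S A (2 * n)).M (rep (bcl hΛ hH n))) N) =
      mc (CohB1.tensorMod (S A (2 * n)).M B.M) := by
    rw [mc_tensor, mc_tensor, mc_tensor, hB, mc_tensor, mul_assoc]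
  rw [hh_congr k h2]
  refine hh_of_subsingleton k (hdual _ (isCoh_tw (S A (2 * n)).coh hBi).1 fun φ => ?_)
  refine hom_eq_zero k hH hdim Hl hΛ hE D hx hss f hf (2 * n) hBi hW ?_ φ
  rw [h1]
  push_cast
  linarith

end K94.Main1
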