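import Groth.Agent.ShStab.K94.Main1

/-!
# The estimate for the second cohomology
-/

set_option autoImplicit false
set_option linter.unusedSectionVars false
set_option linter.overlappingInstances false
universe u
open CategoryTheory CategoryTheory.Limits AlgebraicGeometry Opposite TopologicalSpace Module

namespace K94.Main2

open Groth.Agent Groth.Agent.Fga.PicMon Groth.Agent.Grpsch.PicGrp Groth.Agent.Fdesc.LocGen
open K433.Hq K848.Rank K848.Stab K848.Hull K848.HB K848.Poly StabCat ShStab K849.Cst K849.CstDeg K849.CstTor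
open K94.Emb K94.Tw K94.Ext K94.Sym K94.Est K94.Deg K94.Deg2 K94.Deg4 K94.Van K94.DegP K94.Low K94.Cur K94.Cur2
open K94.Main1
open Groth.Agent.CohqB.SerTw (tw mulSec)

variable (k : Type u) [Field k] {X : Scheme.{u}} [X.Over (Spec (CommRingCat.of k))] [IsIntegral X]
  [IsProper (X ↘ Spec (CommRingCat.of k))] [IsNoetherian X]
  {H : X.Modules} (hH : CohB1.IsAmple H) (hdim : topologicalKrullDim X = (2 : ℕ))
  {A : Lt X (Polynomial X.functionField)} {Λ : Lt X X.functionField} {x : X} (hΛ : PicF.IsInvertible Λ.M)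
  (D : Dat x A Λ) {N : X.Modules} (hN : PicF.IsInvertible N) {σ : Γ(N, ⊤)} (hσ : Un σ x)

include hN hσ in
theorem h2_le {F : X.Modules} (hF : Coh.IsCoh F) (htf : TorSh.IsTorsionFree F)
    (h0 : hh k (CohB1.tensorMod F N) 2 = 0) : hh k F 2 ≤ hh k (R σ F) 1 := by
  have := mono_mulSec σ hN hσ htf
  have c2 : Coh.IsCoh (CohB1.tensorMod F N) := isCoh_tw hF hN
  have c3 : Coh.IsCoh (cokernel (mulSec σ F)) := isCoh_R σ hN hF
  have h := hh_left_le k _ (shortExact_coker (mulSec σ F)) hF c2 c3 2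
  have h' : hh k F 2 ≤ hh k (CohB1.tensorMod F N) 2 + hh k (R σ F) (2 - 1) := h
  rw [h0, zero_add] at h'
  exact h'

include hN hσ hdim in
theorem dim_R : topologicalKrullDim (CohB1.support (R σ (Coh.structureModule X))) ≤ (1 : ℕ) := by
  have hc := isCoh_R σ hN (K848.Stab.isCoh_structureModule (Y := X))
  have hcl : IsClosed (CohB1.support (R σ (Coh.structureModule X))) := Groth.Agent.S0020.result X _ hc.2
  have hg : genericPoint X ∉ CohB1.support (R σ (Coh.structureModule X)) := by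
    intro h
    have h1 : x ∈ CohB1.support (R σ (Coh.structureModule X)) :=
      (genericPoint_specializes x).mem_closed hcl h
    exact h1 (subsingleton_R σ hσ _)
  exact le_pred_of_add_one_le (dim_support_le_pred hdim hc hg)

include hN hσ in
theorem psi_pw (c : Pic X) (j : ℕ) : psi k σ (rep c) (Pw Λ hΛ j).M =
    hq k 1 (R σ (Coh.structureModule X)) (mk Λ.M hΛ ^ (j : ℤ) * c) := by
  have hP : PicF.IsInvertible (CohB1.tensorMod (Pw Λ hΛ j).M (rep c)) :=
    isInvertible_tensorMod (isInvertible_Pw Λ hΛ j) (rep_inv c)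
  obtain ⟨e⟩ := K94.Cur3.iso_R σ hN hσ hP
  unfold psi
  rw [hh_iso k e]
  refine (hq_eq_of_mc k ?_).symm
  rw [mc_tensor, mc_tensor, mc_rep_mul, zpow_natCast, mc_rep_pow, mc_rep hΛ rfl, Pw_M, mc_tensorPow]

include hH hN hσ hdim D in
theorem psi_bound : ∃ C : ℕ, ∀ n : ℕ, psi k σ (rep (bcl hΛ hH n)) (S A (2 * n)).M ≤ C * (n + 2) * (2 * n + 1) := by
  have hd := dim_R hdim hN hσ
  obtain ⟨C, hC⟩ := K433.Growth.growth_zpow k hH (![mk Λ.M hΛ, mk H hH.1] : Fin 2 → Pic X)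
    (isCoh_R σ hN (K848.Stab.isCoh_structureModule (Y := X))) hd 1
  refine ⟨C, fun n => ?_⟩
  refine (psi_le D hΛ (ψ := psi k σ (rep (bcl hΛ hH n)))
    (fun S hS h1 h2 h3 => psi_sub k σ hN (rep_inv _) hd S hS h1 h2 h3)
    (fun f _ _ h => psi_eq k σ hN (rep_inv _) hσ f h) (2 * n)).trans ?_
  have h1 : ∀ j ∈ Finset.range (2 * n + 1), psi k σ (rep (bcl hΛ hH n)) (Pw Λ hΛ j).M ≤ C * (n + 2) := by
    intro j hj
    rw [Finset.mem_range] at hj
    rw [psi_pw k hΛ hN hσ]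
    have h2 := hC ![(j : ℤ) - n, -1]
    rw [Fin.prod_univ_two, Fin.sum_univ_two] at h2
    have h3 : (![mk Λ.M hΛ, mk H hH.1] : Fin 2 → Pic X) 0 ^ (![(j : ℤ) - n, -1] : Fin 2 → ℤ) 0 *
        (![mk Λ.M hΛ, mk H hH.1] : Fin 2 → Pic X) 1 ^ (![(j : ℤ) - n, -1] : Fin 2 → ℤ) 1 =
        mk Λ.M hΛ ^ (j : ℤ) * bcl hΛ hH n := by
      unfold bcl
      change mk Λ.M hΛ ^ ((j : ℤ) - n) * mk H hH.1 ^ (-1 : ℤ) = _
      rw [zpow_sub, zpow_neg_one, zpow_neg, mul_assoc]
    rw [h3] at h2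
    refine h2.trans (Nat.mul_le_mul_left _ ?_)
    have h4 : (![(j : ℤ) - n, -1] : Fin 2 → ℤ) 0 = (j : ℤ) - n := rfl
    have h5 : (![(j : ℤ) - n, -1] : Fin 2 → ℤ) 1 = -1 := rfl
    rw [h4, h5, pow_one]
    omega
  refine (Finset.sum_le_sum h1).trans ?_
  rw [Finset.sum_const, Finset.card_range, smul_eq_mul, mul_comm]

end K94.Main2
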