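import Groth.Agent.ShStab.K94.Ext
import Groth.Agent.ShStab.K94.Glob
import Groth.Agent.S2297

/-!
# The symmetric powers of an extension of rank two, embedded in the polynomials
-/

set_option autoImplicit false
set_option linter.unusedSectionVars false
universe u
open CategoryTheory CategoryTheory.Limits AlgebraicGeometry Opposite TopologicalSpace Module
open scoped TensorProduct

namespace K94.Sym

open Groth.Agent Groth.Agent.CycB.StalkExact Groth.Agent.VarietyB.ExactLoc
open Groth.Agent.Fdesc.Skyscraper Groth.Agent.CycB.CohStalk Groth.Agent.Sga67.CohBasic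
open K848.TF K849.Cst K849.CstTor K849.DvrLat K848.Rank K849.CstDeg K94.Tens K94.Emb K94.Tw K94.Ext
open Groth.Agent.Dcoh.FreeSec (stalkUnit stalkUnit_apply stalkOne one)
open Polynomial (C)

attribute [local instance 50] modAt

theorem isCoh_tensor {X : Scheme.{u}} {M N : X.Modules} (hM : Coh.IsCoh M) (hN : Coh.IsCoh N) :
    Coh.IsCoh (CohB1.tensorMod M N) := by
  have := hM.1
  have := hN.1
  exact ⟨(Groth.Agent.S2297.result M N).1, (Groth.Agent.S2297.result M N).2 hM.2 hN.2⟩

variable {X : Scheme.{u}} [IsIntegral X]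

/-- The multiplication of polynomials. -/
noncomputable def mulB : Polynomial X.functionField →ₗ[X.presheaf.stalk (genericPoint X)]
    Polynomial X.functionField →ₗ[X.presheaf.stalk (genericPoint X)] Polynomial X.functionField :=
  (LinearMap.mul X.functionField (Polynomial X.functionField) :
    Polynomial X.functionField →ₗ[X.functionField] Polynomial X.functionField →ₗ[X.functionField]
      Polynomial X.functionField)

theorem mulB_apply (P Q : Polynomial X.functionField) : mulB P Q = P * Q := rfl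

/-- The constants. -/
noncomputable def k0 : (Coh.structureModule X).presheaf.stalk (genericPoint X) →ₗ[X.presheaf.stalk (genericPoint X)]
    X.functionField := toK (stalkUnit (genericPoint X)).symm

/-- The constants. -/
noncomputable def c0 : (Coh.structureModule X).presheaf.stalk (genericPoint X) →ₗ[X.presheaf.stalk (genericPoint X)]
    Polynomial X.functionField where
  toFun m := C (k0 m)
  map_add' a b := by rw [map_add k0, Polynomial.C_add]
  map_smul' r m := by
    rw [map_smul k0]
    exact Polynomial.C_mul.trans (Polynomial.smul_eq_C_mul _).symm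

theorem k0_one : k0 (stalkOne (genericPoint X)) = 1 := by
  have h1 : (stalkUnit (genericPoint X)).symm (stalkOne (genericPoint X)) = 1 := by
    rw [LinearEquiv.symm_apply_eq, stalkUnit_apply, one_smul]
  exact h1

theorem latHom_c0 (y : X) (r : X.presheaf.stalk y) :
    latHom (Coh.structureModule X) c0 y (stalkUnit y r) = C (algebraMap _ X.functionField r) := by
  rw [stalkUnit_apply, map_smul, smul_C]
  have h : latHom (Coh.structureModule X) c0 y (stalkOne y) = 1 := by
    change c0 ((Coh.structureModule X).presheaf.stalkSpecializes (gen y) (stalkOne y)) = 1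
    rw [spec_one]
    change C (k0 (stalkOne (genericPoint X))) = 1
    rw [k0_one]
    exact Polynomial.C_1
  rw [h, mul_one]

theorem mem_lat_c0 (y : X) (P : Polynomial X.functionField) :
    P ∈ lat (Coh.structureModule X) c0 y ↔ ∃ r : X.presheaf.stalk y, P = C (algebraMap _ X.functionField r) := by
  constructor
  · rintro ⟨m, rfl⟩
    obtain ⟨r, rfl⟩ := (stalkUnit y).surjective m
    exact ⟨r, latHom_c0 y r⟩
  · rintro ⟨r, rfl⟩
    exact ⟨_, latHom_c0 y r⟩

variable [IsLocallyNoetherian X] (A : Lt X (Polynomial X.functionField))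

/-- The symmetric powers. -/
noncomputable def S : ℕ → Lt X (Polynomial X.functionField)
  | 0 => image K848.Stab.isCoh_structureModule c0
  | m + 1 => image (isCoh_tensor A.coh (S m).coh) (tmap mulB A.e (S m).e)

theorem mem_S_zero (y : X) (P : Polynomial X.functionField) :
    P ∈ (S A 0).lat y ↔ ∃ r : X.presheaf.stalk y, P = C (algebraMap _ X.functionField r) := by
  rw [← mem_lat_c0]
  unfold S
  rw [lat_image]

theorem lat_S_succ (m : ℕ) (y : X) : (S A (m + 1)).lat y = Submodule.span (X.presheaf.stalk y)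
    {v | ∃ v₁ ∈ A.lat y, ∃ v₂ ∈ (S A m).lat y, mulB v₁ v₂ = v} := by
  have h : S A (m + 1) = image (isCoh_tensor A.coh (S A m).coh) (tmap mulB A.e (S A m).e) := rfl
  rw [h, lat_image, lat_tensor]

theorem mul_mem {m : ℕ} {y : X} {P Q : Polynomial X.functionField} (hP : P ∈ A.lat y) (hQ : Q ∈ (S A m).lat y) :
    P * Q ∈ (S A (m + 1)).lat y := by
  rw [lat_S_succ]
  exact Submodule.subset_span ⟨P, hP, Q, hQ, rfl⟩

theorem S_succ_le {m : ℕ} {y : X} (W : Submodule (X.presheaf.stalk y) (Polynomial X.functionField))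
    (h : ∀ P ∈ A.lat y, ∀ Q ∈ (S A m).lat y, P * Q ∈ W) : (S A (m + 1)).lat y ≤ W := by
  rw [lat_S_succ, Submodule.span_le]
  rintro _ ⟨P, hP, Q, hQ, rfl⟩
  exact h P hP Q hQ

section power

variable (Λ : Lt X X.functionField) (hΛ : PicF.IsInvertible Λ.M)

/-- The powers of an invertible module. -/
noncomputable def Pw : ℕ → Lt X X.functionField
  | 0 =>
    { M := Coh.structureModule X
      coh := K848.Stab.isCoh_structureModule
      tf := K848.Stab.isTorsionFree_of_isFinLocFree
        (isFinLocFree_of_isInvertible Groth.Agent.Fdesc.LocGen.isInvertible_structureModule)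
      e := k0
      inj := (stalkUnit (genericPoint X)).symm.injective }
  | m + 1 => twist (Pw m) Λ hΛ

theorem Pw_M (m : ℕ) : (Pw Λ hΛ m).M = CohB1.tensorPow Λ.M m := by
  induction m with
  | zero => rfl
  | succ m ih =>
    change CohB1.tensorMod (Pw Λ hΛ m).M Λ.M = CohB1.tensorMod (CohB1.tensorPow Λ.M m) Λ.M
    rw [ih]

theorem isInvertible_Pw (m : ℕ) : PicF.IsInvertible (Pw Λ hΛ m).M := by
  rw [Pw_M]
  exact Groth.Agent.Fdesc.LocGen.isInvertible_tensorPow hΛ m

theorem latHom_k0 (y : X) (r : X.presheaf.stalk y) :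
    latHom (Coh.structureModule X) k0 y (stalkUnit y r) = algebraMap _ X.functionField r := by
  rw [stalkUnit_apply, map_smul, smul_K]
  have h : latHom (Coh.structureModule X) k0 y (stalkOne y) = 1 := by
    change k0 ((Coh.structureModule X).presheaf.stalkSpecializes (gen y) (stalkOne y)) = 1
    rw [spec_one, k0_one]
  rw [h, mul_one]

theorem mem_Pw_zero (y : X) (c : X.functionField) :
    c ∈ (Pw Λ hΛ 0).lat y ↔ ∃ r : X.presheaf.stalk y, c = algebraMap _ X.functionField r := by
  constructor
  · rintro ⟨m, rfl⟩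
    obtain ⟨r, rfl⟩ := (stalkUnit y).surjective m
    exact ⟨r, latHom_k0 y r⟩
  · rintro ⟨r, rfl⟩
    exact ⟨_, latHom_k0 y r⟩

theorem lat_Pw_succ (m : ℕ) (y : X) : (Pw Λ hΛ (m + 1)).lat y = Submodule.span (X.presheaf.stalk y)
    {v | ∃ v₁ ∈ (Pw Λ hΛ m).lat y, ∃ v₂ ∈ Λ.lat y, sm v₁ v₂ = v} := by
  have h : (Pw Λ hΛ (m + 1)).lat y = lat (CohB1.tensorMod (Pw Λ hΛ m).M Λ.M) (twE (Pw Λ hΛ m) Λ) y := rfl
  rw [h]
  unfold twE
  rw [lat_tensor]

theorem mul_mem_Pw {m : ℕ} {y : X} {a b : X.functionField} (ha : a ∈ (Pw Λ hΛ m).lat y) (hb : b ∈ Λ.lat y) :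
    b * a ∈ (Pw Λ hΛ (m + 1)).lat y := by
  rw [lat_Pw_succ]
  exact Submodule.subset_span ⟨a, ha, b, hb, rfl⟩

theorem Pw_succ_le {m : ℕ} {y : X} (W : Submodule (X.presheaf.stalk y) X.functionField)
    (h : ∀ a ∈ (Pw Λ hΛ m).lat y, ∀ b ∈ Λ.lat y, b * a ∈ W) : (Pw Λ hΛ (m + 1)).lat y ≤ W := by
  rw [lat_Pw_succ, Submodule.span_le]
  rintro _ ⟨a, ha, b, hb, rfl⟩
  exact h a ha b hb

end power

section subs

variable (y : X)

/-- Polynomials of degree at most `m` with a condition on the top coefficient. -/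
def tsub (Γ : Submodule (X.presheaf.stalk y) X.functionField) (m : ℕ) :
    Submodule (X.presheaf.stalk y) (Polynomial X.functionField) where
  carrier := {P | P.natDegree ≤ m ∧ P.coeff m ∈ Γ}
  add_mem' {a b} ha hb := ⟨Polynomial.natDegree_add_le_of_degree_le ha.1 hb.1, by
    rw [Polynomial.coeff_add]
    exact Γ.add_mem ha.2 hb.2⟩
  zero_mem' := ⟨by rw [Polynomial.natDegree_zero]; exact Nat.zero_le m, by
    rw [Polynomial.coeff_zero]
    exact Γ.zero_mem⟩
  smul_mem' r P hP := by
    rw [Set.mem_ofPred_eq, smul_C]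
    refine ⟨(Polynomial.natDegree_C_mul_le _ _).trans hP.1, ?_⟩
    rw [Polynomial.coeff_C_mul, ← smul_K]
    exact Γ.smul_mem r hP.2

/-- Polynomials with coefficients in the local ring. -/
def locSub (α β : X.functionField) (m : ℕ) : Submodule (X.presheaf.stalk y) (Polynomial X.functionField) where
  carrier := {P | ∃ Q : Polynomial (X.presheaf.stalk y), Q.natDegree ≤ m ∧
    P = (Q.map (algebraMap _ X.functionField)).comp (C α * Polynomial.X + C β)}
  add_mem' := by
    rintro _ _ ⟨Q, hQ, rfl⟩ ⟨Q', hQ', rfl⟩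
    exact ⟨Q + Q', Polynomial.natDegree_add_le_of_degree_le hQ hQ', by
      rw [Polynomial.map_add, Polynomial.add_comp]⟩
  zero_mem' := ⟨0, by rw [Polynomial.natDegree_zero]; exact Nat.zero_le m, by
    rw [Polynomial.map_zero, Polynomial.zero_comp]⟩
  smul_mem' := by
    rintro r _ ⟨Q, hQ, rfl⟩
    refine ⟨C r * Q, (Polynomial.natDegree_C_mul_le _ _).trans hQ, ?_⟩
    rw [smul_C, Polynomial.map_mul, Polynomial.mul_comp, Polynomial.map_C, Polynomial.C_comp]

end subs

end K94.Sym
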