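import Groth.Agent.ShStab.K94.Sym

/-!
# The lattices of the symmetric powers
-/

set_option autoImplicit false
set_option linter.unusedSectionVars false
universe u
open CategoryTheory CategoryTheory.Limits AlgebraicGeometry Opposite TopologicalSpace Module
open scoped TensorProduct

namespace K94.Sym

open Groth.Agent Groth.Agent.CycB.StalkExact Groth.Agent.VarietyB.ExactLoc
open Groth.Agent.Fdesc.Skyscraper Groth.Agent.CycB.CohStalk Groth.Agent.Sga67.CohBasic
open K848.TF K849.Cst K849.CstTor K849.DvrLat K848.Rank K849.CstDeg K94.Tens K94.Emb K94.Tw K94.Ext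
open Groth.Agent.Dcoh.FreeSec (stalkUnit stalkUnit_apply stalkOne one)
open Polynomial (C)

attribute [local instance 50] modAt

variable {X : Scheme.{u}} [IsIntegral X] [IsLocallyNoetherian X] {A : Lt X (Polynomial X.functionField)}
  {Λ : Lt X X.functionField} {x : X} (D : Dat x A Λ) (hΛ : PicF.IsInvertible Λ.M)

include D

theorem one_mem (y : X) : (1 : Polynomial X.functionField) ∈ A.lat y := by
  by_cases hy : y = x
  · subst hy
    exact D.one
  · obtain ⟨α, β, -, h, -⟩ := D.off y hy
    rw [h]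
    exact ⟨1, 0, by simp⟩

theorem natDegree_A {y : X} {P : Polynomial X.functionField} (hP : P ∈ A.lat y) : P.natDegree ≤ 1 := by
  by_cases hy : y = x
  · subst hy
    exact (D.deg P hP).1
  · obtain ⟨α, β, -, h, -⟩ := D.off y hy
    rw [h] at hP
    obtain ⟨r, s, rfl⟩ := hP
    compute_degree

theorem coeff_one_A {y : X} {P : Polynomial X.functionField} (hP : P ∈ A.lat y) : P.coeff 1 ∈ Λ.lat y := by
  by_cases hy : y = x
  · subst hy
    exact (D.deg P hP).2
  · obtain ⟨α, β, -, h, h'⟩ := D.off y hy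
    rw [h] at hP
    rw [h']
    obtain ⟨r, s, rfl⟩ := hP
    refine ⟨s, ?_⟩
    rw [Polynomial.coeff_add, Polynomial.coeff_C, Polynomial.coeff_C_mul, Polynomial.coeff_add,
      Polynomial.coeff_C_mul, Polynomial.coeff_X_one, Polynomial.coeff_C]
    simp

theorem S_mono (m : ℕ) (y : X) : (S A m).lat y ≤ (S A (m + 1)).lat y := fun P hP => by
  have h := mul_mem A (one_mem D y) hP
  rwa [one_mul] at h

theorem S_le_tsub (m : ℕ) (y : X) : (S A m).lat y ≤ tsub y ((Pw Λ hΛ m).lat y) m := by
  induction m with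
  | zero =>
    intro P hP
    rw [mem_S_zero] at hP
    obtain ⟨r, rfl⟩ := hP
    refine ⟨by rw [Polynomial.natDegree_C], ?_⟩
    rw [Polynomial.coeff_C_zero, mem_Pw_zero]
    exact ⟨r, rfl⟩
  | succ m ih =>
    refine S_succ_le A _ fun P hP Q hQ => ?_
    obtain ⟨h1, h2⟩ := ih hQ
    have h3 := natDegree_A D hP
    refine ⟨?_, ?_⟩
    · refine Polynomial.natDegree_mul_le.trans ?_
      omega
    · have h4 : (P * Q).coeff (m + 1) = P.coeff 1 * Q.coeff m := by
        rw [add_comm m 1]
        exact Polynomial.coeff_mul_add_eq_of_natDegree_le h3 h1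
      rw [h4]
      exact mul_mem_Pw Λ hΛ h2 (coeff_one_A D hP)

theorem natDegree_S {m : ℕ} {y : X} {P : Polynomial X.functionField} (hP : P ∈ (S A m).lat y) : P.natDegree ≤ m := by
  induction m generalizing P with
  | zero =>
    rw [mem_S_zero] at hP
    obtain ⟨r, rfl⟩ := hP
    rw [Polynomial.natDegree_C]
  | succ m ih =>
    have h : (S A (m + 1)).lat y ≤ tsub y ⊤ (m + 1) := by
      refine S_succ_le A _ fun P hP Q hQ => ⟨?_, trivial⟩
      have h1 := ih hQ
      have h3 := natDegree_A D hP
      refine Polynomial.natDegree_mul_le.trans ?_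
      omega
    exact (h hP).1

/-- the lattices off `x` -/
theorem S_off {y : X} {α β : X.functionField}
    (h : ∀ P, P ∈ A.lat y ↔ ∃ r s : X.presheaf.stalk y, P = Polynomial.C (algebraMap _ X.functionField r) +
      Polynomial.C (algebraMap _ X.functionField s) * (Polynomial.C α * Polynomial.X + Polynomial.C β)) (m : ℕ) :
    (S A m).lat y = locSub y α β m := by
  induction m with
  | zero =>
    ext P
    rw [mem_S_zero]
    constructor
    · rintro ⟨r, rfl⟩
      exact ⟨C r, by rw [Polynomial.natDegree_C], by rw [Polynomial.map_C, Polynomial.C_comp]⟩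
    · rintro ⟨Q, hQ, rfl⟩
      refine ⟨Q.coeff 0, ?_⟩
      rw [Polynomial.eq_C_of_natDegree_le_zero hQ, Polynomial.map_C, Polynomial.C_comp, Polynomial.coeff_C_zero]
  | succ m ih =>
    apply le_antisymm
    · refine S_succ_le A _ fun P hP Q hQ => ?_
      rw [h] at hP
      obtain ⟨r, s, rfl⟩ := hP
      rw [ih] at hQ
      obtain ⟨Q, hQ, rfl⟩ := hQ
      refine ⟨(C r + C s * Polynomial.X) * Q, ?_, ?_⟩
      · refine Polynomial.natDegree_mul_le.trans ?_
        have h1 : (C r + C s * Polynomial.X).natDegree ≤ 1 := by compute_degree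
        omega
      · rw [Polynomial.map_mul, Polynomial.mul_comp]
        congr 1
        simp
    · rintro _ ⟨Q, hQ, rfl⟩
      have h1 : Q = C (Q.coeff 0) + Polynomial.X * Q.divX := by
        have h2 := Polynomial.divX_mul_X_add Q
        rw [mul_comm, add_comm] at h2
        exact h2.symm
      have h3 : Q.divX.natDegree ≤ m := by
        rw [Polynomial.natDegree_divX_eq_natDegree_tsub_one]
        omega
      rw [h1, Polynomial.map_add, Polynomial.add_comp, Polynomial.map_mul, Polynomial.mul_comp, Polynomial.map_X,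
        Polynomial.X_comp, Polynomial.map_C, Polynomial.C_comp]
      refine Submodule.add_mem _ ?_ ?_
      · have h4 := mul_mem A (m := m) (y := y) (P := C (algebraMap _ X.functionField (Q.coeff 0))) (Q := 1)
          ((h _).2 ⟨Q.coeff 0, 0, by simp⟩) (by
            rw [ih]
            exact ⟨1, by rw [Polynomial.natDegree_one]; exact Nat.zero_le m, by simp⟩)
        rwa [mul_one] at h4
      · refine mul_mem A ((h _).2 ⟨0, 1, by simp⟩) ?_
        rw [ih]
        exact ⟨Q.divX, h3, rfl⟩

omit D in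
theorem loc_comp {y : X} {α β : X.functionField} (hα : α ≠ 0) (Q : Polynomial (X.presheaf.stalk y)) :
    K94.Delta.loc α β ((Q.map (algebraMap _ X.functionField)).comp (C α * Polynomial.X + C β)) =
      Q.map (algebraMap _ X.functionField) := by
  unfold K94.Delta.loc
  rw [Polynomial.comp_assoc]
  have : (C α * Polynomial.X + C β).comp (C α⁻¹ * (Polynomial.X - C β)) = Polynomial.X := by
    simp only [Polynomial.mul_comp, Polynomial.add_comp, Polynomial.C_comp, Polynomial.X_comp]
    rw [← mul_assoc, ← Polynomial.C_mul, mul_inv_cancel₀ hα, Polynomial.C_1, one_mul, sub_add_cancel]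
  rw [this, Polynomial.comp_X]

theorem S_off_pred {y : X} (hy : y ≠ x) {m : ℕ} {P : Polynomial X.functionField} (hP : P ∈ (S A (m + 1)).lat y)
    (h0 : P.coeff (m + 1) = 0) : P ∈ (S A m).lat y := by
  obtain ⟨α, β, hα, h, -⟩ := D.off y hy
  have h1 : P.natDegree ≤ m := by
    have h2 := natDegree_S D hP
    rcases h2.lt_or_eq with h3 | h3
    · omega
    · have h4 : P = 0 := by
        rw [← Polynomial.leadingCoeff_eq_zero, Polynomial.leadingCoeff, h3, h0]
      rw [h4, Polynomial.natDegree_zero]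
      exact Nat.zero_le m
  rw [S_off D h] at hP ⊢
  obtain ⟨Q, hQ, rfl⟩ := hP
  refine ⟨Q, ?_, rfl⟩
  have h5 := loc_comp (β := β) hα Q
  have h6 : (K94.Delta.loc α β ((Q.map (algebraMap _ X.functionField)).comp (C α * Polynomial.X + C β))).natDegree ≤ m := by
    unfold K94.Delta.loc
    rw [Polynomial.natDegree_comp]
    have h7 : (C α⁻¹ * (Polynomial.X - C β)).natDegree ≤ 1 := by compute_degree
    calc _ ≤ m * 1 := Nat.mul_le_mul h1 h7
      _ = m := mul_one m
  rw [h5, Polynomial.natDegree_map_eq_of_injective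
    (IsFractionRing.injective (X.presheaf.stalk y) X.functionField)] at h6
  exact h6

omit D [IsLocallyNoetherian X] in
/-- The coefficient. -/
theorem coeff_smul_at (y : X) (m : ℕ) (r : X.presheaf.stalk y) (P : Polynomial X.functionField) :
    (r • P).coeff m = r • P.coeff m := by
  rw [smul_C, smul_K, Polynomial.coeff_C_mul]

omit D in
variable (A) in
/-- The top coefficients. -/
def topc (y : X) (m : ℕ) : Submodule (X.presheaf.stalk y) X.functionField where
  carrier := {c | ∃ P ∈ (S A m).lat y, P.coeff m = c}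
  add_mem' := by
    rintro _ _ ⟨P, hP, rfl⟩ ⟨Q, hQ, rfl⟩
    exact ⟨P + Q, Submodule.add_mem _ hP hQ, Polynomial.coeff_add _ _ _⟩
  zero_mem' := ⟨0, Submodule.zero_mem _, Polynomial.coeff_zero _⟩
  smul_mem' := by
    rintro r _ ⟨P, hP, rfl⟩
    exact ⟨r • P, Submodule.smul_mem _ r hP, coeff_smul_at y m r P⟩

theorem big_pow {y : X} (I : Ideal (X.presheaf.stalk y))
    (hI : ∀ r ∈ I, ∀ c ∈ Λ.lat y, ∃ P ∈ A.lat y, P.coeff 1 = algebraMap _ X.functionField r * c) (m : ℕ) :
    ∀ r ∈ I ^ m, ∀ c ∈ (Pw Λ hΛ m).lat y, algebraMap _ X.functionField r * c ∈ topc A y m := by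
  induction m with
  | zero =>
    intro r _ c hc
    rw [mem_Pw_zero] at hc
    obtain ⟨s, rfl⟩ := hc
    refine ⟨C (algebraMap _ X.functionField (r * s)), (mem_S_zero A y _).2 ⟨_, rfl⟩, ?_⟩
    rw [Polynomial.coeff_C_zero, map_mul]
  | succ m ih =>
    intro r hr c hc
    rw [pow_succ] at hr
    induction hr using Submodule.mul_induction_on' with
    | mem_mul_mem r₁ h1 r₂ h2 =>
      rw [lat_Pw_succ] at hc
      induction hc using Submodule.span_induction with
      | mem c hc =>
        obtain ⟨a, ha, b, hb, rfl⟩ := hc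
        obtain ⟨Q, hQ, hQ'⟩ := ih r₁ h1 a ha
        obtain ⟨P, hP, hP'⟩ := hI r₂ h2 b hb
        refine ⟨P * Q, mul_mem A hP hQ, ?_⟩
        have h4 : (P * Q).coeff (m + 1) = P.coeff 1 * Q.coeff m := by
          rw [add_comm m 1]
          exact Polynomial.coeff_mul_add_eq_of_natDegree_le (natDegree_A D hP) (natDegree_S D hQ)
        rw [h4, hP', hQ', sm_apply, smul_eq_mul, map_mul]
        ring
      | zero => rw [mul_zero]; exact Submodule.zero_mem _
      | add a b _ _ ha hb => rw [mul_add]; exact Submodule.add_mem _ ha hb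
      | smul t a _ ha =>
        rw [smul_K, mul_left_comm, ← smul_K]
        exact Submodule.smul_mem _ t ha
    | add a _ b _ ha hb => rw [map_add, add_mul]; exact Submodule.add_mem _ ha hb

theorem topc_off {y : X} (hy : y ≠ x) (m : ℕ) : (Pw Λ hΛ m).lat y ≤ topc A y m := by
  intro c hc
  have h := big_pow D hΛ (⊤ : Ideal (X.presheaf.stalk y)) (fun r _ c hc => by
    obtain ⟨α, β, hα, h, h'⟩ := D.off y hy
    rw [h'] at hc
    obtain ⟨s, rfl⟩ := hc
    refine ⟨_, (h _).2 ⟨0, r * s, rfl⟩, ?_⟩
    rw [Polynomial.coeff_add, Polynomial.coeff_C, Polynomial.coeff_C_mul, Polynomial.coeff_add,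
      Polynomial.coeff_C_mul, Polynomial.coeff_X_one, Polynomial.coeff_C, map_mul]
    simp [mul_assoc]) m 1 (by rw [Ideal.top_pow]; trivial) c hc
  rwa [map_one, one_mul] at h

theorem topc_at (m : ℕ) : ∀ r ∈ (IsLocalRing.maximalIdeal (X.presheaf.stalk x)) ^ m, ∀ c ∈ (Pw Λ hΛ m).lat x,
    algebraMap _ X.functionField r * c ∈ topc A x m :=
  big_pow D hΛ _ D.big m

theorem topc_le (y : X) (m : ℕ) : topc A y m ≤ (Pw Λ hΛ m).lat y := by
  rintro _ ⟨P, hP, rfl⟩
  exact (S_le_tsub D hΛ m y hP).2

end K94.Sym
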