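import Groth.Agent.ShStab.K94.Sym2

/-!
# The filtration of the symmetric powers
-/

set_option autoImplicit false
set_option linter.unusedSectionVars false
universe u
open CategoryTheory CategoryTheory.Limits AlgebraicGeometry Opposite TopologicalSpace Module
open scoped TensorProduct

namespace K94.Sym

open Groth.Agent Groth.Agent.CycB.StalkExact Groth.Agent.VarietyB.ExactLoc
open Groth.Agent.Fdesc.Skyscraper Groth.Agent.CycB.CohStalk Groth.Agent.Sga67.CohBasic
open K848.TF K849.Cst K849.CstTor K849.DvrLat K848.Rank K849.CstDeg K94.Tens K94.Emb K94.Tw K94.Ext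
open Groth.Agent.Dcoh.FreeSec (stalkUnit stalkUnit_apply stalkOne one)
open Polynomial (C)

attribute [local instance 50] modAt

variable {X : Scheme.{u}} [IsIntegral X]

/-- The coefficient. -/
noncomputable def cf (m : ℕ) : Polynomial X.functionField →ₗ[X.presheaf.stalk (genericPoint X)] X.functionField where
  toFun P := P.coeff m
  map_add' P Q := Polynomial.coeff_add P Q m
  map_smul' _ P := Polynomial.coeff_smul _ P m

theorem cf_apply (m : ℕ) (P : Polynomial X.functionField) : cf m P = P.coeff m := rfl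

variable [IsLocallyNoetherian X] (A : Lt X (Polynomial X.functionField))

/-- The top coefficient of a symmetric power. -/
noncomputable def eT (m : ℕ) : (S A m).M.presheaf.stalk (genericPoint X) →ₗ[X.presheaf.stalk (genericPoint X)]
    X.functionField := (cf m).comp (S A m).e

theorem latHom_eT (m : ℕ) (y : X) (t : (S A m).M.presheaf.stalk y) :
    latHom (S A m).M (eT A m) y t = (latHom (S A m).M (S A m).e y t).coeff m := rfl

theorem lat_eT (m : ℕ) (y : X) : lat (S A m).M (eT A m) y = topc A y m := by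
  ext c
  constructor
  · rintro ⟨t, rfl⟩
    exact ⟨latHom _ _ y t, ⟨t, rfl⟩, (latHom_eT A m y t).symm⟩
  · rintro ⟨_, ⟨t, rfl⟩, rfl⟩
    exact ⟨t, latHom_eT A m y t⟩

variable {A} {Λ : Lt X X.functionField} {x : X} (D : Dat x A Λ) (hΛ : PicF.IsInvertible Λ.M)

include D in
theorem exists_inc (m : ℕ) : ∃ ι : (S A m).M ⟶ (S A (m + 1)).M,
    (S A (m + 1)).e.comp (stalkLin ι (genericPoint X)) = (S A m).e :=
  (S A (m + 1)).exists_map (S A m).e (S_mono D m)

include D in
theorem exists_u (m : ℕ) : ∃ u : (S A m).M ⟶ (Pw Λ hΛ m).M,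
    (Pw Λ hΛ m).e.comp (stalkLin u (genericPoint X)) = eT A m :=
  (Pw Λ hΛ m).exists_map (eT A m) fun y => by
    rw [lat_eT]
    exact topc_le D hΛ y m

/-- The inclusion of consecutive symmetric powers. -/
noncomputable def inc (m : ℕ) : (S A m).M ⟶ (S A (m + 1)).M := (exists_inc D m).choose

theorem inc_spec (m : ℕ) : (S A (m + 1)).e.comp (stalkLin (inc D m) (genericPoint X)) = (S A m).e :=
  (exists_inc D m).choose_spec

/-- The top coefficient. -/
noncomputable def topm (m : ℕ) : (S A m).M ⟶ (Pw Λ hΛ m).M := (exists_u D hΛ m).choose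

theorem topm_spec (m : ℕ) : (Pw Λ hΛ m).e.comp (stalkLin (topm D hΛ m) (genericPoint X)) = eT A m :=
  (exists_u D hΛ m).choose_spec

instance mono_inc (m : ℕ) : Mono (inc D m) :=
  mono_of_stalk _ fun y => stalk_injective (inc_spec D m) ((S A m).latHom_injective y)

theorem inc_topm (m : ℕ) : inc D m ≫ topm D hΛ (m + 1) = 0 := by
  refine eq_zero_of_generic (Pw Λ hΛ (m + 1)).coh.1 (Pw Λ hΛ (m + 1)).tf _ ?_
  ext t
  apply (Pw Λ hΛ (m + 1)).inj
  rw [stalkLin_comp, LinearMap.comp_apply]
  have h1 : (Pw Λ hΛ (m + 1)).e (stalkLin (topm D hΛ (m + 1)) (genericPoint X) (stalkLin (inc D m) (genericPoint X) t)) =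
      eT A (m + 1) (stalkLin (inc D m) (genericPoint X) t) :=
    congrArg (fun f => f (stalkLin (inc D m) (genericPoint X) t)) (topm_spec D hΛ (m + 1))
  have h2 : (S A (m + 1)).e (stalkLin (inc D m) (genericPoint X) t) = (S A m).e t :=
    congrArg (fun f => f t) (inc_spec D m)
  rw [h1]
  have h3 : eT A (m + 1) (stalkLin (inc D m) (genericPoint X) t) = ((S A m).e t).coeff (m + 1) := by
    rw [← h2]
    rfl
  have h4 : (S A m).e t ∈ (S A m).lat (genericPoint X) := by
    refine ⟨t, ?_⟩
    have h : (S A m).M.presheaf.stalkSpecializes (gen (genericPoint X)) t = t := by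
      obtain ⟨U, hU, s, rfl⟩ := (S A m).M.presheaf.exists_germ_eq t
      exact germ_spec _ _ hU s
    change (S A m).e ((S A m).M.presheaf.stalkSpecializes (gen (genericPoint X)) t) = _
    rw [h]
  rw [h3, Polynomial.coeff_eq_zero_of_natDegree_lt (lt_of_le_of_lt (natDegree_S D h4) (Nat.lt_succ_self m)),
    LinearMap.zero_apply, map_zero]

/-- The graded piece to the power. -/
noncomputable def qm (m : ℕ) : cokernel (inc D m) ⟶ (Pw Λ hΛ (m + 1)).M :=
  cokernel.desc _ (topm D hΛ (m + 1)) (inc_topm D hΛ m)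

theorem qm_π (m : ℕ) (y : X) (t : (S A (m + 1)).M.presheaf.stalk y) :
    stalkLin (qm D hΛ m) y (stalkLin (cokernel.π (inc D m)) y t) = stalkLin (topm D hΛ (m + 1)) y t := by
  rw [← LinearMap.comp_apply, ← stalkLin_comp, qm, cokernel.π_desc]

theorem topm_surjective {y : X} (hy : y ≠ x) (m : ℕ) : Function.Surjective (stalkLin (topm D hΛ m) y) := by
  refine stalk_surjective (topm_spec D hΛ m) (Pw Λ hΛ m).coh.1 (Pw Λ hΛ m).tf (Pw Λ hΛ m).inj ?_
  rw [lat_eT]
  exact topc_off D hΛ hy m

theorem qm_bijective {y : X} (hy : y ≠ x) (m : ℕ) : Function.Bijective (stalkLin (qm D hΛ m) y) := by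
  constructor
  · rw [injective_iff_map_eq_zero]
    intro z hz
    obtain ⟨t, rfl⟩ := stalkLin_surjective (cokernel.π (inc D m)) y z
    rw [qm_π] at hz
    have h1 := latHom_stalk (topm_spec D hΛ (m + 1)) y t
    rw [hz, map_zero, latHom_eT] at h1
    have h2 := S_off_pred D hy (P := latHom (S A (m + 1)).M (S A (m + 1)).e y t) ⟨t, rfl⟩ h1.symm
    obtain ⟨t', ht'⟩ := h2
    have h3 : t = stalkLin (inc D m) y t' := by
      apply (S A (m + 1)).latHom_injective y
      rw [latHom_stalk (inc_spec D m), ht']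
    rw [h3, ← LinearMap.comp_apply, ← stalkLin_comp, cokernel.condition]
    obtain ⟨U, hU, s, rfl⟩ := (S A m).M.presheaf.exists_germ_eq t'
    rw [stalkLin_germ]
    exact map_zero _
  · intro n
    obtain ⟨t, ht⟩ := topm_surjective D hΛ hy (m + 1) n
    exact ⟨_, (qm_π D hΛ m y t).trans ht⟩

theorem topm_zero_bijective (y : X) : Function.Bijective (stalkLin (topm D hΛ 0) y) := by
  constructor
  · refine stalk_injective (topm_spec D hΛ 0) fun t t' h => ?_
    rw [latHom_eT, latHom_eT] at h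
    apply (S A 0).latHom_injective y
    have h1 := natDegree_S D (m := 0) (P := latHom (S A 0).M (S A 0).e y t) ⟨t, rfl⟩
    have h2 := natDegree_S D (m := 0) (P := latHom (S A 0).M (S A 0).e y t') ⟨t', rfl⟩
    rw [Polynomial.eq_C_of_natDegree_le_zero h1, Polynomial.eq_C_of_natDegree_le_zero h2, h]
  · refine stalk_surjective (topm_spec D hΛ 0) (Pw Λ hΛ 0).coh.1 (Pw Λ hΛ 0).tf (Pw Λ hΛ 0).inj ?_
    rw [lat_eT]
    intro c hc
    rw [mem_Pw_zero] at hc
    obtain ⟨r, rfl⟩ := hc
    exact ⟨C (algebraMap _ X.functionField r), (mem_S_zero A y _).2 ⟨r, rfl⟩, Polynomial.coeff_C_zero⟩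

/-- the cokernel at `x` -/
theorem length_coker_qm (m : ℕ) : Module.length (X.presheaf.stalk x) ((cokernel (qm D hΛ m)).presheaf.stalk x) ≤
    Module.length (X.presheaf.stalk x)
      (X.presheaf.stalk x ⧸ IsLocalRing.maximalIdeal (X.presheaf.stalk x) ^ (m + 1)) := by
  obtain ⟨ε⟩ := exists_eps (isInvertible_Pw Λ hΛ (m + 1)) x
  let p : X.presheaf.stalk x →ₗ[X.presheaf.stalk x] (cokernel (qm D hΛ m)).presheaf.stalk x :=
    (stalkLin (cokernel.π (qm D hΛ m)) x).comp ε.symm.toLinearMap
  have hp : Function.Surjective p := (stalkLin_surjective (cokernel.π (qm D hΛ m)) x).comp ε.symm.surjective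
  have hk : IsLocalRing.maximalIdeal (X.presheaf.stalk x) ^ (m + 1) ≤ LinearMap.ker p := by
    intro r hr
    have h1 := topc_at D hΛ (m + 1) r hr (latHom _ _ x (ε.symm 1)) ⟨_, rfl⟩
    rw [← lat_eT] at h1
    obtain ⟨t, ht⟩ := h1
    have h2 : stalkLin (topm D hΛ (m + 1)) x t = ε.symm r := by
      apply (Pw Λ hΛ (m + 1)).latHom_injective x
      rw [latHom_stalk (topm_spec D hΛ (m + 1)), ht, ← smul_K, ← map_smul, ← map_smul, smul_eq_mul, mul_one]
    rw [LinearMap.mem_ker]
    change stalkLin (cokernel.π (qm D hΛ m)) x (ε.symm r) = 0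
    rw [← h2, ← qm_π, ← LinearMap.comp_apply, ← stalkLin_comp, cokernel.condition]
    generalize stalkLin (cokernel.π (inc D m)) x t = z
    obtain ⟨U, hU, s, rfl⟩ := (cokernel (inc D m)).presheaf.exists_germ_eq z
    rw [stalkLin_germ]
    exact map_zero _
  let p' := Submodule.liftQ _ p hk
  refine Module.length_le_of_surjective p' ?_
  intro z
  obtain ⟨r, hr⟩ := hp z
  exact ⟨Submodule.Quotient.mk r, by rw [Submodule.liftQ_apply, hr]⟩

end K94.Sym
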