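import Groth.Agent.ShStab.K849.CstAlpha
import Groth.Agent.Dcoh.ClosedProj

/-!
# Lattices of tensor products
-/

set_option autoImplicit false
universe u
open CategoryTheory CategoryTheory.Limits AlgebraicGeometry Opposite TopologicalSpace Module
open scoped TensorProduct

namespace K94.Tens

open Groth.Agent Groth.Agent.CycB.StalkExact Groth.Agent.VarietyB.ExactLoc
open Groth.Agent.Fdesc.Skyscraper Groth.Agent.CycB.CohStalk Groth.Agent.Sga67.CohBasic
open Groth.Agent.Fdesc.AssFlat Groth.Agent.Ega2.Tens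
open K848.TF K849.Cst K849.CstTor K849.DvrLat K848.Rank K849.CstDeg

attribute [local instance 50] modAt

variable {X : Scheme.{u}}

/-- Pure tensors in a stalk. -/
noncomputable def tst {M N : X.Modules} {y : X} (m : M.presheaf.stalk y) (n : N.presheaf.stalk y) :
    (CohB1.tensorMod M N).presheaf.stalk y :=
  (tensorModStalk M N y).symm (m ⊗ₜ[X.presheaf.stalk y] n)

theorem tst_germ {M N : X.Modules} {y : X} {U : X.Opens} (hy : y ∈ U) (m : Γ(M, U)) (n : Γ(N, U)) :
    tst (M.presheaf.germ U y hy m) (N.presheaf.germ U y hy n) =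
      (CohB1.tensorMod M N).presheaf.germ U y hy (tmul m n) := by
  unfold tst
  rw [LinearEquiv.symm_apply_eq, Dcoh.ClosedProj.tensorModStalk_germ]

theorem exists_common_germ {M N : X.Modules} {y : X} (m : M.presheaf.stalk y) (n : N.presheaf.stalk y) :
    ∃ (U : X.Opens) (hy : y ∈ U) (m' : Γ(M, U)) (n' : Γ(N, U)), m = M.presheaf.germ U y hy m' ∧
      n = N.presheaf.germ U y hy n' := by
  obtain ⟨U, hU, m', rfl⟩ := M.presheaf.exists_germ_eq m
  obtain ⟨V, hV, n', rfl⟩ := N.presheaf.exists_germ_eq n
  have hUV : y ∈ U ⊓ V := ⟨hU, hV⟩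
  exact ⟨U ⊓ V, hUV, M.presheaf.map (homOfLE inf_le_left).op m', N.presheaf.map (homOfLE inf_le_right).op n',
    (TopCat.Presheaf.germ_res_apply M.presheaf _ y hUV m').symm,
    (TopCat.Presheaf.germ_res_apply N.presheaf _ y hUV n').symm⟩

theorem spec_tst {M N : X.Modules} {x y : X} (h : x ⤳ y) (m : M.presheaf.stalk y) (n : N.presheaf.stalk y) :
    (CohB1.tensorMod M N).presheaf.stalkSpecializes h (tst m n) =
      tst (M.presheaf.stalkSpecializes h m) (N.presheaf.stalkSpecializes h n) := by
  obtain ⟨U, hy, m, n, rfl, rfl⟩ := exists_common_germ m n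
  rw [tst_germ, germ_spec, germ_spec, germ_spec, tst_germ]

theorem tst_induction {M N : X.Modules} {y : X} {p : (CohB1.tensorMod M N).presheaf.stalk y → Prop} (h0 : p 0)
    (ht : ∀ m n, p (tst m n)) (ha : ∀ a b, p a → p b → p (a + b)) (z : (CohB1.tensorMod M N).presheaf.stalk y) :
    p z := by
  obtain ⟨w, rfl⟩ := (tensorModStalk M N y).symm.surjective z
  induction w using TensorProduct.induction_on with
  | zero => rw [map_zero]; exact h0
  | tmul m n => exact ht m n
  | add a b iha ihb => rw [map_add]; exact ha _ _ iha ihb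

variable [IsIntegral X]

section tmap

variable {V₁ V₂ V : Type u} [AddCommGroup V₁] [Module (X.presheaf.stalk (genericPoint X)) V₁]
  [AddCommGroup V₂] [Module (X.presheaf.stalk (genericPoint X)) V₂]
  [AddCommGroup V] [Module (X.presheaf.stalk (genericPoint X)) V]
  (B : V₁ →ₗ[X.presheaf.stalk (genericPoint X)] V₂ →ₗ[X.presheaf.stalk (genericPoint X)] V)
  {M N : X.Modules}
  (e₁ : M.presheaf.stalk (genericPoint X) →ₗ[X.presheaf.stalk (genericPoint X)] V₁)
  (e₂ : N.presheaf.stalk (genericPoint X) →ₗ[X.presheaf.stalk (genericPoint X)] V₂)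

/-- The generic map attached to a bilinear map. -/
noncomputable def tmap : (CohB1.tensorMod M N).presheaf.stalk (genericPoint X)
    →ₗ[X.presheaf.stalk (genericPoint X)] V :=
  (TensorProduct.lift (B.compl₁₂ e₁ e₂)).comp (tensorModStalk M N (genericPoint X)).toLinearMap

theorem tmap_tst (m : M.presheaf.stalk (genericPoint X)) (n : N.presheaf.stalk (genericPoint X)) :
    tmap B e₁ e₂ (tst m n) = B (e₁ m) (e₂ n) := by
  unfold tmap tst
  rw [LinearMap.comp_apply, LinearEquiv.coe_coe, LinearEquiv.apply_symm_apply, TensorProduct.lift.tmul]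
  rfl

theorem latHom_tst (y : X) (m : M.presheaf.stalk y) (n : N.presheaf.stalk y) :
    latHom (CohB1.tensorMod M N) (tmap B e₁ e₂) y (tst m n) = B (latHom M e₁ y m) (latHom N e₂ y n) := by
  change tmap B e₁ e₂ ((CohB1.tensorMod M N).presheaf.stalkSpecializes (gen y) (tst m n)) = _
  rw [spec_tst, tmap_tst]
  rfl

/-- **The lattices of a tensor product.** -/
theorem lat_tensor (y : X) : lat (CohB1.tensorMod M N) (tmap B e₁ e₂) y =
    Submodule.span (X.presheaf.stalk y) {v | ∃ v₁ ∈ lat M e₁ y, ∃ v₂ ∈ lat N e₂ y, B v₁ v₂ = v} := by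
  apply le_antisymm
  · rintro _ ⟨z, rfl⟩
    induction z using tst_induction with
    | h0 => rw [map_zero]; exact Submodule.zero_mem _
    | ht m n =>
      rw [latHom_tst]
      exact Submodule.subset_span ⟨_, ⟨m, rfl⟩, _, ⟨n, rfl⟩, rfl⟩
    | ha a b iha ihb => rw [map_add]; exact Submodule.add_mem _ iha ihb
  · rw [Submodule.span_le]
    rintro _ ⟨_, ⟨m, rfl⟩, _, ⟨n, rfl⟩, rfl⟩
    exact ⟨tst m n, latHom_tst B e₁ e₂ y m n⟩

end tmap

section inj

variable {V : Type u} [AddCommGroup V] [Module (X.presheaf.stalk (genericPoint X)) V] {M N : X.Modules}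
  (e₁ : M.presheaf.stalk (genericPoint X) →ₗ[X.presheaf.stalk (genericPoint X)] V)
  (e₂ : N.presheaf.stalk (genericPoint X) →ₗ[X.presheaf.stalk (genericPoint X)] X.functionField)

/-- Scalar multiplication as a bilinear map. -/
noncomputable def sm : V →ₗ[X.presheaf.stalk (genericPoint X)] X.functionField →ₗ[X.presheaf.stalk (genericPoint X)] V :=
  (LinearMap.lsmul X.functionField V : X.functionField →ₗ[X.functionField] V →ₗ[X.functionField] V).flip

theorem sm_apply (v : V) (c : X.functionField) : sm v c = c • v := rfl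

theorem tmap_sm_injective (h₁ : Function.Injective e₁) (h₂ : Function.Bijective e₂) :
    Function.Injective (tmap sm e₁ e₂) := by
  let E₂ : N.presheaf.stalk (genericPoint X) ≃ₗ[X.presheaf.stalk (genericPoint X)] X.presheaf.stalk (genericPoint X) :=
    LinearEquiv.ofBijective (e₂ : _ →ₗ[X.presheaf.stalk (genericPoint X)] X.presheaf.stalk (genericPoint X)) h₂
  have h : tmap sm e₁ e₂ = e₁.comp ((TensorProduct.rid (X.presheaf.stalk (genericPoint X)) _).toLinearMap.comp
      ((LinearMap.lTensor _ E₂.toLinearMap).comp (tensorModStalk M N (genericPoint X)).toLinearMap)) := by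
    ext z
    induction z using tst_induction with
    | h0 => rw [map_zero, map_zero]
    | ht m n =>
      rw [tmap_tst]
      unfold tst
      simp only [LinearMap.comp_apply, LinearEquiv.coe_coe, LinearEquiv.apply_symm_apply, LinearMap.lTensor_tmul,
        TensorProduct.rid_tmul, map_smul]
      rfl
    | ha a b iha ihb => rw [map_add, map_add, iha, ihb]
  rw [h]
  rw [LinearMap.coe_comp, LinearMap.coe_comp, LinearMap.coe_comp]
  exact h₁.comp ((TensorProduct.rid _ _).injective.comp ((LinearEquiv.lTensor _ E₂).injective.comp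
    (tensorModStalk M N (genericPoint X)).injective))

theorem tmap_sm_surjective (h₁ : Function.Surjective e₁) (h₂ : Function.Surjective e₂) :
    Function.Surjective (tmap sm e₁ e₂) := by
  intro v
  obtain ⟨m, hm⟩ := h₁ v
  obtain ⟨n, hn⟩ := h₂ 1
  refine ⟨tst m n, ?_⟩
  rw [tmap_tst, hm, hn, sm_apply, one_smul]

end inj

end K94.Tens
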