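import Groth.Agent.ShStab.K94.Emb
import Groth.Agent.CohqB.SerTw
import Groth.Agent.CycB.ModStalk
import Groth.Agent.ShStab.K848.Stab

/-!
# Twists of embedded modules
-/

set_option autoImplicit false
universe u
open CategoryTheory CategoryTheory.Limits AlgebraicGeometry Opposite TopologicalSpace Module
open scoped TensorProduct

namespace K94.Tw

open Groth.Agent Groth.Agent.CycB.StalkExact Groth.Agent.VarietyB.ExactLoc
open Groth.Agent.Fdesc.Skyscraper Groth.Agent.CycB.CohStalk Groth.Agent.Sga67.CohBasic
open K848.TF K849.Cst K849.CstTor K849.DvrLat K848.Rank K849.CstDeg K94.Tens K94.Emb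
open Groth.Agent.CohqB.SerTw (tw tw_map_tmul mulSec mulSec_app)
open Groth.Agent.Fdesc.AssFlat (tensorModStalk)

attribute [local instance 50] modAt

variable {X : Scheme.{u}}

/-- The twist of a map. -/
noncomputable def mt {F G : X.Modules} (φ : F ⟶ G) (N : X.Modules) :
    CohB1.tensorMod F N ⟶ CohB1.tensorMod G N := (tw N).map φ

theorem mt_tmul {F G : X.Modules} (φ : F ⟶ G) (N : X.Modules) {U : X.Opens} (t : Γ(F, U)) (n : Γ(N, U)) :
    (mt φ N).app U (Ega2.Tens.tmul t n) = Ega2.Tens.tmul (φ.app U t) n := tw_map_tmul φ t n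

theorem stalkLin_tw {F G : X.Modules} (φ : F ⟶ G) (N : X.Modules) (y : X) (m : F.presheaf.stalk y)
    (n : N.presheaf.stalk y) : stalkLin (mt φ N) y (tst m n) = tst (stalkLin φ y m) n := by
  obtain ⟨U, hy, m, n, rfl, rfl⟩ := exists_common_germ m n
  rw [tst_germ, stalkLin_germ, stalkLin_germ, mt_tmul, tst_germ]

theorem stalkLin_mulSec {N : X.Modules} (s : Γ(N, ⊤)) (F : X.Modules) (y : X) (m : F.presheaf.stalk y) :
    stalkLin (mulSec s F) y m = tst m (N.presheaf.germ ⊤ y trivial s) := by
  obtain ⟨U, hy, m, rfl⟩ := F.presheaf.exists_germ_eq m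
  rw [stalkLin_germ, mulSec_app]
  have h := TopCat.Presheaf.germ_res_apply N.presheaf (homOfLE (le_top : U ≤ ⊤)) y hy s
  rw [← h, tst_germ]
  rfl

/-- The stalk of a twist. -/
noncomputable def twEquiv (F : X.Modules) {N : X.Modules} {y : X}
    (ε : N.presheaf.stalk y ≃ₗ[X.presheaf.stalk y] X.presheaf.stalk y) :
    (CohB1.tensorMod F N).presheaf.stalk y ≃ₗ[X.presheaf.stalk y] F.presheaf.stalk y :=
  (tensorModStalk F N y).trans ((LinearEquiv.lTensor _ ε).trans (TensorProduct.rid _ _))

theorem twEquiv_tst (F : X.Modules) {N : X.Modules} {y : X}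
    (ε : N.presheaf.stalk y ≃ₗ[X.presheaf.stalk y] X.presheaf.stalk y) (m : F.presheaf.stalk y)
    (n : N.presheaf.stalk y) : twEquiv F ε (tst m n) = ε n • m := by
  unfold twEquiv tst
  rw [LinearEquiv.trans_apply, LinearEquiv.trans_apply, LinearEquiv.apply_symm_apply, LinearEquiv.lTensor_tmul,
    TensorProduct.rid_tmul]

theorem twEquiv_stalkLin {F G N : X.Modules} {y : X}
    (ε : N.presheaf.stalk y ≃ₗ[X.presheaf.stalk y] X.presheaf.stalk y) (φ : F ⟶ G)
    (z : (CohB1.tensorMod F N).presheaf.stalk y) :
    twEquiv G ε (stalkLin (mt φ N) y z) = stalkLin φ y (twEquiv F ε z) := by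
  induction z using tst_induction with
  | h0 => simp only [map_zero]
  | ht m n =>
    have h := stalkLin_tw φ N y m n
    rw [twEquiv_tst, map_smul, ← twEquiv_tst (F := G), ← h]
  | ha a b iha ihb => rw [map_add, map_add, iha, ihb, map_add, map_add]

theorem exists_eps {N : X.Modules} (hN : PicF.IsInvertible N) (y : X) :
    Nonempty (N.presheaf.stalk y ≃ₗ[X.presheaf.stalk y] X.presheaf.stalk y) := by
  obtain ⟨t, ht⟩ := CycB.ModStalk.exists_isGen hN y
  exact ⟨(LinearEquiv.ofBijective (LinearMap.toSpanSingleton _ _ t) ht).symm⟩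

theorem isCoh_tw {F N : X.Modules} (hF : Coh.IsCoh F) (hN : PicF.IsInvertible N) :
    Coh.IsCoh (CohB1.tensorMod F N) := Groth.Agent.CohqB.SerTw.isCoh_tensorMod hF hN

theorem support_tw (F : X.Modules) {N : X.Modules} (hN : PicF.IsInvertible N) :
    CohB1.support (CohB1.tensorMod F N) = CohB1.support F := by
  ext y
  obtain ⟨ε⟩ := exists_eps hN y
  have h : Subsingleton ((CohB1.tensorMod F N).presheaf.stalk y) ↔ Subsingleton (F.presheaf.stalk y) :=
    (twEquiv F ε).toEquiv.subsingleton_congr
  exact not_congr h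

theorem len_tw (F : X.Modules) {N : X.Modules} (hN : PicF.IsInvertible N) (y : X) :
    Module.length (X.presheaf.stalk y) ((CohB1.tensorMod F N).presheaf.stalk y) =
      Module.length (X.presheaf.stalk y) (F.presheaf.stalk y) := by
  obtain ⟨ε⟩ := exists_eps hN y
  exact (twEquiv F ε).length_eq

theorem isTorsionFree_tw {F N : X.Modules} (hF : TorSh.IsTorsionFree F) (hN : PicF.IsInvertible N) :
    TorSh.IsTorsionFree (CohB1.tensorMod F N) := by
  intro y
  obtain ⟨ε⟩ := exists_eps hN y
  have := hF y
  exact (twEquiv F ε).injective.moduleIsTorsionFree (twEquiv F ε) (fun a m => map_smul _ a m)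

variable [IsIntegral X]

/-- Maps to the function field. -/
noncomputable def toK {N : X.Modules}
    (ε : N.presheaf.stalk (genericPoint X) ≃ₗ[X.presheaf.stalk (genericPoint X)] X.presheaf.stalk (genericPoint X)) :
    N.presheaf.stalk (genericPoint X) →ₗ[X.presheaf.stalk (genericPoint X)] X.functionField where
  toFun m := ε m
  map_add' a b := map_add ε a b
  map_smul' r a := map_smul ε r a

theorem bijective_of_isInvertible {N : X.Modules} (hN : PicF.IsInvertible N)
    {e : N.presheaf.stalk (genericPoint X) →ₗ[X.presheaf.stalk (genericPoint X)] X.functionField}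
    (h : Function.Injective e) : Function.Bijective e := by
  refine ⟨h, ?_⟩
  obtain ⟨ε⟩ := exists_eps hN (genericPoint X)
  have h0 : e (ε.symm 1) ≠ 0 := by
    intro h1
    have h2 : ε.symm 1 = 0 := h (by rw [h1, map_zero])
    rw [LinearEquiv.map_eq_zero_iff] at h2
    exact one_ne_zero h2
  intro a
  refine ⟨(show X.presheaf.stalk (genericPoint X) from a * (e (ε.symm 1))⁻¹) • ε.symm 1, ?_⟩
  rw [map_smul]
  exact (mul_assoc a _ _).trans (by rw [inv_mul_cancel₀ h0, mul_one])

section twist

variable {V : Type u} [AddCommGroup V] [Module (X.presheaf.stalk (genericPoint X)) V]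
    (A : Lt X V) (N : Lt X X.functionField)

/-- The embedding of a twist. -/
noncomputable def twE : (CohB1.tensorMod A.M N.M).presheaf.stalk (genericPoint X)
    →ₗ[X.presheaf.stalk (genericPoint X)] V := tmap sm A.e N.e

theorem twE_injective (hN : PicF.IsInvertible N.M) : Function.Injective (twE A N) :=
  tmap_sm_injective A.e N.e A.inj (bijective_of_isInvertible hN N.inj)

/-- The twist of an embedded module by an invertible module embedded in the function field. -/
noncomputable def twist (hN : PicF.IsInvertible N.M) : Lt X V where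
  M := CohB1.tensorMod A.M N.M
  coh := isCoh_tw A.coh hN
  tf := isTorsionFree_tw A.tf hN
  e := twE A N
  inj := twE_injective A N hN

theorem latHom_twE (y : X) (m : A.M.presheaf.stalk y) (n : N.M.presheaf.stalk y) :
    latHom (CohB1.tensorMod A.M N.M) (twE A N) y (tst m n) = latHom N.M N.e y n • latHom A.M A.e y m := by
  unfold twE
  rw [latHom_tst]
  exact sm_apply _ _

end twist

/-- Every invertible module embeds in the function field. -/
theorem exists_lt {N : X.Modules} (hN : PicF.IsInvertible N) : ∃ A : Lt X X.functionField, A.M = N := by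
  obtain ⟨ε⟩ := exists_eps hN (genericPoint X)
  exact ⟨{ M := N
           coh := isCoh_of_isInvertible hN
           tf := K848.Stab.isTorsionFree_of_isFinLocFree (isFinLocFree_of_isInvertible hN)
           e := toK ε
           inj := ε.injective }, rfl⟩

end K94.Tw
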