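import Groth.Agent.ShStab.K94.Deg4
import Groth.Agent.ShStab.K94.Form

/-!
# Vanishing of sections and of homomorphisms
-/

set_option autoImplicit false
set_option linter.unusedSectionVars false
set_option linter.overlappingInstances false
universe u
open CategoryTheory CategoryTheory.Limits AlgebraicGeometry Opposite TopologicalSpace Module
open scoped TensorProduct

namespace K94.Van

open Groth.Agent Groth.Agent.CycB.StalkExact Groth.Agent.VarietyB.ExactLoc
open Groth.Agent.Fdesc.Skyscraper Groth.Agent.CycB.CohStalk Groth.Agent.Sga67.CohBasic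
open K848.TF K849.Cst K849.CstTor K849.DvrLat K848.Rank K849.CstDeg K94.Tens K94.Emb K94.Tw K94.Ext K94.Sym
open K848.HB K848.Stab K848.Poly K848.Hull StabCat ShStab
open K94.Deg K94.Gauss K94.Delta K94.Deg2 K94.Deg3 K94.Deg4
open Polynomial (C)

attribute [local instance 50] modAt

variable {X : Scheme.{u}} [IsIntegral X] {A : Lt X (Polynomial X.functionField)} {Λ : Lt X X.functionField} {x : X}

section gens

variable [IsNoetherian X] [RegOne X] {α β : C1 X → X.functionField} (Hl : Loc A Λ α β) (D : Dat x A Λ) (m : ℕ)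
  {B : Lt X X.functionField} {μ : C1 X → X.functionField} (hB : Gens B μ)

include D in
theorem natDegree_tw (y : X) {P : Polynomial X.functionField}
    (hP : P ∈ lat (CohB1.tensorMod (S A m).M B.M) (twE (S A m) B) y) : P.natDegree ≤ m := by
  unfold twE at hP
  rw [lat_tensor] at hP
  have h : Submodule.span (X.presheaf.stalk y) {v | ∃ v₁ ∈ (S A m).lat y, ∃ v₂ ∈ B.lat y, sm v₁ v₂ = v} ≤
      tsub y ⊤ m := by
    rw [Submodule.span_le]
    rintro _ ⟨v₁, h1, v₂, -, rfl⟩
    refine ⟨?_, trivial⟩
    rw [sm_apply, Polynomial.smul_eq_C_mul]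
    exact (Polynomial.natDegree_C_mul_le _ _).trans (natDegree_S D h1)
  exact (h hP).1

include hB in
theorem mem_tw (y : C1 X) (P : Polynomial X.functionField) :
    P ∈ lat (CohB1.tensorMod (S A m).M B.M) (twE (S A m) B) y.1 ↔ ∃ Q ∈ (S A m).lat y.1, P = C (μ y) * Q := by
  unfold twE
  rw [lat_tensor]
  constructor
  · intro h
    induction h using Submodule.span_induction with
    | mem v hv =>
      obtain ⟨v₁, h1, v₂, h2, rfl⟩ := hv
      rw [hB.mem] at h2
      obtain ⟨s, rfl⟩ := h2
      refine ⟨s • v₁, Submodule.smul_mem _ s h1, ?_⟩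
      rw [sm_apply, Polynomial.smul_eq_C_mul, smul_C, Polynomial.C_mul]
      ring
    | zero => exact ⟨0, Submodule.zero_mem _, (mul_zero _).symm⟩
    | add a b _ _ ha hb =>
      obtain ⟨Q, hQ, rfl⟩ := ha
      obtain ⟨Q', hQ', rfl⟩ := hb
      exact ⟨Q + Q', Submodule.add_mem _ hQ hQ', (mul_add _ _ _).symm⟩
    | smul t a _ ha =>
      obtain ⟨Q, hQ, rfl⟩ := ha
      refine ⟨t • Q, Submodule.smul_mem _ t hQ, ?_⟩
      rw [smul_C, smul_C]
      ring
  · rintro ⟨Q, hQ, rfl⟩
    refine Submodule.subset_span ⟨Q, hQ, μ y, (hB.mem y _).2 ⟨1, by rw [map_one, one_mul]⟩, ?_⟩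
    rw [sm_apply, Polynomial.smul_eq_C_mul]

include hB Hl D in
theorem le_cont_tw (y : C1 X) {P : Polynomial X.functionField} (hP0 : P ≠ 0)
    (hP : P ∈ lat (CohB1.tensorMod (S A m).M B.M) (twE (S A m) B) y.1) :
    ordK (X.presheaf.stalk y.1) (μ y) ≤ cont (X.presheaf.stalk y.1) (loc (α y) (β y) P) := by
  rw [mem_tw m hB] at hP
  obtain ⟨Q, hQ, rfl⟩ := hP
  have hQ0 : Q ≠ 0 := right_ne_zero_of_mul hP0
  have h1 := natDegree_S D hQ
  rw [lat_S Hl D, mem_locSub y (Hl.gen.ne y) hQ0 h1] at hQ
  rw [loc_mul, loc_C, cont_C_mul (hB.ne y) (loc_ne_zero (Hl.gen.ne y) _ hQ0)]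
  omega

end gens

section van

variable (k : Type u) [Field k] [X.Over (Spec (CommRingCat.of k))] [IsProper (X ↘ Spec (CommRingCat.of k))]
  [IsNoetherian X] [RegOne X] [CharZero X.functionField] {H : X.Modules} (hH : CohB1.IsAmple H)
  (hdim : topologicalKrullDim X = (2 : ℕ))
  {α β : C1 X → X.functionField} (Hl : Loc A Λ α β) (hΛ : PicF.IsInvertible Λ.M)
  (hE : ph k H A.M = ph k H (Coh.structureModule X) + ph k H Λ.M) (D : Dat x A Λ) (hx : x ≠ genericPoint X)
  (hss : StabCat.IsMuSS Coh.IsCoh (IsHilbPoly k X H) 2 A.M)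
  (f : Coh.structureModule X ⟶ A.M) (hf : Mono f) (m : ℕ)

/-- The degree of an invertible module. -/
noncomputable def dg (H M : X.Modules) : ℚ := ph k H M - ph k H (Coh.structureModule X)

include hH hdim in
theorem dg_eq {B : Lt X X.functionField} {μ : C1 X → X.functionField} (hB : PicF.IsInvertible B.M)
    (h : Gens B μ) : dg k H B.M = -∑ᶠ y : C1 X, dlt k H 2 y * (ordK (X.presheaf.stalk y.1) (μ y) : ℚ) := by
  have hL := Gens.deg (bijective_e hB) h (adt_ph k hH hdim)
  have h1 : ∑ᶠ y : C1 X, dlt k H 2 y * (ordK (X.presheaf.stalk y.1) (μ y) : ℚ) =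
      ∑ᶠ y : C1 X, (ordK (X.presheaf.stalk y.1) (μ y) : ℚ) * ph k H (gm y.1) :=
    finsum_congr fun y => mul_comm _ _
  rw [dg, hL, h1]
  ring

include hH hdim hE hss hf D hx hΛ Hl in
/-- Comparison of a form with a family of orders. -/
theorem le_of_form {P : Polynomial X.functionField} (hP : P ≠ 0) (hPm : P.natDegree ≤ m) (g : C1 X → ℤ)
    (hg : {y | g y ≠ 0}.Finite) (h : ∀ y, g y ≤ cont (X.presheaf.stalk y.1) (loc (α y) (β y) P)) :
    2 * ∑ᶠ y : C1 X, dlt k H 2 y * (g y : ℚ) ≤ m * dg k H Λ.M := by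
  have h1 := deg_le k hH hdim Hl hΛ hE D hx hss hP
  have h2 := deg_nonneg k hH hdim hE D hx hss f hf
  have h3 : ∑ᶠ y : C1 X, dlt k H 2 y * (g y : ℚ) ≤
      ∑ᶠ y : C1 X, dlt k H 2 y * (cont (X.presheaf.stalk y.1) (loc (α y) (β y) P) : ℚ) := by
    refine finsum_le_finsum' (K94.Glob.supp_finite _ hg) (K94.Glob.supp_finite _ (K94.Glob.finite_loc
      (K := X.functionField) (fun y : C1 X => X.presheaf.stalk y.1) α β (fun f hf => finite_ordK hf) Hl.gen.ne
      (finite_bad Hl D hx) hP)) fun y => ?_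
    exact mul_le_mul_of_nonneg_left (Int.cast_le.2 (h y)) (dlt_pos k hH hdim y).le
  have h4 : (P.natDegree : ℚ) * (ph k H Λ.M - ph k H (Coh.structureModule X)) ≤
      m * (ph k H Λ.M - ph k H (Coh.structureModule X)) :=
    mul_le_mul_of_nonneg_right (Nat.cast_le.2 hPm) h2
  unfold dg
  linarith

include hH hdim hE hss hf D hx hΛ Hl in
/-- **Vanishing of the sections.** -/
theorem section_eq_zero {B : Lt X X.functionField} (hB : PicF.IsInvertible B.M)
    (hneg : 2 * dg k H B.M + m * dg k H Λ.M < 0) (t : Γ(CohB1.tensorMod (S A m).M B.M, ⊤)) : t = 0 := by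
  obtain ⟨μ, hμ⟩ := exists_gens hB
  have hinj : Function.Injective (twE (S A m) B) := twE_injective (S A m) B hB
  have htf : TorSh.IsTorsionFree (CohB1.tensorMod (S A m).M B.M) := isTorsionFree_tw (S A m).tf hB
  have hcoh : Coh.IsCoh (CohB1.tensorMod (S A m).M B.M) := isCoh_tw (S A m).coh hB
  have hmem : ∀ y : X, twE (S A m) B ((CohB1.tensorMod (S A m).M B.M).presheaf.germ ⊤ (genericPoint X) trivial t) ∈
      lat (CohB1.tensorMod (S A m).M B.M) (twE (S A m) B) y := fun y =>
    ⟨(CohB1.tensorMod (S A m).M B.M).presheaf.germ ⊤ y trivial t, by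
      change twE (S A m) B ((CohB1.tensorMod (S A m).M B.M).presheaf.stalkSpecializes (gen y) _) = _
      rw [germ_spec]⟩
  by_cases h0 : twE (S A m) B ((CohB1.tensorMod (S A m).M B.M).presheaf.germ ⊤ (genericPoint X) trivial t) = 0
  · have h1 : (CohB1.tensorMod (S A m).M B.M).presheaf.germ ⊤ (genericPoint X) trivial t = 0 :=
      hinj (by rw [h0, map_zero])
    refine eq_zero_of_germ _ fun y hy => ?_
    apply spec_injective hcoh.1 htf y
    rw [map_zero, germ_spec]
    exact h1
  · exfalso
    have h1 := le_of_form k hH hdim Hl hΛ hE D hx hss f hf m h0 (natDegree_tw D m _ (hmem (genericPoint X)))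
      (fun y => ordK (X.presheaf.stalk y.1) (μ y)) (hμ.fin (bijective_e hB))
      (fun y => le_cont_tw Hl D m hμ y h0 (hmem y.1))
    have h2 := dg_eq k hH hdim hB hμ
    linarith

include D hx in
theorem X_pow_mem {j : ℕ} (hj : j ≤ m) : (Polynomial.X ^ j : Polynomial X.functionField) ∈ (S A m).lat (genericPoint X) := by
  obtain ⟨v₀, v₁, h0, h1⟩ := exists_v D hx
  have hX : (Polynomial.X : Polynomial X.functionField) ∈ A.lat (genericPoint X) := (mem_lat_gen _).2 ⟨v₁, h1⟩
  have h2 : ∀ j : ℕ, (Polynomial.X ^ j : Polynomial X.functionField) ∈ (S A j).lat (genericPoint X) := by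
    intro j
    induction j with
    | zero => exact (mem_S_zero A _ _).2 ⟨1, by rw [map_one, Polynomial.C_1, pow_zero]⟩
    | succ j ih =>
      rw [pow_succ']
      exact mul_mem A hX ih
  have h3 : ∀ i : ℕ, (Polynomial.X ^ j : Polynomial X.functionField) ∈ (S A (j + i)).lat (genericPoint X) := by
    intro i
    induction i with
    | zero => exact h2 j
    | succ i ih => exact S_mono D _ _ ih
  have h4 := h3 (m - j)
  rwa [Nat.add_sub_cancel' hj] at h4

include D hx in
theorem exists_z {B : Lt X X.functionField} (hB : PicF.IsInvertible B.M) (j : ℕ) (hj : j ≤ m) :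
    ∃ z, twE (S A m) B z = Polynomial.X ^ j := by
  obtain ⟨v, hv⟩ := (mem_lat_gen _).1 (X_pow_mem D hx m hj)
  obtain ⟨b, hb⟩ := (bijective_e hB).2 1
  refine ⟨tst v b, ?_⟩
  have h := tmap_tst sm (S A m).e B.e v b
  rw [hv, hb, sm_apply, one_smul] at h
  exact h

/-- A functional with given values on the monomials. -/
noncomputable def fn (c : ℕ → X.functionField) : Polynomial X.functionField →ₗ[X.functionField] X.functionField :=
  ∑ j ∈ Finset.range (m + 1), c j • Polynomial.lcoeff X.functionField j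

theorem fn_apply (c : ℕ → X.functionField) (Q : Polynomial X.functionField) :
    fn m c Q = ∑ j ∈ Finset.range (m + 1), Q.coeff j * c j := by
  unfold fn
  rw [LinearMap.sum_apply]
  refine Finset.sum_congr rfl fun j _ => ?_
  rw [LinearMap.smul_apply, Polynomial.lcoeff_apply, smul_eq_mul, mul_comm]

theorem fn_X_pow (c : ℕ → X.functionField) {j : ℕ} (hj : j ≤ m) : fn m c (Polynomial.X ^ j) = c j := by
  rw [fn_apply, Finset.sum_eq_single j]
  · rw [Polynomial.coeff_X_pow_self, one_mul]
  · intro i _ hi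
    rw [Polynomial.coeff_X_pow, if_neg hi, zero_mul]
  · intro h
    exact absurd (Finset.mem_range.2 (by omega)) h

theorem fn_C_mul (c : ℕ → X.functionField) (a : X.functionField) (Q : Polynomial X.functionField) :
    fn m c (C a * Q) = a * fn m c Q := by
  rw [← Polynomial.smul_eq_C_mul, map_smul, smul_eq_mul]

include D hx in
theorem exists_fn {B W : Lt X X.functionField} (hB : PicF.IsInvertible B.M)
    (θ : CohB1.tensorMod (S A m).M B.M ⟶ W.M) :
    ∃ c : ℕ → X.functionField, ∀ t, W.e (stalkLin θ (genericPoint X) t) = fn m c (twE (S A m) B t) := by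
  have h := exists_z D hx m hB
  choose! z hz using h
  refine ⟨fun j => W.e (stalkLin θ (genericPoint X) (z j)), fun t => ?_⟩
  have hdeg : (twE (S A m) B t).natDegree ≤ m := by
    refine natDegree_tw (B := B) D m (genericPoint X) ⟨t, ?_⟩
    change twE (S A m) B ((CohB1.tensorMod (S A m).M B.M).presheaf.stalkSpecializes (gen (genericPoint X)) t) = _
    rw [spec_gen]
  have h1 : t = ∑ j ∈ Finset.range (m + 1),
      ((twE (S A m) B t).coeff j : X.presheaf.stalk (genericPoint X)) • z j := by
    apply twE_injective (S A m) B hB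
    rw [map_sum]
    have h2 := (twE (S A m) B t).as_sum_range_C_mul_X_pow' (n := m + 1) (by omega)
    refine h2.trans (Finset.sum_congr rfl fun j hj => ?_)
    rw [Finset.mem_range] at hj
    rw [map_smul, hz j (by omega)]
    exact (Polynomial.smul_eq_C_mul _).symm
  rw [fn_apply]
  conv_lhs => rw [h1]
  rw [map_sum, map_sum]
  refine Finset.sum_congr rfl fun j _ => ?_
  rw [map_smul, map_smul]
  rfl

include hH hdim hE hss hf D hx hΛ Hl in
/-- **Vanishing of the homomorphisms.** -/
theorem hom_eq_zero {B W : Lt X X.functionField} (hB : PicF.IsInvertible B.M) (hW : PicF.IsInvertible W.M)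
    (hneg : 2 * dg k H W.M < 2 * dg k H B.M + m * dg k H Λ.M)
    (θ : CohB1.tensorMod (S A m).M B.M ⟶ W.M) : θ = 0 := by
  obtain ⟨μ, hμ⟩ := exists_gens hB
  obtain ⟨ω, hω⟩ := exists_gens hW
  obtain ⟨c, hc⟩ := exists_fn D hx m hB θ
  by_cases h0 : K94.Form.form m (fn m c) = 0
  · refine eq_zero_of_generic W.coh.1 W.tf θ ?_
    ext t
    apply W.inj
    rw [hc, fn_apply, LinearMap.zero_apply, map_zero]
    refine Finset.sum_eq_zero fun j hj => ?_
    rw [Finset.mem_range] at hj
    have h1 := K94.Form.eq_zero_of_form m (fn m c) h0 (j := j) (by omega)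
    rw [fn_X_pow m c (by omega)] at h1
    rw [h1, mul_zero]
  · exfalso
    have key : ∀ y : C1 X, ordK (X.presheaf.stalk y.1) (ω y) - ordK (X.presheaf.stalk y.1) (μ y) -
        m * ordK (X.presheaf.stalk y.1) (α y) ≤
        cont (X.presheaf.stalk y.1) (loc (α y) (β y) (K94.Form.form m (fn m c))) := by
      intro y
      have hμ0 := hμ.ne y
      have hω0 := hω.ne y
      have h1 := K94.Form.le_cont (R := X.presheaf.stalk y.1) m (fn m c) (Hl.gen.ne y) (β y)
        (c := ω y * (μ y)⁻¹) (mul_ne_zero hω0 (inv_ne_zero hμ0)) h0 (fun j hj => by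
          have h2 : (C (α y) * Polynomial.X + C (β y)) ^ j ∈ (S A m).lat y.1 := by
            rw [lat_S Hl D]
            refine ⟨Polynomial.X ^ j, ?_, ?_⟩
            · rw [Polynomial.natDegree_X_pow]
              exact hj
            · rw [Polynomial.map_pow, Polynomial.map_X, Polynomial.X_pow_comp]
          obtain ⟨z, hz⟩ := (mem_tw (A := A) m hμ y _).2 ⟨_, h2, rfl⟩
          have h3 := hc ((CohB1.tensorMod (S A m).M B.M).presheaf.stalkSpecializes (gen y.1) z)
          rw [stalkLin_spec] at h3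
          have h4 : twE (S A m) B ((CohB1.tensorMod (S A m).M B.M).presheaf.stalkSpecializes (gen y.1) z) =
            C (μ y) * (C (α y) * Polynomial.X + C (β y)) ^ j := hz
          rw [h4, fn_C_mul] at h3
          obtain ⟨s, hs⟩ := (hω.mem y _).1 (show W.e (W.M.presheaf.stalkSpecializes (gen y.1) (stalkLin θ y.1 z)) ∈
            W.lat y.1 from ⟨_, rfl⟩)
          rw [h3] at hs
          refine ⟨s, ?_⟩
          rw [← mul_assoc, ← hs]
          field_simp)
      have h5 : ordK (X.presheaf.stalk y.1) (ω y * (μ y)⁻¹) =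
          ordK (X.presheaf.stalk y.1) (ω y) - ordK (X.presheaf.stalk y.1) (μ y) := by
        rw [ordK_mul _ hω0 (inv_ne_zero hμ0), ordK_inv]
        ring
      rw [h5] at h1
      exact h1
    have f1 := hω.fin (bijective_e hW)
    have f2 := hμ.fin (bijective_e hB)
    have f3 := Hl.gen.fin (bijective_e hΛ)
    have h1 := le_of_form k hH hdim Hl hΛ hE D hx hss f hf m h0 (K94.Form.natDegree_form m _)
      (fun y => ordK (X.presheaf.stalk y.1) (ω y) - ordK (X.presheaf.stalk y.1) (μ y) -
        m * ordK (X.presheaf.stalk y.1) (α y)) (((f1.union f2).union f3).subset fun y hy => by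
          by_contra h
          simp only [Set.mem_union, Set.mem_ofPred_eq, not_or, not_not] at h
          obtain ⟨⟨e1, e2⟩, e3⟩ := h
          apply hy
          rw [e1, e2, e3]
          ring) key
    have e1 := dg_eq k hH hdim hW hω
    have e2 := dg_eq k hH hdim hB hμ
    have e3 := dg_eq k hH hdim hΛ Hl.gen
    have s1 := K94.Glob.supp_finite (dlt k H 2) f1
    have s2 := K94.Glob.supp_finite (dlt k H 2) f2
    have s3 := K94.Glob.supp_finite (dlt k H 2) f3
    have h2 : ∑ᶠ y : C1 X, dlt k H 2 y * ((ordK (X.presheaf.stalk y.1) (ω y) - ordK (X.presheaf.stalk y.1) (μ y) -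
        m * ordK (X.presheaf.stalk y.1) (α y) : ℤ) : ℚ) =
        ∑ᶠ y : C1 X, dlt k H 2 y * (ordK (X.presheaf.stalk y.1) (ω y) : ℚ) -
        ∑ᶠ y : C1 X, dlt k H 2 y * (ordK (X.presheaf.stalk y.1) (μ y) : ℚ) -
        m * ∑ᶠ y : C1 X, dlt k H 2 y * (ordK (X.presheaf.stalk y.1) (α y) : ℚ) := by
      rw [mul_finsum, ← finsum_sub_distrib s1 s2, ← finsum_sub_distrib]
      · refine finsum_congr fun y => ?_
        push_cast
        ring
      · refine (s1.union s2).subset fun y hy => ?_
        by_contra h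
        simp only [Set.mem_union, Function.mem_support, not_or, not_not] at h
        exact hy (by dsimp only; rw [h.1, h.2, sub_zero])
      · refine s3.subset fun y hy => ?_
        by_contra h
        simp only [Function.mem_support, not_not] at h
        exact hy (by dsimp only; rw [h, mul_zero])
    rw [h2, e3] at h1
    rw [e1, e2, e3] at hneg
    linarith

end van

end K94.Van
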